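import Mathlib

/-!
# Data: the small class as a bit mask, and a section of the Todd map
-/

set_option autoImplicit false

namespace CfsgLib.Sporadic.LargeFischer.Hexa

/-- The small class. -/
def dMask : ℕ := 1009914160235167765086321490476667468290516010040786688875762053179917234229163569956136567805216352906155072061420837679440920560362564884483851206480399312299650058877858963902725968813962569426749620968422899021487756557127269388429496095712102314406188331391337800088343567081828014245747415241583931261792973819620916718048204557469978184276923694032327183237091088843644332144869642791784537117444915794997306632829385135007935222251260300317366958845500573386746102102823511170663850962815850747523951924683317482654344527049826640889814239806192806674181805311583294988719958965625140463295900923471169853310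

/-- Sets of points with prescribed images. -/
def toddWit : List ℕ := [3462, 3522, 3527, 686, 1375, 2554, 2222, 1916, 1416, 2361, 1599, 3189]

end CfsgLib.Sporadic.LargeFischer.Hexa
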