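import Cfsg.Agent.Lib.Sporadic.LargeFischer.Hexa.SignData
import Cfsg.Agent.Lib.Sporadic.LargeFischer.Hexa.ToddData
import Cfsg.Agent.Lib.SmallGroups.M24Group

/-!
# Maps preserving the small class come from the Mathieu group

The small class consists of the 276 sums of two of the 24 point codes, and two of its members add up to a third
exactly when they share a point; the points are thus permuted, and the kernel of the resulting map is the code.
-/

set_option autoImplicit false
set_option linter.unusedSectionVars false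
set_option maxRecDepth 40000

namespace CfsgLib.Sporadic.LargeFischer.Hexa

open Cfsg CfsgLib.SmallGroups.Golay CfsgLib.SmallGroups.M24Group

/-- Membership of the small class. -/
def inDm (n : ℕ) : Bool := dMask.testBit n

theorem inDm_all : (List.range 2048).all (fun n => inDm n == inD sgnB n) = true := by decide +kernel

theorem inDm_eq {n : ℕ} (h : n < 2048) : inDm n = inD sgnB n :=
  beq_iff_eq.1 (List.all_eq_true.1 inDm_all n (List.mem_range.2 h))

/-- The code of a point. -/
def phi (p : GolayPt) : ℕ := pcode (idx p)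

/-- The code of a pair. -/
def duad (i j : ℕ) : ℕ := pcode i ^^^ pcode j

theorem point_facts : (List.range 24).all (fun i => decide (pcode i < 2048) &&
    (List.range 24).all fun j => i == j || inDm (duad i j)) = true ∧ pcode 23 = 0 := by decide +kernel

/-- The pairs in increasing order. -/
def pairList : List (ℕ × ℕ) := ((List.range 24).flatMap fun i => (List.range 24).map fun j => (i, j)).filter fun p => decide (p.1 < p.2)

theorem duad_facts : (pairList.map fun p => duad p.1 p.2).Nodup ∧ pairList.length = 276 ∧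
    ((List.range 2048).filter inDm).length = 276 := by decide +kernel

theorem comp_facts : (pairList.all fun p =>
    (pairList.filter fun q => inDm (duad p.1 p.2 ^^^ duad q.1 q.2)).all fun q =>
      p.1 == q.1 || p.1 == q.2 || p.2 == q.1 || p.2 == q.2) = true := by decide +kernel

theorem phi_lt (p : GolayPt) : phi p < 2048 := by
  have h := List.all_eq_true.1 point_facts.1 (idx p) (List.mem_range.2 (idx_lt p))
  rw [Bool.and_eq_true, decide_eq_true_eq] at h
  exact h.1

theorem phi_none : phi none = 0 := point_facts.2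

theorem duad_inDm {p q : GolayPt} (h : p ≠ q) : inDm (phi p ^^^ phi q) = true := by
  have h1 := List.all_eq_true.1 point_facts.1 (idx p) (List.mem_range.2 (idx_lt p))
  rw [Bool.and_eq_true, List.all_eq_true] at h1
  have h2 := h1.2 (idx q) (List.mem_range.2 (idx_lt q))
  rw [Bool.or_eq_true, beq_iff_eq] at h2
  exact h2.resolve_left fun e => h (idx_injective e)

theorem phi_lt_xor (p q : GolayPt) : phi p ^^^ phi q < 2048 := Nat.xor_lt_two_pow (n := 11) (phi_lt p) (phi_lt q)

theorem mem_pairList {i j : ℕ} : (i, j) ∈ pairList ↔ i < j ∧ j < 24 := by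
  simp only [pairList, List.mem_filter, List.mem_flatMap, List.mem_map, List.mem_range, decide_eq_true_eq, Prod.mk.injEq]
  constructor
  · rintro ⟨⟨a, -, b, hb, rfl, rfl⟩, h⟩; exact ⟨h, hb⟩
  · rintro ⟨h1, h2⟩; exact ⟨⟨i, by omega, j, h2, rfl, rfl⟩, h1⟩

theorem sorted_pair {p q : GolayPt} (h : p ≠ q) : ∃ i j, (i, j) ∈ pairList ∧ duad i j = phi p ^^^ phi q ∧
    ((i = idx p ∧ j = idx q) ∨ (i = idx q ∧ j = idx p)) := by
  rcases lt_or_gt_of_ne fun e => h (idx_injective e) with e | e
  · exact ⟨_, _, mem_pairList.2 ⟨e, idx_lt q⟩, rfl, Or.inl ⟨rfl, rfl⟩⟩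
  · exact ⟨_, _, mem_pairList.2 ⟨e, idx_lt p⟩, Nat.xor_comm _ _, Or.inr ⟨rfl, rfl⟩⟩

/-- A pair is determined by its code. -/
theorem duad_inj {p q r s : GolayPt} (h : p ≠ q) (h' : r ≠ s) (e : phi p ^^^ phi q = phi r ^^^ phi s) :
    (p = r ∧ q = s) ∨ (p = s ∧ q = r) := by
  obtain ⟨i, j, hij, ed, hc⟩ := sorted_pair h
  obtain ⟨k, l, hkl, ed', hc'⟩ := sorted_pair h'
  have := List.inj_on_of_nodup_map duad_facts.1 hij hkl (ed.trans (e.trans ed'.symm))
  obtain ⟨rfl, rfl⟩ := Prod.mk.inj this
  rcases hc with ⟨a, b⟩ | ⟨a, b⟩ <;> rcases hc' with ⟨c, d⟩ | ⟨c, d⟩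
  · exact Or.inl ⟨idx_injective (a.symm.trans c), idx_injective (b.symm.trans d)⟩
  · exact Or.inr ⟨idx_injective (a.symm.trans c), idx_injective (b.symm.trans d)⟩
  · exact Or.inr ⟨idx_injective (b.symm.trans d), idx_injective (a.symm.trans c)⟩
  · exact Or.inl ⟨idx_injective (b.symm.trans d), idx_injective (a.symm.trans c)⟩

theorem duad_surj {n : ℕ} (hn : n < 2048) (hd : inDm n = true) : ∃ p q : GolayPt, p ≠ q ∧ phi p ^^^ phi q = n := by
  have hsub : (pairList.map fun p => duad p.1 p.2).toFinset ⊆ ((List.range 2048).filter inDm).toFinset := by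
    intro m hm
    simp only [List.mem_toFinset, List.mem_map] at hm
    obtain ⟨⟨i, j⟩, hp, rfl⟩ := hm
    obtain ⟨h1, h2⟩ := mem_pairList.1 hp
    have a := List.all_eq_true.1 point_facts.1 i (List.mem_range.2 (by omega))
    have b := List.all_eq_true.1 point_facts.1 j (List.mem_range.2 h2)
    rw [Bool.and_eq_true, decide_eq_true_eq, List.all_eq_true] at a b
    have c := a.2 j (List.mem_range.2 h2)
    rw [Bool.or_eq_true, beq_iff_eq] at c
    simp only [List.mem_toFinset, List.mem_filter, List.mem_range]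
    exact ⟨Nat.xor_lt_two_pow (n := 11) a.1 b.1, c.resolve_left (by omega)⟩
  have heq := Finset.eq_of_subset_of_card_le hsub (by
    rw [List.toFinset_card_of_nodup duad_facts.1, List.toFinset_card_of_nodup (List.nodup_range.filter _),
      List.length_map, duad_facts.2.1, duad_facts.2.2])
  have hn' : n ∈ (pairList.map fun p => duad p.1 p.2).toFinset := by
    rw [heq]; simp [hn, hd]
  simp only [List.mem_toFinset, List.mem_map] at hn'
  obtain ⟨⟨i, j⟩, hp, e⟩ := hn'
  obtain ⟨h1, h2⟩ := mem_pairList.1 hp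
  refine ⟨pt i, pt j, fun h => ?_, ?_⟩
  · have := congrArg idx h
    rw [idx_pt (by omega), idx_pt h2] at this
    omega
  · rw [phi, phi, idx_pt (by omega), idx_pt h2]
    exact e

/-- Two pairs adding up to a member share a point. -/
theorem duad_meet {p q r s : GolayPt} (h : p ≠ q) (h' : r ≠ s) (e : inDm ((phi p ^^^ phi q) ^^^ (phi r ^^^ phi s)) = true) :
    p = r ∨ p = s ∨ q = r ∨ q = s := by
  obtain ⟨i, j, hij, ed, hc⟩ := sorted_pair h
  obtain ⟨k, l, hkl, ed', hc'⟩ := sorted_pair h'
  have h1 := List.all_eq_true.1 comp_facts (i, j) hij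
  rw [List.all_eq_true] at h1
  have h2 := h1 (k, l) (List.mem_filter.2 ⟨hkl, by rw [ed, ed']; exact e⟩)
  simp only [Bool.or_eq_true, beq_iff_eq] at h2
  rcases hc with ⟨a, b⟩ | ⟨a, b⟩ <;> rcases hc' with ⟨c, d⟩ | ⟨c, d⟩ <;> subst a b c d <;>
    rcases h2 with ((e' | e') | e') | e' <;> simp [idx_injective e']

/-- A map of the codes preserving sums and the small class. -/
structure Auto (f : ℕ → ℕ) : Prop where
  lt : ∀ n, n < 2048 → f n < 2048
  add : ∀ a b, a < 2048 → b < 2048 → f (a ^^^ b) = f a ^^^ f b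
  inj : ∀ a b, a < 2048 → b < 2048 → f a = f b → a = b
  pres : ∀ n, n < 2048 → inDm n = true → inDm (f n) = true

/-- Four points do not exhaust the points. -/
theorem exists_pt_notMem (s : Finset GolayPt) (hs : s.card ≤ 4) : ∃ q, q ∉ s := by
  by_contra hall
  push Not at hall
  have h := Finset.card_le_card (fun a _ => hall a : Finset.univ ⊆ s)
  simp only [Finset.card_univ, Fintype.card_option, ZMod.card] at h
  omega

namespace Auto

variable {f : ℕ → ℕ} (h : Auto f)
include h

theorem exists_star (p : GolayPt) :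
    ∃ r : GolayPt, ∀ q, q ≠ p → ∃ s, s ≠ r ∧ f (phi p ^^^ phi q) = phi r ^^^ phi s := by
  classical
  have himg : ∀ q, q ≠ p → ∃ a b : GolayPt, a ≠ b ∧ phi a ^^^ phi b = f (phi p ^^^ phi q) := fun q hq =>
    duad_surj (h.lt _ (phi_lt_xor p q)) (h.pres _ (phi_lt_xor p q) (duad_inDm hq.symm))
  choose A B hAB hE using himg
  have hinj : ∀ (q : GolayPt) (_ : q ≠ p) (q' : GolayPt) (_ : q' ≠ p), f (phi p ^^^ phi q) = f (phi p ^^^ phi q') → q = q' := by
    intro q hq q' hq' e
    rcases duad_inj hq.symm hq'.symm (h.inj _ _ (phi_lt_xor p q) (phi_lt_xor p q') e) with ⟨-, e'⟩ | ⟨e', -⟩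
    · exact e'
    · exact absurd e'.symm hq'
  have hmeet : ∀ q hq q' hq', q ≠ q' →
      A q hq = A q' hq' ∨ A q hq = B q' hq' ∨ B q hq = A q' hq' ∨ B q hq = B q' hq' := by
    intro q hq q' hq' hne
    refine duad_meet (hAB q hq) (hAB q' hq') ?_
    rw [hE q hq, hE q' hq', ← h.add _ _ (phi_lt_xor p q) (phi_lt_xor p q')]
    refine h.pres _ (Nat.xor_lt_two_pow (n := 11) (phi_lt_xor p q) (phi_lt_xor p q')) ?_
    rw [show phi p ^^^ phi q ^^^ (phi p ^^^ phi q') = phi q ^^^ phi q' by
      rw [Nat.xor_comm (phi p) (phi q), Nat.xor_assoc, ← Nat.xor_assoc (phi p), Nat.xor_self, Nat.zero_xor]]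
    exact duad_inDm hne
  obtain ⟨q₁, hq₁⟩ := exists_ne p
  obtain ⟨q₂, hq₂⟩ : ∃ q₂, q₂ ∉ ({p, q₁} : Finset GolayPt) := by
    exact exists_pt_notMem _ (by first
      | exact Finset.card_le_four
      | exact Finset.card_le_two.trans (by norm_num))
  simp only [Finset.mem_insert, Finset.mem_singleton, not_or] at hq₂
  -- the common point of the first two
  have key : ∀ r a b : GolayPt, a ≠ r → b ≠ r → a ≠ b → f (phi p ^^^ phi q₁) = phi r ^^^ phi a →
      f (phi p ^^^ phi q₂) = phi r ^^^ phi b → ∀ q hq, A q hq = r ∨ B q hq = r := by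
    intro r a b har hbr hab e1 e2 q hq
    by_contra hc
    push Not at hc
    -- the exceptional pair
    have hset : ∀ q hq, A q hq ≠ r → B q hq ≠ r →
        f (phi p ^^^ phi q) = phi a ^^^ phi b := by
      intro q hq hA hB
      have hq1 : q ≠ q₁ := fun e => by
        subst e
        rcases duad_inj (hAB q hq) har.symm ((hE q hq).trans e1) with ⟨x, -⟩ | ⟨-, x⟩
        · exact hA x
        · exact hB x
      have hq2 : q ≠ q₂ := fun e => by
        subst e
        rcases duad_inj (hAB q hq) hbr.symm ((hE q hq).trans e2) with ⟨x, -⟩ | ⟨-, x⟩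
        · exact hA x
        · exact hB x
      have m1 : A q hq = a ∨ B q hq = a := by
        rcases duad_inj (hAB q₁ hq₁) har.symm ((hE q₁ hq₁).trans e1) with ⟨x, y⟩ | ⟨x, y⟩ <;>
          rcases hmeet q hq q₁ hq₁ hq1 with e | e | e | e <;> simp_all
      have m2 : A q hq = b ∨ B q hq = b := by
        rcases duad_inj (hAB q₂ hq₂.1) hbr.symm ((hE q₂ hq₂.1).trans e2) with ⟨x, y⟩ | ⟨x, y⟩ <;>
          rcases hmeet q hq q₂ hq₂.1 hq2 with e | e | e | e <;> simp_all
      rw [← hE q hq]
      rcases m1 with e | e <;> rcases m2 with e' | e'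
      · exact absurd (e.symm.trans e') hab
      · rw [e, e']
      · rw [e, e', Nat.xor_comm]
      · exact absurd (e.symm.trans e') hab
    have hqe := hset q hq hc.1 hc.2
    -- a fourth point
    obtain ⟨q₄, hq₄⟩ : ∃ q₄, q₄ ∉ ({p, q₁, q₂, q} : Finset GolayPt) := by
      exact exists_pt_notMem _ (by first
        | exact Finset.card_le_four
        | exact Finset.card_le_two.trans (by norm_num))
    simp only [Finset.mem_insert, Finset.mem_singleton, not_or] at hq₄
    obtain ⟨h4p, h41, h42, h4q⟩ := hq₄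
    rcases em (A q₄ h4p = r ∨ B q₄ h4p = r) with hr | hr
    · -- it contains `r`; its other point is `a` or `b`
      obtain ⟨e, he, hre⟩ : ∃ e, e ≠ r ∧ f (phi p ^^^ phi q₄) = phi r ^^^ phi e := by
        rcases hr with x | x
        · exact ⟨_, fun y => hAB q₄ h4p (x.trans y.symm), by rw [← hE q₄ h4p, x]⟩
        · exact ⟨_, fun y => hAB q₄ h4p (y.trans x.symm), by rw [← hE q₄ h4p, x, Nat.xor_comm]⟩
      have hm : r = a ∨ r = b ∨ e = a ∨ e = b := by
        refine duad_meet he.symm hab ?_
        rw [← hre, ← hqe, ← h.add _ _ (phi_lt_xor p q₄) (phi_lt_xor p q)]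
        refine h.pres _ (Nat.xor_lt_two_pow (n := 11) (phi_lt_xor p q₄) (phi_lt_xor p q)) ?_
        rw [show phi p ^^^ phi q₄ ^^^ (phi p ^^^ phi q) = phi q₄ ^^^ phi q by
          rw [Nat.xor_comm (phi p) (phi q₄), Nat.xor_assoc, ← Nat.xor_assoc (phi p), Nat.xor_self, Nat.zero_xor]]
        exact duad_inDm h4q
      rcases hm with x | x | x | x
      · exact har x.symm
      · exact hbr x.symm
      · exact h41 (hinj q₄ h4p q₁ hq₁ (by rw [hre, x, e1]))
      · exact h42 (hinj q₄ h4p q₂ hq₂.1 (by rw [hre, x, e2]))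
    · push Not at hr
      exact h4q (hinj q₄ h4p q hq (by rw [hset q₄ h4p hr.1 hr.2, hqe]))
  obtain ⟨r, a, b, har, hbr, e1, e2⟩ : ∃ r a b : GolayPt, a ≠ r ∧ b ≠ r ∧
      f (phi p ^^^ phi q₁) = phi r ^^^ phi a ∧ f (phi p ^^^ phi q₂) = phi r ^^^ phi b := by
    have c1 := hAB q₁ hq₁
    have c2 := hAB q₂ hq₂.1
    rcases hmeet q₁ hq₁ q₂ hq₂.1 (Ne.symm hq₂.2) with e | e | e | e
    · exact ⟨_, _, _, c1.symm, fun x => c2 (e.symm.trans x.symm), (hE q₁ hq₁).symm, by rw [e]; exact (hE q₂ hq₂.1).symm⟩
    · exact ⟨_, _, _, c1.symm, fun x => c2 (x.trans e), (hE q₁ hq₁).symm,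
        (hE q₂ hq₂.1).symm.trans (by rw [e]; exact Nat.xor_comm _ _)⟩
    · exact ⟨_, _, _, c1, fun x => c2 (e.symm.trans x.symm), (hE q₁ hq₁).symm.trans (Nat.xor_comm _ _),
        by rw [e]; exact (hE q₂ hq₂.1).symm⟩
    · exact ⟨_, _, _, c1, fun x => c2 (x.trans e), (hE q₁ hq₁).symm.trans (Nat.xor_comm _ _),
        (hE q₂ hq₂.1).symm.trans (by rw [e]; exact Nat.xor_comm _ _)⟩
  have hab : a ≠ b := fun e => hq₂.2 (hinj q₂ hq₂.1 q₁ hq₁ (by rw [e1, e2, e]))
  refine ⟨r, fun q hq => ?_⟩
  rcases key r a b har hbr hab e1 e2 q hq with x | x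
  · exact ⟨_, fun y => hAB q hq (x.trans y.symm), by rw [← hE q hq, x]⟩
  · exact ⟨_, fun y => hAB q hq (y.trans x.symm), by rw [← hE q hq, x, Nat.xor_comm]⟩

/-- The permutation of the points. -/
theorem exists_perm : ∃ σ : Equiv.Perm GolayPt, ∀ p q, f (phi p ^^^ phi q) = phi (σ p) ^^^ phi (σ q) := by
  classical
  choose r hr using h.exists_star
  have hfix : f 0 = 0 := by
    have := h.add 0 0 (by norm_num) (by norm_num)
    rwa [Nat.xor_self, Nat.xor_self] at this
  have hrinj : Function.Injective r := by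
    intro p p' e
    by_contra hne
    obtain ⟨q, hq⟩ : ∃ q, q ∉ ({p, p'} : Finset GolayPt) := by
      exact exists_pt_notMem _ (by first
        | exact Finset.card_le_four
        | exact Finset.card_le_two.trans (by norm_num))
    simp only [Finset.mem_insert, Finset.mem_singleton, not_or] at hq
    -- more than 23 pairs would go to the star of one point
    let g : GolayPt → ℕ := fun s => f (phi p ^^^ phi s)
    have himg : (Finset.univ.filter fun s => s ≠ p).image g ∪ {f (phi p' ^^^ phi q)} ⊆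
        (Finset.univ.filter fun s => s ≠ r p).image fun s => phi (r p) ^^^ phi s := by
      intro m hm
      rw [Finset.mem_union, Finset.mem_image, Finset.mem_singleton] at hm
      rw [Finset.mem_image]
      rcases hm with ⟨s, hs, rfl⟩ | rfl
      · obtain ⟨t, ht, et⟩ := hr p s (Finset.mem_filter.1 hs).2
        exact ⟨t, Finset.mem_filter.2 ⟨Finset.mem_univ _, ht⟩, et.symm⟩
      · obtain ⟨t, ht, et⟩ := hr p' q hq.2
        rw [← e] at et ht
        exact ⟨t, Finset.mem_filter.2 ⟨Finset.mem_univ _, ht⟩, et.symm⟩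
    have hge : ((Finset.univ.filter fun s => s ≠ p).image g).card = 23 := by
      rw [Finset.card_image_of_injOn, Finset.filter_ne', Finset.card_erase_of_mem (Finset.mem_univ p), Finset.card_univ]
      · simp
      · intro s hs s' hs' es
        rcases duad_inj (Ne.symm (Finset.mem_filter.1 hs).2) (Ne.symm (Finset.mem_filter.1 hs').2)
          (h.inj _ _ (phi_lt_xor p s) (phi_lt_xor p s') es) with ⟨-, e'⟩ | ⟨e', -⟩
        · exact e'
        · exact absurd e'.symm (Finset.mem_filter.1 hs').2
    have hnew : f (phi p' ^^^ phi q) ∉ (Finset.univ.filter fun s => s ≠ p).image g := by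
      rw [Finset.mem_image]
      rintro ⟨s, hs, es⟩
      rcases duad_inj (Ne.symm (Finset.mem_filter.1 hs).2) (Ne.symm hq.2)
        (h.inj _ _ (phi_lt_xor p s) (phi_lt_xor p' q) es) with ⟨e', -⟩ | ⟨e', -⟩
      · exact hne e'
      · exact hq.1 e'.symm
    have := (Finset.card_le_card himg).trans Finset.card_image_le
    rw [Finset.card_union_of_disjoint (Finset.disjoint_singleton_right.2 hnew), hge, Finset.card_singleton,
      Finset.filter_ne', Finset.card_erase_of_mem (Finset.mem_univ _), Finset.card_univ] at this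
    simp at this
  refine ⟨Equiv.ofBijective r ⟨hrinj, Finite.injective_iff_surjective.1 hrinj⟩, fun p q => ?_⟩
  show f _ = phi (r p) ^^^ phi (r q)
  by_cases hpq : p = q
  · subst hpq; rw [Nat.xor_self, Nat.xor_self, hfix]
  · obtain ⟨s, hs, es⟩ := hr p q (Ne.symm hpq)
    obtain ⟨t, ht, et⟩ := hr q p hpq
    rw [Nat.xor_comm, es] at et
    rcases duad_inj hs.symm ht.symm et with ⟨x, -⟩ | ⟨x, y⟩
    · exact absurd (hrinj x) hpq
    · rw [es, y]

end Auto

/-- Eleven bits and the parity. -/
def vec12 (n : ℕ) : Fin 12 → ZMod 2 := fun i => if (n ||| 2048).testBit i.1 then 1 else 0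

/-- The map from words to twelve bits. -/
def todd : (GolayPt → ZMod 2) →ₗ[ZMod 2] (Fin 12 → ZMod 2) where
  toFun w := ∑ p, w p • vec12 (phi p)
  map_add' v w := by simp only [Pi.add_apply, add_smul, Finset.sum_add_distrib]
  map_smul' a w := by simp only [Pi.smul_apply, smul_eq_mul, RingHom.id_apply, Finset.smul_sum, smul_smul]

theorem todd_apply (w : GolayPt → ZMod 2) : todd w = ∑ p, w p • vec12 (phi p) := rfl

theorem todd_gen : (∀ t : ZMod 23, ∀ i : Fin 12, (∑ p, qrWord t p • vec12 (phi p)) i = 0) ∧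
    ∀ i : Fin 12, (∑ p : GolayPt, vec12 (phi p)) i = 0 := by decide +kernel

theorem todd_wit : ∀ i j : Fin 12,
    (∑ p : GolayPt, (if (toddWit.getD i.1 0).testBit (idx p) then (1 : ZMod 2) else 0) • vec12 (phi p)) j =
      if i = j then 1 else 0 := by decide +kernel

theorem ker_todd : LinearMap.ker todd = golayCode := by
  have hle : golayCode ≤ LinearMap.ker todd := by
    refine Submodule.span_le.2 ?_
    rintro _ (⟨t, rfl⟩ | rfl) <;> rw [SetLike.mem_coe, LinearMap.mem_ker, todd_apply] <;> funext i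
    · exact todd_gen.1 t i
    · simpa using todd_gen.2 i
  have hsurj : Function.Surjective todd := by
    intro v
    refine ⟨∑ i : Fin 12, v i • fun p => if (toddWit.getD i.1 0).testBit (idx p) then (1 : ZMod 2) else 0, ?_⟩
    rw [map_sum]
    funext j
    rw [Finset.sum_apply, Finset.sum_eq_single j]
    · rw [map_smul, Pi.smul_apply, todd_apply, todd_wit, if_pos rfl, smul_eq_mul, mul_one]
    · intro i _ hi
      rw [map_smul, Pi.smul_apply, todd_apply, todd_wit, if_neg hi, smul_zero]
    · simp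
  refine (Submodule.eq_of_le_of_finrank_le hle ?_).symm
  have h := todd.finrank_range_add_finrank_ker
  rw [LinearMap.range_eq_top.2 hsurj, finrank_top, Module.finrank_pi, Module.finrank_pi, Fintype.card_fin] at h
  rw [finrank_code]
  have : Fintype.card GolayPt = 24 := by simp [Fintype.card_option]
  omega

/-- The number with the given low eleven bits. -/
def unvec (v : Fin 12 → ZMod 2) : ℕ :=
  (List.range 11).foldr (fun i acc => (if v (Fin.ofNat 12 i) = 1 then 2 ^ i else 0) ^^^ acc) 0

theorem vec_facts : (List.range 2048).all (fun n => unvec (vec12 n) == n) = true ∧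
    unvec 0 = 0 := by decide +kernel

theorem unvec_vec {n : ℕ} (h : n < 2048) : unvec (vec12 n) = n :=
  beq_iff_eq.1 (List.all_eq_true.1 vec_facts.1 n (List.mem_range.2 h))

theorem unvec_add (u v : Fin 12 → ZMod 2) : unvec (u + v) = unvec u ^^^ unvec v := by
  unfold unvec
  generalize List.range 11 = l
  induction l with
  | nil => simp
  | cons i l ih =>
    simp only [List.foldr_cons, Pi.add_apply] at ih ⊢
    rw [ih]
    have hite : ∀ a b : ZMod 2, (if a + b = 1 then 2 ^ i else 0) =
        (if a = 1 then 2 ^ i else 0) ^^^ (if b = 1 then 2 ^ i else 0) := by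
      intro a b
      rcases (by decide : ∀ c : ZMod 2, c = 0 ∨ c = 1) a with rfl | rfl <;>
        rcases (by decide : ∀ c : ZMod 2, c = 0 ∨ c = 1) b with rfl | rfl <;>
        simp [(by decide : (1 : ZMod 2) + 1 = 0)]
    refine (congrArg (· ^^^ _) (hite (u (Fin.ofNat 12 i)) (v (Fin.ofNat 12 i)))).trans ?_
    generalize (if u (Fin.ofNat 12 i) = 1 then 2 ^ i else 0 : ℕ) = x₁
    generalize (if v (Fin.ofNat 12 i) = 1 then 2 ^ i else 0 : ℕ) = x₂
    ac_rfl

theorem unvec_lt (v : Fin 12 → ZMod 2) : unvec v < 2048 := by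
  have : ∀ l : List ℕ, (∀ i ∈ l, i < 11) →
      l.foldr (fun i acc => (if v (Fin.ofNat 12 i) = 1 then 2 ^ i else 0) ^^^ acc) 0 < 2 ^ 11 := by
    intro l
    induction l with
    | nil => intro _; norm_num
    | cons i l ih =>
      intro h
      refine Nat.xor_lt_two_pow ?_ (ih fun j hj => h j (List.mem_cons_of_mem _ hj))
      split
      · exact Nat.pow_lt_pow_right (by norm_num) (h i List.mem_cons_self)
      · norm_num
  exact this _ fun i hi => List.mem_range.1 hi

theorem vec12_xor {a b : ℕ} (i : Fin 12) (hi : i.1 < 11) : vec12 (a ^^^ b) i = vec12 a i + vec12 b i := by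
  have e : ∀ n, (n ||| 2048).testBit i.1 = n.testBit i.1 := fun n => by
    rw [Nat.testBit_or, show (2048 : ℕ) = 2 ^ 11 from rfl, Nat.testBit_two_pow_of_ne (by omega), Bool.or_false]
  simp only [vec12, e, Nat.testBit_xor]
  cases a.testBit i.1 <;> cases b.testBit i.1 <;> simp [(by decide : (1 : ZMod 2) + 1 = 0)]

theorem Auto.perm_mem {f : ℕ → ℕ} (h : Auto f) {σ : Equiv.Perm GolayPt}
    (hσ : ∀ p q, f (phi p ^^^ phi q) = phi (σ p) ^^^ phi (σ q)) : σ ∈ M24 := by
  rw [← inv_mem_iff]
  refine mem_M24_of_forall fun w hw => ?_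
  have hker : todd w = 0 := by rw [← ker_todd] at hw; exact hw
  rw [← ker_todd, LinearMap.mem_ker]
  set a := σ none
  -- the map on vectors
  let B : (Fin 12 → ZMod 2) → ℕ := fun v => f (unvec v)
  have hBadd : ∀ u v, B (u + v) = B u ^^^ B v := fun u v => by
    simp only [B, unvec_add]; exact h.add _ _ (unvec_lt u) (unvec_lt v)
  have hB0 : B 0 = 0 := by
    have := hBadd 0 0
    rwa [add_zero, Nat.xor_self] at this
  have hBp : ∀ p, B (vec12 (phi p)) = phi (σ p) ^^^ phi a := fun p => by
    simp only [B, unvec_vec (phi_lt p)]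
    rw [← hσ, phi_none, Nat.xor_zero]
  have key : ∀ s : Finset GolayPt, ∀ i : Fin 12, i.1 < 11 →
      vec12 (B (∑ p ∈ s, w p • vec12 (phi p))) i = (∑ p ∈ s, w p • (vec12 (phi (σ p)) + vec12 (phi a))) i := by
    intro s i hi
    induction s using Finset.induction with
    | empty =>
      rw [Finset.sum_empty, hB0, Finset.sum_empty]
      show (if (0 ||| 2048).testBit i.1 then (1 : ZMod 2) else 0) = 0
      rw [Nat.zero_or, show (2048 : ℕ) = 2 ^ 11 from rfl, Nat.testBit_two_pow_of_ne (by omega)]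
      rfl
    | insert p s hp ih =>
      rw [Finset.sum_insert hp, Finset.sum_insert hp, hBadd, vec12_xor i hi, ih, Pi.add_apply]
      congr 1
      rcases (by decide : ∀ c : ZMod 2, c = 0 ∨ c = 1) (w p) with e | e <;> rw [e]
      · rw [zero_smul, hB0, zero_smul]
        show (if (0 ||| 2048).testBit i.1 then (1 : ZMod 2) else 0) = 0
        rw [Nat.zero_or, show (2048 : ℕ) = 2 ^ 11 from rfl, Nat.testBit_two_pow_of_ne (by omega)]
        rfl
      · rw [one_smul, one_smul, hBp, vec12_xor i hi, Pi.add_apply]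
  have h11 : ∀ p, vec12 (phi p) (11 : Fin 12) = 1 := by decide +kernel
  have hpar : ∑ p, w p = 0 := by
    have := congrFun hker 11
    rw [todd_apply, Finset.sum_apply] at this
    simpa [h11] using this
  have hmain : ∀ i : Fin 12, (∑ p, w p • vec12 (phi (σ p))) i = 0 := by
    intro i
    by_cases hi : i.1 < 11
    · have := key Finset.univ i hi
      rw [← todd_apply, hker, hB0] at this
      simp only [Finset.sum_apply, smul_add, Pi.add_apply, Finset.sum_add_distrib, Pi.smul_apply, smul_eq_mul,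
        ← Finset.sum_mul, hpar, zero_mul, add_zero] at this
      rw [Finset.sum_apply]
      simp only [Pi.smul_apply, smul_eq_mul]
      rw [← this]
      show (if (0 ||| 2048).testBit i.1 then (1 : ZMod 2) else 0) = 0
      rw [Nat.zero_or, show (2048 : ℕ) = 2 ^ 11 from rfl, Nat.testBit_two_pow_of_ne (by omega)]
      rfl
    · rw [show i = 11 from Fin.ext (by have := i.2; show i.1 = 11; omega), Finset.sum_apply]
      simpa [h11] using hpar
  funext i
  rw [todd_apply, ← Equiv.sum_comp σ]
  refine Eq.trans ?_ (hmain i)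
  simp [Equiv.Perm.inv_def]

end CfsgLib.Sporadic.LargeFischer.Hexa
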