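import Cfsg.Agent.Lib.Sporadic.LargeFischer.Hexa.InModel
import Cfsg.Agent.Lib.Sporadic.LargeFischer.Hexa.StabWords

/-!
# The stabiliser of the hexacode has order at least `34560`
-/

set_option autoImplicit false
set_option linter.unusedSectionVars false
set_option maxRecDepth 40000

namespace CfsgLib.Sporadic.LargeFischer.Hexa

open CfsgLib.Sporadic.LargeFischer

/-- The digits of a word, last first. -/
def wd : ℕ → ℕ → List ℕ
  | 0, _ => []
  | f + 1, n => if n ≤ 1 then [] else (n % 4) :: wd f (n / 4)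

/-- The action of a letter on the coefficients. -/
def letK (i k : ℕ) : ℕ := if i = 0 then gk 0 k else if i = 1 then gk 1 k else ok k

/-- The action of a word on the coefficients. -/
def wordK : List ℕ → ℕ → ℕ
  | [], k => k
  | i :: w, k => letK i (wordK w k)

/-- The images of the basis in one number. -/
def wordKey (n : ℕ) : ℕ :=
  wordK (wd 16 n) 1 + 64 * (wordK (wd 16 n) 2 + 64 * (wordK (wd 16 n) 4 + 64 * (wordK (wd 16 n) 8 +
    64 * (wordK (wd 16 n) 16 + 64 * wordK (wd 16 n) 32))))

theorem stab_keys : List.IsChain (· < ·) (stabCodes.map wordKey) ∧ stabCodes.length = 1080 := by decide +kernel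

/-- The scalar as a linear map. -/
def omL : V6 ≃ₗ[ZMod 2] V6 where
  toFun := omV
  invFun v := omV (omV v)
  map_add' := omV_add
  map_smul' c v := by
    rcases (by decide : ∀ c : ZMod 2, c = 0 ∨ c = 1) c with rfl | rfl
    · simp only [zero_smul, RingHom.id_apply]; rfl
    · simp only [one_smul, RingHom.id_apply]
  left_inv v := omV_three v
  right_inv v := omV_three v

/-- The element of a letter. -/
def letE (i : ℕ) : V6 ≃ₗ[ZMod 2] V6 := if i = 0 then gen 0 else if i = 1 then gen 1 else omL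

/-- The element of a word. -/
def wordE : List ℕ → (V6 ≃ₗ[ZMod 2] V6)
  | [] => 1
  | i :: w => letE i * wordE w

theorem letE_wv (i : ℕ) {k : ℕ} (hk : k < 64) : letK i k < 64 ∧ letE i (dec (wv k)) = dec (wv (letK i k)) := by
  unfold letK letE
  split
  · exact gen_wv 0 hk
  · split
    · exact gen_wv 1 hk
    · exact ⟨(omV_wv hk).1, (omV_wv hk).2⟩

theorem wordE_wv : ∀ (w : List ℕ) {k : ℕ}, k < 64 → wordK w k < 64 ∧ wordE w (dec (wv k)) = dec (wv (wordK w k))
  | [], k, hk => ⟨hk, rfl⟩
  | i :: w, k, hk => by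
    obtain ⟨h1, h2⟩ := wordE_wv w hk
    obtain ⟨h3, h4⟩ := letE_wv i h1
    refine ⟨h3, ?_⟩
    show letE i (wordE w _) = _
    rw [h2, h4]; rfl

section

variable {K : Subgroup (V6 ≃ₗ[ZMod 2] V6)} (h : Explicit.Std K) (hx : omL ∈ K)
include h hx

theorem wordE_mem : ∀ w : List ℕ, wordE w ∈ K
  | [] => one_mem _
  | i :: w => by
    refine mul_mem ?_ (wordE_mem w)
    unfold letE
    split
    · exact gen_mem h 0
    · split
      · exact gen_mem h 1
      · exact hx

theorem wordE_lin : ∀ w : List ℕ, ∀ v, wordE w (omV v) = omV (wordE w v)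
  | [], _ => rfl
  | i :: w, v => by
    show letE i (wordE w (omV v)) = omV (letE i (wordE w v))
    rw [wordE_lin w]
    unfold letE
    split
    · exact gen_lin h 0 _
    · split
      · exact gen_lin h 1 _
      · rfl

variable (hs : ¬ ∀ g ∈ K, Explicit.Lin g)
include hs

theorem card_stab_W (Y : Subgroup (V6 ≃ₗ[ZMod 2] V6))
    (hY : ∀ g, g ∈ Y ↔ g ∈ K ∧ ∀ k, k < 64 → InW (g (dec (wv k)))) : 34560 ≤ Nat.card Y := by
  classical
  have := finite_equiv
  obtain ⟨b, hb⟩ := exists_tau h hs
  let te : Bool → (V6 ≃ₗ[ZMod 2] V6) := fun e => if e then tau b else 1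
  let tkk : Bool → ℕ → ℕ := fun e k => if e then tk b k else k
  have htau : ∀ e k, k < 64 → tkk e k < 64 ∧ te e (dec (wv k)) = dec (wv (tkk e k)) := by
    intro e k hk
    cases e
    · exact ⟨hk, rfl⟩
    · obtain ⟨h1, h2⟩ := (tau_facts b).2 ⟨k, hk⟩
      refine ⟨h1, ?_⟩
      show tau b _ = _
      rw [tau_dec b (wv_lt k), h2]; rfl
  let f : Fin 1080 × Fin 16 × Bool → V6 ≃ₗ[ZMod 2] V6 := fun p =>
    wordE (wd 16 (stabCodes.getD p.1.1 1)) * Bel p.2.1.1 * te p.2.2
  have hfk : ∀ p : Fin 1080 × Fin 16 × Bool, ∀ k, k < 64 →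
      f p (dec (wv k)) = dec (wv (wordK (wd 16 (stabCodes.getD p.1.1 1)) (tkk p.2.2 k))) ∧
        wordK (wd 16 (stabCodes.getD p.1.1 1)) (tkk p.2.2 k) < 64 := by
    intro p k hk
    obtain ⟨h1, h2⟩ := htau p.2.2 k hk
    obtain ⟨h3, h4⟩ := wordE_wv (wd 16 (stabCodes.getD p.1.1 1)) h1
    refine ⟨?_, h3⟩
    show wordE _ (Bel _ (te _ _)) = _
    rw [h2, Bel_fix p.2.1.2 h1, h4]
  have hmem : ∀ p, f p ∈ Y := fun p => (hY _).2
    ⟨mul_mem (mul_mem (wordE_mem h hx _) (Bel_mem h _)) (by
      rcases p with ⟨_, _, e⟩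
      cases e
      · exact one_mem _
      · exact hb), fun k hk => (inW_iff _).2 ⟨_, (hfk p k hk).2, (hfk p k hk).1⟩⟩
  have hte : ∀ e, e = true ↔ ¬ ∀ v, te e (omV v) = omV (te e v) := by
    intro e
    cases e
    · simp [te]
    · simp only [te, if_true, true_iff]
      exact fun hl => Explicit.not_lin_of_anti (tau_anti b) hl
  have hinj : Function.Injective fun p => (⟨f p, hmem p⟩ : Y) := by
    rintro ⟨i, u, e⟩ ⟨i', u', e'⟩ he
    have he' : f (i, u, e) = f (i', u', e') := congrArg Subtype.val he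
    have hee : e = e' := by
      have key : ∀ (i : Fin 1080) (u : Fin 16) (e : Bool), e = true ↔ ¬ ∀ v, f (i, u, e) (omV v) = omV (f (i, u, e) v) := by
        intro i u e
        rw [hte e]
        refine not_congr ⟨fun hl v => ?_, fun hl v => ?_⟩
        · show wordE _ (Bel _ (te e (omV v))) = omV (wordE _ (Bel _ (te e v)))
          rw [hl, Bel_lin h, wordE_lin h hx]
        · have := hl v
          change wordE _ (Bel _ (te e (omV v))) = omV (wordE _ (Bel _ (te e v))) at this
          rw [← wordE_lin h hx, ← Bel_lin h] at this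
          exact (Bel u.1).injective ((wordE (wd 16 (stabCodes.getD i.1 1))).injective this)
      have := (key i u e).trans ((iff_of_eq (by rw [he'])).trans (key i' u' e').symm)
      exact Bool.eq_iff_iff.2 this
    subst hee
    have hwk : ∀ k, k < 64 → wordK (wd 16 (stabCodes.getD i.1 1)) k = wordK (wd 16 (stabCodes.getD i'.1 1)) k := by
      intro k hk
      obtain ⟨j, hj, ej⟩ : ∃ j < 64, tkk e j = k := by
        have hfin : ∀ e : Bool, Function.Injective fun j : Fin 64 => (⟨tkk e j.1, (htau e j.1 j.2).1⟩ : Fin 64) := fun e a c hac =>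
          Fin.ext (wv_inj a.2 c.2 ((te e).injective (by
            rw [(htau e a.1 a.2).2, (htau e c.1 c.2).2, show tkk e a.1 = tkk e c.1 from congrArg Fin.val hac])))
        obtain ⟨j, hj⟩ := (Finite.injective_iff_surjective.1 (hfin e)) ⟨k, hk⟩
        exact ⟨j.1, j.2, congrArg Fin.val hj⟩
      rw [← ej]
      refine wv_inj (hfk (i, u, e) j hj).2 (hfk (i', u', e) j hj).2 ?_
      rw [← (hfk (i, u, e) j hj).1, he', (hfk (i', u', e) j hj).1]
    have hii : i = i' := by
      have hnd : (stabCodes.map wordKey).Nodup := (List.isChain_iff_pairwise.1 stab_keys.1).imp fun {a b} h => ne_of_lt h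
      refine Fin.ext ((hnd.getElem_inj_iff (i := i.1) (j := i'.1) (hi := by rw [List.length_map, stab_keys.2]; exact i.2)
        (hj := by rw [List.length_map, stab_keys.2]; exact i'.2)).1 ?_)
      rw [List.getElem_map, List.getElem_map, ← List.getD_eq_getElem stabCodes 1, ← List.getD_eq_getElem stabCodes 1]
      unfold wordKey
      rw [hwk 1 (by norm_num), hwk 2 (by norm_num), hwk 4 (by norm_num), hwk 8 (by norm_num), hwk 16 (by norm_num),
        hwk 32 (by norm_num)]
    subst hii
    have := mul_left_cancel (mul_right_cancel he')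
    exact Prod.ext rfl (Prod.ext (Fin.ext (Bel_inj u.2 u'.2 this)) rfl)
  have := Nat.card_le_card_of_injective _ hinj
  simpa [Nat.card_eq_fintype_card] using this

end

end CfsgLib.Sporadic.LargeFischer.Hexa
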