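import Cfsg.Agent.Lib.Sporadic.LargeFischer.Hexa.Signs
import Cfsg.Agent.Lib.Sporadic.LargeFischer.Hexa.StabCount
import Cfsg.Agent.Lib.Sporadic.LargeFischer.Hexa.ToddModel

/-!
# The normaliser of the subgroup of order `2¹¹` modulo the subgroup is the Mathieu group
-/

set_option autoImplicit false
set_option linter.style.haveILetI false
set_option linter.unusedSectionVars false
set_option maxRecDepth 40000

namespace CfsgLib.Sporadic.LargeFischer.Hexa

open Cfsg CfsgLib.Sporadic.LargeFischer CfsgLib.SmallGroups.M24Group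

/-- Everything about a subgroup of order `2¹¹` that the statements need. -/
structure ToddData {G : Type*} [Group G] (z : G) (A : Subgroup G) (θ : ↥(Subgroup.normalizer (A : Set G)) →* ↥Cfsg.M24) : Prop where
  elem : Cfsg.IsElementaryAbelian 2 A
  card : Nat.card A = 2 ^ 11
  surj : Function.Surjective θ
  ker : θ.ker = A.subgroupOf (Subgroup.normalizer (A : Set G))
  zmem : z ∈ A
  other : ∃ a ∈ A, a ≠ 1 ∧ ¬ IsConj z a
  two : ∀ a ∈ A, ∀ b ∈ A, a ≠ 1 → b ≠ 1 → (IsConj z a ↔ IsConj z b) →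
    ∃ m ∈ Subgroup.normalizer (A : Set G), m * a * m⁻¹ = b
  stab : ∀ t ∈ A, t ≠ 1 → ¬ IsConj z t → ∃ p q : GolayPt, p ≠ q ∧ ∀ m : ↥(Subgroup.normalizer (A : Set G)),
    ((m : G) * t = t * (m : G) ↔ ((θ m : Equiv.Perm GolayPt) p = p ∧ (θ m : Equiv.Perm GolayPt) q = q) ∨
      ((θ m : Equiv.Perm GolayPt) p = q ∧ (θ m : Equiv.Perm GolayPt) q = p))

theorem phi_span : ∀ i : Fin 11,
    ((List.range 24).foldr (fun j acc => (if (toddWit.getD i.1 0).testBit j then pcode j else 0) ^^^ acc) 0) = 2 ^ i.1 := by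
  decide +kernel

theorem eq_on_all {f : ℕ → ℕ} (hadd : ∀ a b, a < 2048 → b < 2048 → f (a ^^^ b) = f a ^^^ f b)
    (hp : ∀ j, j < 24 → f (pcode j) = pcode j) : ∀ n, n < 2048 → f n = n := by
  have h0 : f 0 = 0 := by
    have := hadd 0 0 (by norm_num) (by norm_num)
    rwa [Nat.xor_self, Nat.xor_self] at this
  have hbit : ∀ i : Fin 11, f (2 ^ i.1) = 2 ^ i.1 := by
    intro i
    rw [← phi_span i]
    have key : ∀ l : List ℕ, (∀ j ∈ l, j < 24) →
        (l.foldr (fun j acc => (if (toddWit.getD i.1 0).testBit j then pcode j else 0) ^^^ acc) 0) < 2048 ∧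
        f (l.foldr (fun j acc => (if (toddWit.getD i.1 0).testBit j then pcode j else 0) ^^^ acc) 0) =
          l.foldr (fun j acc => (if (toddWit.getD i.1 0).testBit j then pcode j else 0) ^^^ acc) 0 := by
      intro l
      induction l with
      | nil => intro _; exact ⟨by norm_num, h0⟩
      | cons j l ih =>
        intro hl
        obtain ⟨h1, h2⟩ := ih fun k hk => hl k (List.mem_cons_of_mem _ hk)
        have hj := hl j List.mem_cons_self
        have hlt : pcode j < 2048 := by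
          have h := List.all_eq_true.1 point_facts.1 j (List.mem_range.2 hj)
          rw [Bool.and_eq_true, decide_eq_true_eq] at h
          exact h.1
        rw [List.foldr_cons]
        split
        · exact ⟨Nat.xor_lt_two_pow (n := 11) hlt h1, by rw [hadd _ _ hlt h1, h2, hp j hj]⟩
        · exact ⟨by rwa [Nat.zero_xor], by rw [Nat.zero_xor, h2]⟩
    exact (key _ fun j hj => List.mem_range.1 hj).2
  have key : ∀ k, k ≤ 11 → ∀ n, n < 2 ^ k → f n = n := by
    intro k
    induction k with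
    | zero =>
      intro _ n hn
      rw [show n = 0 by omega, h0]
    | succ k ih =>
      intro hk n hn
      by_cases hb : n < 2 ^ k
      · exact ih (by omega) n hb
      · have hlt : n - 2 ^ k < 2 ^ k := by rw [pow_succ] at hn; omega
        have e : n = 2 ^ k ^^^ (n - 2 ^ k) := by rw [CfsgLib.SmallGroups.Golay.two_pow_xor hlt]; omega
        have h2k : 2 ^ k < 2048 := Nat.pow_lt_pow_right (by norm_num : 1 < 2) hk |>.trans_eq (by norm_num)
        rw [e, hadd _ _ h2k (by omega), hbit ⟨k, hk⟩, ih (by omega) _ hlt]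
  exact fun n hn => key 11 le_rfl n hn

namespace Frame

variable {G : Type*} [Group G] [Finite G] {z : G} {Q : Subgroup (Subgroup.centralizer ({z} : Set G))} [Q.Normal]
  {π : G → V6} {ψ : ↥(Subgroup.centralizer ({z} : Set G)) →* (V6 ≃ₗ[ZMod 2] V6)}
  {x : ↥(Subgroup.centralizer ({z} : Set G))} (F : Frame z Q π ψ x)
  {c : Fin 4 → ↥(Subgroup.centralizer ({z} : Set G))} {L : Lifts ψ x c} (hN : Normal F L) (hU : UniqAb G)
include F hN hU

theorem todd_labelled : ∃ θ : ↥(Subgroup.normalizer (F.asub L : Set G)) →* ↥Cfsg.M24,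
    ToddData z (F.asub L) θ ∧
    (∀ n, n < 2048 → (inDm n = true ↔ (F.el L n ≠ 1 ∧ ¬ IsConj z (F.el L n)))) ∧
    ∀ (m : ↥(Subgroup.normalizer (F.asub L : Set G))) (p q : GolayPt), (m : G) * F.el L (phi p ^^^ phi q) * (m : G)⁻¹ =
      F.el L (phi ((θ m : Equiv.Perm GolayPt) p) ^^^ phi ((θ m : Equiv.Perm GolayPt) q)) := by
  set A := F.asub L with hA
  set M := Subgroup.normalizer (A : Set G) with hM
  haveI : Finite ↥M := inferInstance
  -- the map of codes
  have hex : ∀ (m : ↥M) (n : ℕ), ∃ k, k < 2048 ∧ (n < 2048 → (m : G) * F.el L n * (m : G)⁻¹ = F.el L k) := by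
    intro m n
    by_cases hn : n < 2048
    · obtain ⟨k, hk, e⟩ := (Subgroup.mem_normalizer_iff.1 m.2 (F.el L n)).1 ⟨n, hn, rfl⟩
      exact ⟨k, hk, fun _ => e⟩
    · exact ⟨0, by norm_num, fun h => absurd h hn⟩
  choose fc hfl hfe using hex
  have hmul : ∀ (m m' : ↥M) n, n < 2048 → fc (m * m') n = fc m (fc m' n) := by
    intro m m' n hn
    refine F.el_inj L (hfl _ _) (hfl _ _) ?_
    rw [← hfe _ _ hn, ← hfe _ _ (hfl _ _), ← hfe _ _ hn]
    push_cast
    group
  have hsmall : ∀ n, n < 2048 → (inDm n = true ↔ (F.el L n ≠ 1 ∧ ¬ IsConj z (F.el L n))) := by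
    intro n hn
    rw [inDm_eq hn, hN.small n hn]
    constructor
    · intro h
      refine ⟨fun e => ?_, Or.inr h⟩
      have h0 := F.el_inj L hn (by norm_num) (e.trans (F.el_zero L).symm)
      subst h0
      rw [show inD sgnB 0 = false by decide +kernel] at h
      exact Bool.false_ne_true h
    · rintro ⟨h1, h | h⟩
      · exact absurd (h ▸ F.el_zero L) h1
      · exact h
  have hauto : ∀ m : ↥M, Auto (fc m) := fun m =>
    { lt := fun n _ => hfl m n
      add := fun a b ha hb => by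
        have hab : a ^^^ b < 2048 := Nat.xor_lt_two_pow (n := 11) ha hb
        refine F.el_inj L (hfl _ _) (Nat.xor_lt_two_pow (n := 11) (hfl _ _) (hfl _ _)) ?_
        rw [F.el_xor L (hfl _ _) (hfl _ _), ← hfe m a ha, ← hfe m b hb, ← hfe m _ hab, F.el_xor L ha hb]
        group
      inj := fun a b ha hb e => by
        refine F.el_inj L ha hb ?_
        have := (hfe m a ha).trans ((congrArg (F.el L) e).trans (hfe m b hb).symm)
        exact mul_left_cancel (mul_right_cancel this)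
      pres := fun n hn h => by
        obtain ⟨h1, h2⟩ := (hsmall n hn).1 h
        refine (hsmall _ (hfl m n)).2 ?_
        rw [← hfe m n hn, isConj_conj_iff]
        exact ⟨fun e => h1 (conj_eq_one_iff.1 e), h2⟩ }
  choose σ hσ using fun m => (hauto m).exists_perm
  -- the permutation is determined
  have huniq : ∀ (m : ↥M) (τ : Equiv.Perm GolayPt),
      (∀ p q, fc m (phi p ^^^ phi q) = phi (τ p) ^^^ phi (τ q)) → τ = σ m := by
    intro m τ hτ
    refine Equiv.ext fun p => ?_
    by_contra hne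
    obtain ⟨q, hqp⟩ := exists_ne p
    obtain ⟨r, hr⟩ : ∃ r, r ∉ ({p, q} : Finset GolayPt) := by
      exact exists_pt_notMem _ (Finset.card_le_two.trans (by norm_num))
    simp only [Finset.mem_insert, Finset.mem_singleton, not_or] at hr
    rcases duad_inj (fun e => hqp (τ.injective e).symm) (fun e => hqp ((σ m).injective e).symm)
      ((hτ p q).symm.trans (hσ m p q)) with ⟨e, -⟩ | ⟨e, -⟩
    · exact hne e
    rcases duad_inj (fun e => hr.1 (τ.injective e).symm) (fun e => hr.1 ((σ m).injective e).symm)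
      ((hτ p r).symm.trans (hσ m p r)) with ⟨e', -⟩ | ⟨e', -⟩
    · exact hne e'
    · exact hr.2 ((σ m).injective (e'.symm.trans e))
  let θ : ↥M →* ↥Cfsg.M24 :=
    { toFun := fun m => ⟨σ m, (hauto m).perm_mem (hσ m)⟩
      map_one' := Subtype.ext (huniq 1 1 fun p q => by
        have e : fc (1 : ↥M) (phi p ^^^ phi q) = phi p ^^^ phi q := by
          refine F.el_inj L (hfl _ _) (phi_lt_xor p q) ?_
          rw [← hfe _ _ (phi_lt_xor p q)]; simp
        exact e).symm
      map_mul' := fun m m' => Subtype.ext (huniq (m * m') (σ m * σ m') fun p q => by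
        rw [hmul _ _ _ (phi_lt_xor p q), hσ m' p q, hσ m]; rfl).symm }
  -- the kernel
  have hAM : A ≤ M := Subgroup.le_normalizer
  have hker : θ.ker = A.subgroupOf M := by
    ext m
    rw [MonoidHom.mem_ker, Subgroup.mem_subgroupOf]
    constructor
    · intro h
      have h1 : σ m = 1 := congrArg Subtype.val h
      have hfix : ∀ n, n < 2048 → fc m n = n := eq_on_all (hauto m).add fun j hj => by
        have := hσ m (CfsgLib.SmallGroups.Golay.pt j) none
        rw [h1] at this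
        simp only [Equiv.Perm.coe_one, id_eq, phi_none, Nat.xor_zero] at this
        rwa [phi, CfsgLib.SmallGroups.Golay.idx_pt hj] at this
      refine F.centralizer_asub L (Subgroup.mem_centralizer_iff.2 fun a ha => ?_)
      obtain ⟨n, hn, rfl⟩ := ha
      have := hfe m n hn
      rw [hfix n hn] at this
      exact (mul_inv_eq_iff_eq_mul.1 this).symm
    · intro h
      refine Subtype.ext (huniq m 1 fun p q => ?_).symm
      refine F.el_inj L (hfl _ _) (phi_lt_xor p q) ?_
      rw [← hfe _ _ (phi_lt_xor p q), F.asub_comm L h ⟨_, phi_lt_xor p q, rfl⟩]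
      group
      rfl
  -- the order
  have hcardA := F.card_asub L
  set Y : Subgroup (V6 ≃ₗ[ZMod 2] V6) :=
    { carrier := {g | g ∈ ψ.range ∧ ∀ k, k < 64 → InW (g (dec (wv k)))}
      one_mem' := ⟨one_mem _, fun k hk => (inW_iff _).2 ⟨k, hk, rfl⟩⟩
      mul_mem' := fun {a b} ha hb => ⟨mul_mem ha.1 hb.1, fun k hk => by
        obtain ⟨k', hk', e⟩ := (inW_iff _).1 (hb.2 k hk)
        show InW (a (b _))
        rw [e]; exact ha.2 k' hk'⟩
      inv_mem' := fun {a} ha => ⟨inv_mem ha.1, fun k hk => by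
        choose g hg hga using fun j : Fin 64 => (inW_iff _).1 (ha.2 j.1 j.2)
        have hginj : Function.Injective fun j : Fin 64 => (⟨g j, hg j⟩ : Fin 64) := fun i j e =>
          Fin.ext (wv_inj i.2 j.2 (a.injective (by rw [hga i, hga j, show g i = g j from congrArg Fin.val e])))
        obtain ⟨j, hj⟩ := Finite.injective_iff_surjective.1 hginj ⟨k, hk⟩
        show InW (a.symm _)
        rw [show k = g j from (congrArg Fin.val hj).symm, ← hga j, a.symm_apply_apply]
        exact (inW_iff _).2 ⟨j.1, j.2, rfl⟩⟩ }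
  have hYc : 34560 ≤ Nat.card Y := F.stab_card Y fun g => Iff.rfl
  set Yh : Subgroup ↥(Subgroup.centralizer ({z} : Set G)) := Y.comap ψ with hYh
  have hYhc : 8192 * 34560 ≤ Nat.card Yh := by
    have hle : Y ≤ ψ.range := fun g hg => hg.1
    have e1 := (ψ.subgroupComap Y).ker.card_mul_index
    rw [Subgroup.index_ker, MonoidHom.range_eq_top.2 (fun g => by
      obtain ⟨d, hd⟩ := hle g.2
      exact ⟨⟨d, show ψ d ∈ Y from hd ▸ g.2⟩, Subtype.ext hd⟩), Subgroup.card_top] at e1
    have e2 : Nat.card (ψ.subgroupComap Y).ker = 8192 := by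
      rw [← F.lf.card_Q]
      exact Nat.card_congr
        { toFun := fun d => ⟨((d : ↥(Y.comap ψ)) : ↥(Subgroup.centralizer ({z} : Set G))),
            (F.lf.ker _).1 (congrArg Subtype.val d.2)⟩
          invFun := fun q => ⟨⟨⟨q, F.lf.mem_cent q.2⟩, show ψ _ ∈ Y by rw [(F.lf.ker ⟨q, F.lf.mem_cent q.2⟩).2 q.2]; exact Y.one_mem⟩,
            Subtype.ext ((F.lf.ker ⟨q, F.lf.mem_cent q.2⟩).2 q.2)⟩
          left_inv := fun d => rfl
          right_inv := fun q => rfl }
    rw [e2] at e1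
    rw [hYh, ← e1]
    exact Nat.mul_le_mul le_rfl hYc
  obtain ⟨hsig, hbig⟩ := F.counting L hU
  have h1771 : (F.zset L).card = 1771 := by rw [F.card_zset L, hsig, hbig]; rfl
  have hMcard : 244823040 * 2048 ≤ Nat.card ↥M := by
    letI : MulAction ↥M G := MulAction.compHom G (ConjAct.toConjAct.toMonoidHom.comp M.subtype)
    have horb : MulAction.orbit ↥M z = {a | a ∈ A ∧ IsConj z a} := by
      ext a
      constructor
      · rintro ⟨m, rfl⟩
        exact ⟨(Subgroup.mem_normalizer_iff.1 m.2 z).1 (F.z_mem_asub L), isConj_iff.2 ⟨m, rfl⟩⟩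
      · rintro ⟨ha, hc⟩
        obtain ⟨g, eg⟩ := isConj_iff.1 hc
        obtain ⟨m, hm, em⟩ := fusion hU (F.isElementaryAbelian_asub L) hcardA (F.z_mem_asub L) (eg.symm ▸ ha)
        exact ⟨⟨m, hm⟩, em.trans eg⟩
    have h1 := (MulAction.stabilizer ↥M z).card_mul_index
    rw [MulAction.index_stabilizer, horb, ← Nat.card_coe_set_eq] at h1
    have h2 : Nat.card ↥({a | a ∈ A ∧ IsConj z a} : Set G) = 1771 := by
      rw [← h1771, ← F.card_zset_eq L]
      exact Nat.card_congr
        { toFun := fun a => ⟨⟨a.1, a.2.1⟩, a.2.2⟩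
          invFun := fun a => ⟨((a : ↥A) : G), (a : ↥A).2, a.2⟩
          left_inv := fun a => rfl
          right_inv := fun a => rfl }
    have h3 : Nat.card Yh ≤ Nat.card (MulAction.stabilizer ↥M z) :=
      Nat.card_le_card_of_injective (fun d => ⟨⟨(d : ↥(Subgroup.centralizer ({z} : Set G))),
        F.mem_normalizer L fun k hk => (d.2 : ψ _ ∈ Y).2 k hk⟩, mul_inv_eq_iff_eq_mul.2 (F.z_comm' _)⟩)
        fun d d' e => Subtype.ext (Subtype.ext (congrArg (fun m : MulAction.stabilizer ↥M z => ((m : ↥M) : G)) e))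
    rw [← h1, h2]
    calc 244823040 * 2048 = 8192 * 34560 * 1771 := by norm_num
      _ ≤ _ := Nat.mul_le_mul (hYhc.trans h3) le_rfl
  have hsurj : Function.Surjective θ := by
    have e := θ.ker.card_mul_index
    rw [Subgroup.index_ker, hker, Nat.card_congr (Subgroup.subgroupOfEquivOfLe hAM).toEquiv, hcardA] at e
    refine MonoidHom.range_eq_top.1 (Subgroup.eq_top_of_le_card _ ?_)
    rw [card_M24]
    have h2 : Nat.card θ.range * 2048 = Nat.card ↥M := by rw [← e]; ring
    omega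
  refine ⟨θ, ⟨F.isElementaryAbelian_asub L, hcardA, hsurj, hker, F.z_mem_asub L, ?_, ?_, ?_⟩, hsmall, fun m p q => ?_⟩
  pick_goal 4
  · show _ = F.el L (phi (σ m p) ^^^ phi (σ m q))
    rw [hfe m _ (phi_lt_xor p q), hσ m p q]
  · refine ⟨F.el L 1, ⟨1, by norm_num, rfl⟩, ((hsmall 1 (by norm_num)).1 (by decide +kernel))⟩
  · rintro a ⟨n, hn, rfl⟩ b ⟨n', hn', rfl⟩ ha hb hiff
    by_cases hc : IsConj z (F.el L n)
    · obtain ⟨g, eg⟩ := isConj_iff.1 hc
      obtain ⟨g', eg'⟩ := isConj_iff.1 (hiff.1 hc)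
      have e : (g' * g⁻¹) * F.el L n * (g' * g⁻¹)⁻¹ = F.el L n' := by rw [← eg, ← eg']; group
      obtain ⟨m, hm, em⟩ := fusion hU (F.isElementaryAbelian_asub L) hcardA (show F.el L n ∈ A from ⟨n, hn, rfl⟩)
        (show (g' * g⁻¹) * F.el L n * (g' * g⁻¹)⁻¹ ∈ A from e.symm ▸ ⟨n', hn', rfl⟩)
      exact ⟨m, hm, em.trans e⟩
    · have hc' : ¬ IsConj z (F.el L n') := fun e => hc (hiff.2 e)
      refine hN.trans n n' hn hn' ?_ ?_
      · rw [← inDm_eq hn]; exact (hsmall n hn).2 ⟨ha, hc⟩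
      · rw [← inDm_eq hn']; exact (hsmall n' hn').2 ⟨hb, hc'⟩
  · rintro t ⟨n, hn, rfl⟩ h1 hc
    obtain ⟨p, q, hpq, e⟩ := duad_surj hn ((hsmall n hn).2 ⟨h1, hc⟩)
    refine ⟨p, q, hpq, fun m => ?_⟩
    show _ ↔ ((σ m p = p ∧ σ m q = q) ∨ (σ m p = q ∧ σ m q = p))
    have hm : (m : G) * F.el L n * (m : G)⁻¹ = F.el L (phi (σ m p) ^^^ phi (σ m q)) := by
      rw [hfe m n hn, ← e, hσ m]
    rw [← mul_inv_eq_iff_eq_mul, hm]
    constructor
    · intro h
      exact duad_inj (fun x => hpq ((σ m).injective x)) hpq ((F.el_inj L (phi_lt_xor _ _) hn h).trans e.symm)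
    · rintro (⟨a, b⟩ | ⟨a, b⟩) <;> rw [a, b]
      · rw [e]
      · rw [Nat.xor_comm, e]

theorem todd_of_normal : ∃ θ : ↥(Subgroup.normalizer (F.asub L : Set G)) →* ↥Cfsg.M24, ToddData z (F.asub L) θ :=
  let ⟨θ, h, _⟩ := F.todd_labelled hN hU
  ⟨θ, h⟩

end Frame

/-- The main result. -/
theorem exists_todd {G : Type*} [Group G] [Finite G] (z : G) (Q : Subgroup (Subgroup.centralizer ({z} : Set G)))
    [Q.Normal] (hF : Cfsg.IsOfLargeFischerTypeAt z Q) (hJ : MaxAb z) :
    UniqAb G ∧ ∃ (A : Subgroup G) (θ : ↥(Subgroup.normalizer (A : Set G)) →* ↥Cfsg.M24), ToddData z A θ := by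
  obtain ⟨π, ψ, x, F⟩ := exists_frame z Q hF
  have hU := uniqAb F.lf hJ
  obtain ⟨c, L, hN⟩ := F.exists_normal hU
  obtain ⟨θ, h⟩ := F.todd_of_normal hN hU
  exact ⟨hU, _, θ, h⟩

end CfsgLib.Sporadic.LargeFischer.Hexa
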