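import Cfsg.Agent.Lib.Sporadic.LargeFischer.Hexa.Main

/-!
# The statements about the normaliser of the Thompson subgroup of a Sylow subgroup
-/

set_option autoImplicit false
set_option linter.style.haveILetI false
set_option linter.unusedSectionVars false

namespace CfsgLib.Sporadic.LargeFischer.Hexa

open Cfsg CfsgLib.Sporadic.LargeFischer

variable {G : Type*} [Group G] [Finite G] {z : G}

/-- The data transported along a conjugation; `z` is not moved. -/
theorem thompson_data (hz1 : z ≠ 1) (hU : UniqAb G) {A₁ : Subgroup G} {θ : ↥(Subgroup.normalizer (A₁ : Set G)) →* ↥Cfsg.M24}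
    (h : ToddData z A₁ θ) (T : Sylow 2 G) (A M : Subgroup G) (hA : A = Cfsg.thompsonSubgroupOf 2 (T : Subgroup G))
    (hM : M = Subgroup.normalizer (A : Set G)) :
    Cfsg.IsElementaryAbelian 2 A ∧ Nat.card A = 2 ^ 11 ∧ A ≤ M ∧
    (∀ a ∈ A, ∀ g : G, g * a * g⁻¹ ∈ A → ∃ m ∈ M, m * a * m⁻¹ = g * a * g⁻¹) ∧
    (∃ a ∈ A, a ≠ 1 ∧ IsConj z a) ∧ (∃ a ∈ A, a ≠ 1 ∧ ¬ IsConj z a) ∧
    (∀ a ∈ A, ∀ b ∈ A, a ≠ 1 → b ≠ 1 → (IsConj z a ↔ IsConj z b) → ∃ m ∈ M, m * a * m⁻¹ = b) ∧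
    ∃ η : ↥M →* ↥Cfsg.M24, Function.Surjective η ∧ η.ker = A.subgroupOf M ∧
      ∀ t ∈ A, t ≠ 1 → ¬ IsConj z t → ∃ p q : GolayPt, p ≠ q ∧ ∀ m : ↥M,
        ((m : G) * t = t * (m : G) ↔ ((η m : Equiv.Perm GolayPt) p = p ∧ (η m : Equiv.Perm GolayPt) q = q) ∨
          ((η m : Equiv.Perm GolayPt) p = q ∧ (η m : Equiv.Perm GolayPt) q = p)) := by
  haveI : Fact (Nat.Prime 2) := ⟨Nat.prime_two⟩
  obtain ⟨g, hg⟩ := thompson_eq hU h.elem h.card T
  rw [← hA] at hg
  subst hM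
  have hmemA : ∀ a, a ∈ A ↔ g⁻¹ * a * g ∈ A₁ := fun a => by
    rw [hg]
    constructor
    · rintro ⟨b, hb, rfl⟩
      show g⁻¹ * (g * b * g⁻¹) * g ∈ A₁
      simpa [mul_assoc] using hb
    · intro hb
      exact ⟨_, hb, show g * (g⁻¹ * a * g) * g⁻¹ = a by group⟩
  have hmemM : ∀ m, m ∈ Subgroup.normalizer (A : Set G) ↔ g⁻¹ * m * g ∈ Subgroup.normalizer (A₁ : Set G) := fun m => by
    rw [Subgroup.mem_normalizer_iff, Subgroup.mem_normalizer_iff]
    constructor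
    · intro hm a
      have := hm (g * a * g⁻¹)
      rw [hmemA, hmemA] at this
      simpa [mul_assoc] using this
    · intro hm a
      rw [hmemA, hmemA]
      have := hm (g⁻¹ * a * g)
      simpa [mul_assoc] using this
  have hconj : ∀ a, IsConj z (g⁻¹ * a * g) ↔ IsConj z a := fun a => by
    have e : IsConj a (g⁻¹ * a * g) := isConj_iff.2 ⟨g⁻¹, by group⟩
    exact ⟨fun x => x.trans e.symm, fun x => x.trans e⟩
  have hel : Cfsg.IsElementaryAbelian 2 A := by
    refine ⟨⟨⟨fun a b => Subtype.ext ?_⟩⟩, fun a ha => ?_⟩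
    · have := congrArg (fun u : ↥A₁ => g * (u : G) * g⁻¹)
        (h.elem.1.is_comm.comm (⟨_, (hmemA _).1 a.2⟩ : ↥A₁) ⟨_, (hmemA _).1 b.2⟩)
      simpa [mul_assoc] using this
    · have := h.elem.2 _ ((hmemA a).1 ha)
      rw [pow_two] at this ⊢
      calc a * a = g * (g⁻¹ * a * g * (g⁻¹ * a * g)) * g⁻¹ := by group
        _ = 1 := by rw [this]; group
  have hcard : Nat.card A = 2 ^ 11 := by
    rw [hg, Subgroup.card_map_of_injective (f := (MulAut.conj g).toMonoidHom) (MulAut.conj g).injective, h.card]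
  let η : ↥(Subgroup.normalizer (A : Set G)) →* ↥Cfsg.M24 := θ.comp
    { toFun := fun m => ⟨g⁻¹ * m * g, (hmemM m).1 m.2⟩
      map_one' := Subtype.ext (by simp)
      map_mul' := fun a b => Subtype.ext (by simp [mul_assoc]) }
  have hback : ∀ m ∈ Subgroup.normalizer (A₁ : Set G), g * m * g⁻¹ ∈ Subgroup.normalizer (A : Set G) := fun m hm =>
    (hmemM _).2 (by simpa [mul_assoc] using hm)
  refine ⟨hel, hcard, Subgroup.le_normalizer, fun a ha g' hg' => fusion hU hel hcard ha hg', ?_, ?_, ?_, η, ?_, ?_, ?_⟩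
  · refine ⟨g * z * g⁻¹, (hmemA _).2 (by simpa [mul_assoc] using h.zmem), ?_, isConj_iff.2 ⟨g, rfl⟩⟩
    intro e
    exact hz1 (conj_eq_one_iff.1 e)
  · obtain ⟨b, hb, hb1, hbz⟩ := h.other
    exact ⟨g * b * g⁻¹, (hmemA _).2 (by simpa [mul_assoc] using hb), fun e => hb1 (conj_eq_one_iff.1 e),
      fun e => hbz (by simpa [mul_assoc] using (hconj _).2 e)⟩
  · intro a ha b hb ha1 hb1 hiff
    obtain ⟨m, hm, e⟩ := h.two _ ((hmemA a).1 ha) _ ((hmemA b).1 hb)
      (fun e => ha1 (by have := congrArg (fun t => g * t * g⁻¹) e; simpa [mul_assoc] using this))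
      (fun e => hb1 (by have := congrArg (fun t => g * t * g⁻¹) e; simpa [mul_assoc] using this))
      (by rw [hconj, hconj]; exact hiff)
    refine ⟨g * m * g⁻¹, hback m hm, ?_⟩
    calc g * m * g⁻¹ * a * (g * m * g⁻¹)⁻¹ = g * (m * (g⁻¹ * a * g) * m⁻¹) * g⁻¹ := by group
      _ = b := by rw [e]; group
  · intro u
    obtain ⟨m, hm⟩ := h.surj u
    refine ⟨⟨g * m * g⁻¹, hback m m.2⟩, ?_⟩
    rw [← hm]
    exact congrArg θ (Subtype.ext (show g⁻¹ * (g * (m : G) * g⁻¹) * g = m by group))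
  · ext m
    show θ _ = 1 ↔ _
    rw [← MonoidHom.mem_ker, h.ker, Subgroup.mem_subgroupOf, Subgroup.mem_subgroupOf]
    exact (hmemA _).symm
  · intro t ht ht1 htz
    obtain ⟨p, q, hpq, hst⟩ := h.stab _ ((hmemA t).1 ht)
      (fun e => ht1 (by have := congrArg (fun t => g * t * g⁻¹) e; simpa [mul_assoc] using this))
      (fun e => htz ((hconj t).1 e))
    refine ⟨p, q, hpq, fun m => Iff.trans ?_ (hst ⟨g⁻¹ * m * g, (hmemM m).1 m.2⟩)⟩
    constructor
    · intro e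
      calc g⁻¹ * (m : G) * g * (g⁻¹ * t * g) = g⁻¹ * ((m : G) * t) * g := by group
        _ = g⁻¹ * t * g * (g⁻¹ * (m : G) * g) := by rw [e]; group
    · intro e
      calc (m : G) * t = g * (g⁻¹ * (m : G) * g * (g⁻¹ * t * g)) * g⁻¹ := by group
        _ = t * (m : G) := by rw [e]; group

end CfsgLib.Sporadic.LargeFischer.Hexa

namespace CfsgLib.Sporadic.LargeFischer.Hexa

open Cfsg CfsgLib.SmallGroups.M24Group
open scoped Pointwise

theorem mem_pair_stabilizer {σ : Equiv.Perm GolayPt} {a b : GolayPt} :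
    σ ∈ MulAction.stabilizer (Equiv.Perm GolayPt) ({a, b} : Set GolayPt) ↔
      ((σ a = a ∧ σ b = b) ∨ (σ a = b ∧ σ b = a)) := by
  rw [MulAction.mem_stabilizer_iff]
  constructor
  · intro h
    have ha : σ a ∈ ({a, b} : Set GolayPt) := h ▸ Set.smul_mem_smul_set (Set.mem_insert a {b})
    have hb : σ b ∈ ({a, b} : Set GolayPt) := h ▸ Set.smul_mem_smul_set (Set.mem_insert_of_mem a rfl)
    simp only [Set.mem_insert_iff, Set.mem_singleton_iff] at ha hb
    rcases ha with ha | ha <;> rcases hb with hb | hb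
    · have hab := σ.injective (ha.trans hb.symm)
      exact Or.inl ⟨ha, by rw [hb, hab]⟩
    · exact Or.inl ⟨ha, hb⟩
    · exact Or.inr ⟨ha, hb⟩
    · have hab := σ.injective (ha.trans hb.symm)
      exact Or.inl ⟨by rw [ha, hab], hb⟩
  · rintro (⟨h1, h2⟩ | ⟨h1, h2⟩) <;>
      simp only [Set.smul_set_insert, Set.smul_set_singleton, Equiv.Perm.smul_def, h1, h2, Set.pair_comm a b]

variable {G : Type*} [Group G] [Finite G] {z : G}

/-- The stabiliser of a member of the small class. -/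
theorem duad_stabilizer {A M : Subgroup G} (_hAel : Cfsg.IsElementaryAbelian 2 A) (_hAM : A ≤ M) (η : ↥M →* ↥Cfsg.M24)
    (hsurj : Function.Surjective η) (hker : η.ker = A.subgroupOf M) {t : G} (_htA : t ∈ A) {p q : GolayPt} (hpq : p ≠ q)
    (hst : ∀ m : ↥M, ((m : G) * t = t * (m : G) ↔ ((η m : Equiv.Perm GolayPt) p = p ∧ (η m : Equiv.Perm GolayPt) q = q) ∨
      ((η m : Equiv.Perm GolayPt) p = q ∧ (η m : Equiv.Perm GolayPt) q = p))) :
    ∃ _ : (A.subgroupOf (M ⊓ Subgroup.centralizer ({t} : Set G))).Normal,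
      Nonempty (↥(M ⊓ Subgroup.centralizer ({t} : Set G)) ⧸ A.subgroupOf (M ⊓ Subgroup.centralizer ({t} : Set G)) ≃*
        ↥(Cfsg.M24 ⊓ MulAction.stabilizer (Equiv.Perm GolayPt) ({none, some 0} : Set GolayPt))) := by
  obtain ⟨g, hg, hgm⟩ := exists_map (n := 2) (by norm_num) ![p, q] ![none, some 0]
    (fun i j e => by fin_cases i <;> fin_cases j <;> simp_all)
    (fun i j e => by fin_cases i <;> fin_cases j <;> simp_all)
  have hp : g p = none := hgm 0
  have hq : g q = some 0 := hgm 1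
  set C := M ⊓ Subgroup.centralizer ({t} : Set G) with hC
  set S := Cfsg.M24 ⊓ MulAction.stabilizer (Equiv.Perm GolayPt) ({none, some 0} : Set GolayPt) with hS
  have hmove : ∀ σ : Equiv.Perm GolayPt, g * σ * g⁻¹ ∈ MulAction.stabilizer (Equiv.Perm GolayPt) ({none, some 0} : Set GolayPt) ↔
      ((σ p = p ∧ σ q = q) ∨ (σ p = q ∧ σ q = p)) := by
    intro σ
    have e1 : g⁻¹ none = p := by rw [← hp]; exact g.symm_apply_apply p
    have e2 : g⁻¹ (some 0) = q := by rw [← hq]; exact g.symm_apply_apply q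
    rw [mem_pair_stabilizer]
    simp only [Equiv.Perm.mul_apply, e1, e2]
    constructor
    · rintro (⟨a, b⟩ | ⟨a, b⟩)
      · exact Or.inl ⟨g.injective (a.trans hp.symm), g.injective (b.trans hq.symm)⟩
      · exact Or.inr ⟨g.injective (a.trans hq.symm), g.injective (b.trans hp.symm)⟩
    · rintro (⟨a, b⟩ | ⟨a, b⟩) <;> simp [a, b, hp, hq]
  let φ : ↥C →* ↥S :=
    { toFun := fun m => ⟨g * (η ⟨m, m.2.1⟩ : Equiv.Perm GolayPt) * g⁻¹, Subgroup.mem_inf.2
        ⟨mul_mem (mul_mem hg (η ⟨m, m.2.1⟩).2) (inv_mem hg),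
        (hmove _).2 ((hst ⟨m, m.2.1⟩).1 (Subgroup.mem_centralizer_singleton_iff.1 m.2.2))⟩⟩
      map_one' := Subtype.ext (by
        show g * ((η (1 : ↥M)) : Equiv.Perm GolayPt) * g⁻¹ = 1
        rw [map_one]; simp)
      map_mul' := fun a b => Subtype.ext (by
        show g * (η (⟨a, a.2.1⟩ * ⟨b, b.2.1⟩ : ↥M) : Equiv.Perm GolayPt) * g⁻¹ = _
        rw [map_mul]
        simp [mul_assoc]) }
  have hφs : Function.Surjective φ := by
    rintro ⟨σ, hσ, hσs⟩
    obtain ⟨m, hm⟩ := hsurj ⟨g⁻¹ * σ * g, mul_mem (mul_mem (inv_mem hg) hσ) hg⟩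
    have hmc : (m : G) * t = t * (m : G) := (hst m).2 ((hmove _).1 (by rw [hm]; simpa [mul_assoc] using hσs))
    refine ⟨⟨m, m.2, Subgroup.mem_centralizer_singleton_iff.2 hmc⟩, Subtype.ext ?_⟩
    show g * (η m : Equiv.Perm GolayPt) * g⁻¹ = σ
    rw [hm]; simp [mul_assoc]
  have hφk : φ.ker = A.subgroupOf C := by
    ext m
    have hm : η ⟨m, m.2.1⟩ = 1 ↔ (m : G) ∈ A := by
      rw [← MonoidHom.mem_ker, hker, Subgroup.mem_subgroupOf]
    rw [MonoidHom.mem_ker, Subgroup.mem_subgroupOf, ← hm]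
    constructor
    · intro e
      exact Subtype.ext (conj_eq_one_iff.1 (congrArg Subtype.val e))
    · intro e
      refine Subtype.ext ?_
      show g * (η ⟨m, m.2.1⟩ : Equiv.Perm GolayPt) * g⁻¹ = 1
      rw [e]; simp
  haveI hn : (A.subgroupOf C).Normal := hφk ▸ inferInstance
  exact ⟨hn, ⟨(QuotientGroup.quotientMulEquivOfEq hφk.symm).trans (QuotientGroup.quotientKerEquivOfSurjective φ hφs)⟩⟩

end CfsgLib.Sporadic.LargeFischer.Hexa
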