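import Mathlib

/-!
# Data: the orbits of the stabiliser of the hexacode on the subgroup of order `2¹¹`
-/

set_option autoImplicit false

namespace CfsgLib.Sporadic.LargeFischer.Hexa

/-- Type, power of the scalar, translation and its hexacode part, coset 1. -/
def cosetRows1 : List (ℕ × ℕ × ℕ × ℕ) := [(0, 0, 0, 0), (1, 0, 0, 0), (2, 0, 0, 0), (2, 0, 10, 0), (2, 1, 0, 0), (2, 1, 10, 0), (2, 2, 0, 0), (2, 2, 10, 0),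
  (2, 0, 16, 5), (2, 0, 26, 5), (0, 0, 16, 5), (1, 0, 16, 5), (2, 2, 32, 10), (2, 2, 42, 10), (2, 1, 48, 15), (2, 1, 58, 15),
  (2, 1, 16, 5), (2, 1, 26, 5), (2, 2, 48, 15), (2, 2, 58, 15), (0, 1, 16, 5), (1, 1, 16, 5), (2, 0, 32, 10), (2, 0, 42, 10),
  (2, 2, 16, 5), (2, 2, 26, 5), (2, 1, 32, 10), (2, 1, 42, 10), (2, 0, 48, 15), (2, 0, 58, 15), (0, 2, 16, 5), (1, 2, 16, 5),
  (0, 0, 1, 16), (1, 0, 1, 16), (2, 0, 1, 16), (2, 0, 11, 16), (2, 1, 9, 48), (2, 1, 3, 48), (2, 2, 8, 32), (2, 2, 2, 32),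
  (2, 0, 17, 21), (2, 0, 27, 21), (0, 0, 17, 21), (1, 0, 17, 21), (2, 2, 40, 42), (2, 2, 34, 42), (2, 1, 57, 63), (2, 1, 51, 63),
  (2, 1, 19, 53), (2, 1, 25, 53), (2, 2, 50, 47), (2, 2, 56, 47), (1, 1, 19, 53), (0, 1, 19, 53), (2, 0, 43, 26), (2, 0, 33, 26),
  (2, 2, 18, 37), (2, 2, 24, 37), (2, 1, 35, 58), (2, 1, 41, 58), (2, 0, 59, 31), (2, 0, 49, 31), (1, 2, 18, 37), (0, 2, 18, 37),
  (0, 1, 1, 16), (1, 1, 1, 16), (2, 0, 8, 32), (2, 0, 2, 32), (2, 1, 1, 16), (2, 1, 11, 16), (2, 2, 9, 48), (2, 2, 3, 48),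
  (2, 0, 18, 37), (2, 0, 24, 37), (1, 0, 18, 37), (0, 0, 18, 37), (2, 2, 35, 58), (2, 2, 41, 58), (2, 1, 59, 31), (2, 1, 49, 31),
  (2, 1, 17, 21), (2, 1, 27, 21), (2, 2, 57, 63), (2, 2, 51, 63), (0, 1, 17, 21), (1, 1, 17, 21), (2, 0, 40, 42), (2, 0, 34, 42),
  (2, 2, 19, 53), (2, 2, 25, 53), (2, 1, 43, 26), (2, 1, 33, 26), (2, 0, 50, 47), (2, 0, 56, 47), (1, 2, 19, 53), (0, 2, 19, 53),
  (0, 2, 1, 16), (1, 2, 1, 16), (2, 0, 9, 48), (2, 0, 3, 48), (2, 1, 8, 32), (2, 1, 2, 32), (2, 2, 1, 16), (2, 2, 11, 16),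
  (2, 0, 19, 53), (2, 0, 25, 53), (1, 0, 19, 53), (0, 0, 19, 53), (2, 2, 43, 26), (2, 2, 33, 26), (2, 1, 50, 47), (2, 1, 56, 47),
  (2, 1, 18, 37), (2, 1, 24, 37), (2, 2, 59, 31), (2, 2, 49, 31), (1, 1, 18, 37), (0, 1, 18, 37), (2, 0, 35, 58), (2, 0, 41, 58),
  (2, 2, 17, 21), (2, 2, 27, 21), (2, 1, 40, 42), (2, 1, 34, 42), (2, 0, 57, 63), (2, 0, 51, 63), (0, 2, 17, 21), (1, 2, 17, 21)]

/-- Type, power of the scalar, translation and its hexacode part, coset 2. -/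
def cosetRows2 : List (ℕ × ℕ × ℕ × ℕ) := [(0, 0, 0, 0), (1, 0, 0, 0), (2, 0, 0, 0), (2, 0, 22, 0), (2, 1, 0, 0), (2, 1, 22, 0), (2, 2, 0, 0), (2, 2, 22, 0),
  (2, 1, 13, 13), (2, 1, 27, 13), (2, 2, 29, 11), (2, 2, 11, 11), (0, 0, 6, 6), (1, 0, 6, 6), (2, 0, 16, 6), (2, 0, 6, 6),
  (2, 2, 13, 13), (2, 2, 27, 13), (2, 1, 16, 6), (2, 1, 6, 6), (2, 0, 29, 11), (2, 0, 11, 11), (0, 1, 6, 6), (1, 1, 6, 6),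
  (2, 0, 13, 13), (2, 0, 27, 13), (0, 2, 6, 6), (1, 2, 6, 6), (2, 2, 16, 6), (2, 2, 6, 6), (2, 1, 29, 11), (2, 1, 11, 11),
  (2, 1, 12, 49), (2, 1, 26, 49), (2, 2, 8, 35), (2, 2, 30, 35), (0, 0, 4, 18), (1, 0, 4, 18), (2, 0, 4, 18), (2, 0, 18, 18),
  (0, 1, 1, 60), (1, 1, 1, 60), (2, 0, 20, 20), (2, 0, 2, 20), (2, 1, 1, 60), (2, 1, 23, 60), (2, 2, 21, 40), (2, 2, 3, 40),
  (2, 0, 15, 25), (2, 0, 25, 25), (1, 2, 5, 46), (0, 2, 5, 46), (2, 2, 19, 46), (2, 2, 5, 46), (2, 1, 10, 55), (2, 1, 28, 55),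
  (2, 2, 14, 37), (2, 2, 24, 37), (2, 1, 7, 58), (2, 1, 17, 58), (2, 0, 31, 31), (2, 0, 9, 31), (1, 1, 7, 58), (0, 1, 7, 58),
  (2, 2, 12, 49), (2, 2, 26, 49), (2, 1, 4, 18), (2, 1, 18, 18), (2, 0, 8, 35), (2, 0, 30, 35), (0, 1, 4, 18), (1, 1, 4, 18),
  (2, 0, 14, 37), (2, 0, 24, 37), (1, 2, 7, 58), (0, 2, 7, 58), (2, 2, 7, 58), (2, 2, 17, 58), (2, 1, 31, 31), (2, 1, 9, 31),
  (0, 2, 1, 60), (1, 2, 1, 60), (2, 0, 21, 40), (2, 0, 3, 40), (2, 1, 20, 20), (2, 1, 2, 20), (2, 2, 1, 60), (2, 2, 23, 60),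
  (2, 1, 15, 25), (2, 1, 25, 25), (2, 2, 10, 55), (2, 2, 28, 55), (1, 0, 5, 46), (0, 0, 5, 46), (2, 0, 19, 46), (2, 0, 5, 46),
  (2, 0, 12, 49), (2, 0, 26, 49), (0, 2, 4, 18), (1, 2, 4, 18), (2, 2, 4, 18), (2, 2, 18, 18), (2, 1, 8, 35), (2, 1, 30, 35),
  (2, 2, 15, 25), (2, 2, 25, 25), (2, 1, 19, 46), (2, 1, 5, 46), (2, 0, 10, 55), (2, 0, 28, 55), (1, 1, 5, 46), (0, 1, 5, 46),
  (2, 1, 14, 37), (2, 1, 24, 37), (2, 2, 31, 31), (2, 2, 9, 31), (1, 0, 7, 58), (0, 0, 7, 58), (2, 0, 7, 58), (2, 0, 17, 58),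
  (0, 0, 1, 60), (1, 0, 1, 60), (2, 0, 1, 60), (2, 0, 23, 60), (2, 1, 21, 40), (2, 1, 3, 40), (2, 2, 20, 20), (2, 2, 2, 20)]

/-- Type, power of the scalar, translation and its hexacode part, coset 3. -/
def cosetRows3 : List (ℕ × ℕ × ℕ × ℕ) := [(0, 0, 0, 0), (1, 0, 0, 0), (0, 2, 4, 2), (1, 2, 4, 2), (0, 0, 4, 2), (1, 0, 4, 2), (0, 1, 4, 2), (1, 1, 4, 2),
  (2, 0, 0, 0), (2, 0, 24, 0), (2, 0, 20, 1), (2, 0, 12, 1), (2, 0, 4, 2), (2, 0, 28, 2), (2, 0, 16, 3), (2, 0, 8, 3),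
  (2, 1, 0, 0), (2, 1, 24, 0), (2, 1, 16, 3), (2, 1, 8, 3), (2, 1, 20, 1), (2, 1, 12, 1), (2, 1, 4, 2), (2, 1, 28, 2),
  (2, 2, 0, 0), (2, 2, 24, 0), (2, 2, 4, 2), (2, 2, 28, 2), (2, 2, 16, 3), (2, 2, 8, 3), (2, 2, 20, 1), (2, 2, 12, 1),
  (2, 1, 2, 52), (2, 1, 26, 52), (2, 1, 10, 55), (2, 1, 18, 55), (2, 1, 14, 53), (2, 1, 22, 53), (2, 1, 6, 54), (2, 1, 30, 54),
  (2, 2, 1, 44), (2, 2, 25, 44), (2, 2, 29, 46), (2, 2, 5, 46), (2, 2, 9, 47), (2, 2, 17, 47), (2, 2, 21, 45), (2, 2, 13, 45),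
  (0, 2, 1, 44), (1, 2, 1, 44), (1, 2, 5, 46), (0, 2, 5, 46), (1, 0, 7, 26), (0, 0, 7, 26), (0, 1, 6, 54), (1, 1, 6, 54),
  (2, 0, 3, 24), (2, 0, 27, 24), (2, 0, 15, 25), (2, 0, 23, 25), (2, 0, 31, 26), (2, 0, 7, 26), (2, 0, 19, 27), (2, 0, 11, 27),
  (2, 2, 2, 52), (2, 2, 26, 52), (2, 2, 6, 54), (2, 2, 30, 54), (2, 2, 10, 55), (2, 2, 18, 55), (2, 2, 14, 53), (2, 2, 22, 53),
  (2, 1, 3, 24), (2, 1, 27, 24), (2, 1, 19, 27), (2, 1, 11, 27), (2, 1, 15, 25), (2, 1, 23, 25), (2, 1, 31, 26), (2, 1, 7, 26),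
  (2, 0, 1, 44), (2, 0, 25, 44), (2, 0, 21, 45), (2, 0, 13, 45), (2, 0, 29, 46), (2, 0, 5, 46), (2, 0, 9, 47), (2, 0, 17, 47),
  (0, 0, 1, 44), (1, 0, 1, 44), (0, 2, 6, 54), (1, 2, 6, 54), (1, 0, 5, 46), (0, 0, 5, 46), (1, 1, 7, 26), (0, 1, 7, 26),
  (2, 0, 2, 52), (2, 0, 26, 52), (2, 0, 14, 53), (2, 0, 22, 53), (2, 0, 6, 54), (2, 0, 30, 54), (2, 0, 10, 55), (2, 0, 18, 55),
  (0, 1, 1, 44), (1, 1, 1, 44), (1, 2, 7, 26), (0, 2, 7, 26), (0, 0, 6, 54), (1, 0, 6, 54), (1, 1, 5, 46), (0, 1, 5, 46),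
  (2, 2, 3, 24), (2, 2, 27, 24), (2, 2, 31, 26), (2, 2, 7, 26), (2, 2, 19, 27), (2, 2, 11, 27), (2, 2, 15, 25), (2, 2, 23, 25),
  (2, 1, 1, 44), (2, 1, 25, 44), (2, 1, 9, 47), (2, 1, 17, 47), (2, 1, 21, 45), (2, 1, 13, 45), (2, 1, 29, 46), (2, 1, 5, 46)]

/-- Type, power of the scalar, translation and its hexacode part, coset 4. -/
def cosetRows4 : List (ℕ × ℕ × ℕ × ℕ) := [(0, 0, 0, 0), (1, 0, 0, 0), (2, 0, 0, 0), (2, 0, 19, 0), (2, 1, 0, 0), (2, 1, 19, 0), (2, 2, 0, 0), (2, 2, 19, 0),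
  (0, 1, 1, 12), (1, 1, 1, 12), (2, 0, 17, 4), (2, 0, 2, 4), (2, 1, 1, 12), (2, 1, 18, 12), (2, 2, 16, 8), (2, 2, 3, 8),
  (0, 2, 1, 12), (1, 2, 1, 12), (2, 0, 16, 8), (2, 0, 3, 8), (2, 1, 17, 4), (2, 1, 2, 4), (2, 2, 1, 12), (2, 2, 18, 12),
  (0, 0, 1, 12), (1, 0, 1, 12), (2, 0, 1, 12), (2, 0, 18, 12), (2, 1, 16, 8), (2, 1, 3, 8), (2, 2, 17, 4), (2, 2, 2, 4),
  (2, 2, 12, 33), (2, 2, 31, 33), (2, 1, 4, 50), (2, 1, 23, 50), (2, 0, 8, 19), (2, 0, 27, 19), (0, 1, 4, 50), (1, 1, 4, 50),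
  (2, 2, 15, 41), (2, 2, 28, 41), (2, 1, 22, 62), (2, 1, 5, 62), (2, 0, 10, 23), (2, 0, 25, 23), (1, 1, 5, 62), (0, 1, 5, 62),
  (2, 2, 13, 45), (2, 2, 30, 45), (2, 1, 21, 54), (2, 1, 6, 54), (2, 0, 24, 27), (2, 0, 11, 27), (0, 1, 6, 54), (1, 1, 6, 54),
  (2, 2, 14, 37), (2, 2, 29, 37), (2, 1, 7, 58), (2, 1, 20, 58), (2, 0, 26, 31), (2, 0, 9, 31), (1, 1, 7, 58), (0, 1, 7, 58),
  (2, 0, 12, 33), (2, 0, 31, 33), (0, 2, 4, 50), (1, 2, 4, 50), (2, 2, 4, 50), (2, 2, 23, 50), (2, 1, 8, 19), (2, 1, 27, 19),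
  (2, 0, 14, 37), (2, 0, 29, 37), (1, 2, 7, 58), (0, 2, 7, 58), (2, 2, 7, 58), (2, 2, 20, 58), (2, 1, 26, 31), (2, 1, 9, 31),
  (2, 0, 15, 41), (2, 0, 28, 41), (1, 2, 5, 62), (0, 2, 5, 62), (2, 2, 22, 62), (2, 2, 5, 62), (2, 1, 10, 23), (2, 1, 25, 23),
  (2, 0, 13, 45), (2, 0, 30, 45), (0, 2, 6, 54), (1, 2, 6, 54), (2, 2, 21, 54), (2, 2, 6, 54), (2, 1, 24, 27), (2, 1, 11, 27),
  (2, 1, 12, 33), (2, 1, 31, 33), (2, 2, 8, 19), (2, 2, 27, 19), (0, 0, 4, 50), (1, 0, 4, 50), (2, 0, 4, 50), (2, 0, 23, 50),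
  (2, 1, 13, 45), (2, 1, 30, 45), (2, 2, 24, 27), (2, 2, 11, 27), (0, 0, 6, 54), (1, 0, 6, 54), (2, 0, 21, 54), (2, 0, 6, 54),
  (2, 1, 14, 37), (2, 1, 29, 37), (2, 2, 26, 31), (2, 2, 9, 31), (1, 0, 7, 58), (0, 0, 7, 58), (2, 0, 7, 58), (2, 0, 20, 58),
  (2, 1, 15, 41), (2, 1, 28, 41), (2, 2, 10, 23), (2, 2, 25, 23), (1, 0, 5, 62), (0, 0, 5, 62), (2, 0, 22, 62), (2, 0, 5, 62)]

/-- Type, power of the scalar, translation and its hexacode part, coset 5. -/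
def cosetRows5 : List (ℕ × ℕ × ℕ × ℕ) := [(0, 0, 0, 0), (1, 0, 0, 0), (2, 0, 0, 0), (2, 0, 38, 0), (2, 1, 0, 0), (2, 1, 38, 0), (2, 2, 0, 0), (2, 2, 38, 0),
  (2, 1, 13, 13), (2, 1, 43, 13), (2, 2, 45, 11), (2, 2, 11, 11), (0, 0, 6, 6), (1, 0, 6, 6), (2, 0, 32, 6), (2, 0, 6, 6),
  (2, 2, 13, 13), (2, 2, 43, 13), (2, 1, 32, 6), (2, 1, 6, 6), (2, 0, 45, 11), (2, 0, 11, 11), (0, 1, 6, 6), (1, 1, 6, 6),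
  (2, 0, 13, 13), (2, 0, 43, 13), (0, 2, 6, 6), (1, 2, 6, 6), (2, 2, 32, 6), (2, 2, 6, 6), (2, 1, 45, 11), (2, 1, 11, 11),
  (2, 0, 12, 17), (2, 0, 42, 17), (0, 2, 4, 34), (1, 2, 4, 34), (2, 2, 4, 34), (2, 2, 34, 34), (2, 1, 8, 51), (2, 1, 46, 51),
  (2, 2, 15, 41), (2, 2, 41, 41), (2, 1, 35, 62), (2, 1, 5, 62), (2, 0, 10, 23), (2, 0, 44, 23), (1, 1, 5, 62), (0, 1, 5, 62),
  (2, 1, 14, 53), (2, 1, 40, 53), (2, 2, 47, 47), (2, 2, 9, 47), (1, 0, 7, 26), (0, 0, 7, 26), (2, 0, 7, 26), (2, 0, 33, 26),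
  (0, 0, 1, 28), (1, 0, 1, 28), (2, 0, 1, 28), (2, 0, 39, 28), (2, 1, 37, 56), (2, 1, 3, 56), (2, 2, 36, 36), (2, 2, 2, 36),
  (2, 1, 12, 17), (2, 1, 42, 17), (2, 2, 8, 51), (2, 2, 46, 51), (0, 0, 4, 34), (1, 0, 4, 34), (2, 0, 4, 34), (2, 0, 34, 34),
  (0, 1, 1, 28), (1, 1, 1, 28), (2, 0, 36, 36), (2, 0, 2, 36), (2, 1, 1, 28), (2, 1, 39, 28), (2, 2, 37, 56), (2, 2, 3, 56),
  (2, 0, 15, 41), (2, 0, 41, 41), (1, 2, 5, 62), (0, 2, 5, 62), (2, 2, 35, 62), (2, 2, 5, 62), (2, 1, 10, 23), (2, 1, 44, 23),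
  (2, 2, 14, 53), (2, 2, 40, 53), (2, 1, 7, 26), (2, 1, 33, 26), (2, 0, 47, 47), (2, 0, 9, 47), (1, 1, 7, 26), (0, 1, 7, 26),
  (2, 2, 12, 17), (2, 2, 42, 17), (2, 1, 4, 34), (2, 1, 34, 34), (2, 0, 8, 51), (2, 0, 46, 51), (0, 1, 4, 34), (1, 1, 4, 34),
  (2, 0, 14, 53), (2, 0, 40, 53), (1, 2, 7, 26), (0, 2, 7, 26), (2, 2, 7, 26), (2, 2, 33, 26), (2, 1, 47, 47), (2, 1, 9, 47),
  (0, 2, 1, 28), (1, 2, 1, 28), (2, 0, 37, 56), (2, 0, 3, 56), (2, 1, 36, 36), (2, 1, 2, 36), (2, 2, 1, 28), (2, 2, 39, 28),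
  (2, 1, 15, 41), (2, 1, 41, 41), (2, 2, 10, 23), (2, 2, 44, 23), (1, 0, 5, 62), (0, 0, 5, 62), (2, 0, 35, 62), (2, 0, 5, 62)]

/-- Type, power of the scalar, translation and its hexacode part, coset 6. -/
def cosetRows6 : List (ℕ × ℕ × ℕ × ℕ) := [(0, 0, 0, 0), (1, 0, 0, 0), (2, 0, 0, 0), (2, 0, 7, 0), (2, 1, 0, 0), (2, 1, 7, 0), (2, 2, 0, 0), (2, 2, 7, 0),
  (2, 2, 48, 9), (2, 2, 55, 9), (2, 1, 16, 14), (2, 1, 23, 14), (2, 0, 32, 7), (2, 0, 39, 7), (0, 1, 16, 14), (1, 1, 16, 14),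
  (2, 0, 48, 9), (2, 0, 55, 9), (0, 2, 16, 14), (1, 2, 16, 14), (2, 2, 16, 14), (2, 2, 23, 14), (2, 1, 32, 7), (2, 1, 39, 7),
  (2, 1, 48, 9), (2, 1, 55, 9), (2, 2, 32, 7), (2, 2, 39, 7), (0, 0, 16, 14), (1, 0, 16, 14), (2, 0, 16, 14), (2, 0, 23, 14),
  (0, 1, 1, 48), (1, 1, 1, 48), (2, 0, 5, 16), (2, 0, 2, 16), (2, 1, 1, 48), (2, 1, 6, 48), (2, 2, 4, 32), (2, 2, 3, 32),
  (2, 2, 51, 41), (2, 2, 52, 41), (2, 1, 22, 62), (2, 1, 17, 62), (2, 0, 34, 23), (2, 0, 37, 23), (1, 1, 17, 62), (0, 1, 17, 62),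
  (2, 0, 50, 25), (2, 0, 53, 25), (1, 2, 19, 46), (0, 2, 19, 46), (2, 2, 19, 46), (2, 2, 20, 46), (2, 1, 38, 55), (2, 1, 33, 55),
  (2, 1, 49, 57), (2, 1, 54, 57), (2, 2, 36, 39), (2, 2, 35, 39), (0, 0, 18, 30), (1, 0, 18, 30), (2, 0, 21, 30), (2, 0, 18, 30),
  (0, 2, 1, 48), (1, 2, 1, 48), (2, 0, 4, 32), (2, 0, 3, 32), (2, 1, 5, 16), (2, 1, 2, 16), (2, 2, 1, 48), (2, 2, 6, 48),
  (2, 2, 49, 57), (2, 2, 54, 57), (2, 1, 21, 30), (2, 1, 18, 30), (2, 0, 36, 39), (2, 0, 35, 39), (0, 1, 18, 30), (1, 1, 18, 30),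
  (2, 0, 51, 41), (2, 0, 52, 41), (1, 2, 17, 62), (0, 2, 17, 62), (2, 2, 22, 62), (2, 2, 17, 62), (2, 1, 34, 23), (2, 1, 37, 23),
  (2, 1, 50, 25), (2, 1, 53, 25), (2, 2, 38, 55), (2, 2, 33, 55), (1, 0, 19, 46), (0, 0, 19, 46), (2, 0, 19, 46), (2, 0, 20, 46),
  (0, 0, 1, 48), (1, 0, 1, 48), (2, 0, 1, 48), (2, 0, 6, 48), (2, 1, 4, 32), (2, 1, 3, 32), (2, 2, 5, 16), (2, 2, 2, 16),
  (2, 2, 50, 25), (2, 2, 53, 25), (2, 1, 19, 46), (2, 1, 20, 46), (2, 0, 38, 55), (2, 0, 33, 55), (1, 1, 19, 46), (0, 1, 19, 46),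
  (2, 0, 49, 57), (2, 0, 54, 57), (0, 2, 18, 30), (1, 2, 18, 30), (2, 2, 21, 30), (2, 2, 18, 30), (2, 1, 36, 39), (2, 1, 35, 39),
  (2, 1, 51, 41), (2, 1, 52, 41), (2, 2, 34, 23), (2, 2, 37, 23), (1, 0, 17, 62), (0, 0, 17, 62), (2, 0, 22, 62), (2, 0, 17, 62)]

/-- Type, power of the scalar, translation and its hexacode part, coset 7. -/
def cosetRows7 : List (ℕ × ℕ × ℕ × ℕ) := [(0, 0, 0, 0), (1, 0, 0, 0), (2, 0, 0, 0), (2, 0, 6, 0), (2, 1, 0, 0), (2, 1, 6, 0), (2, 2, 0, 0), (2, 2, 6, 0),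
  (2, 1, 32, 13), (2, 1, 38, 13), (2, 2, 16, 11), (2, 2, 22, 11), (0, 2, 16, 11), (1, 2, 16, 11), (2, 0, 48, 6), (2, 0, 54, 6),
  (2, 2, 32, 13), (2, 2, 38, 13), (2, 1, 48, 6), (2, 1, 54, 6), (2, 0, 16, 11), (2, 0, 22, 11), (0, 0, 16, 11), (1, 0, 16, 11),
  (2, 0, 32, 13), (2, 0, 38, 13), (0, 1, 16, 11), (1, 1, 16, 11), (2, 2, 48, 6), (2, 2, 54, 6), (2, 1, 16, 11), (2, 1, 22, 11),
  (0, 2, 1, 32), (1, 2, 1, 32), (2, 0, 5, 16), (2, 0, 3, 16), (2, 1, 4, 48), (2, 1, 2, 48), (2, 2, 1, 32), (2, 2, 7, 32),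
  (2, 1, 34, 61), (2, 1, 36, 61), (2, 2, 23, 43), (2, 2, 17, 43), (1, 2, 17, 43), (0, 2, 17, 43), (2, 0, 51, 22), (2, 0, 53, 22),
  (2, 2, 33, 45), (2, 2, 39, 45), (2, 1, 52, 54), (2, 1, 50, 54), (2, 0, 21, 27), (2, 0, 19, 27), (0, 0, 19, 27), (1, 0, 19, 27),
  (2, 0, 35, 29), (2, 0, 37, 29), (1, 1, 18, 59), (0, 1, 18, 59), (2, 2, 55, 38), (2, 2, 49, 38), (2, 1, 18, 59), (2, 1, 20, 59),
  (0, 0, 1, 32), (1, 0, 1, 32), (2, 0, 1, 32), (2, 0, 7, 32), (2, 1, 5, 16), (2, 1, 3, 16), (2, 2, 4, 48), (2, 2, 2, 48),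
  (2, 1, 35, 29), (2, 1, 37, 29), (2, 2, 18, 59), (2, 2, 20, 59), (1, 2, 18, 59), (0, 2, 18, 59), (2, 0, 55, 38), (2, 0, 49, 38),
  (2, 2, 34, 61), (2, 2, 36, 61), (2, 1, 51, 22), (2, 1, 53, 22), (2, 0, 23, 43), (2, 0, 17, 43), (1, 0, 17, 43), (0, 0, 17, 43),
  (2, 0, 33, 45), (2, 0, 39, 45), (0, 1, 19, 27), (1, 1, 19, 27), (2, 2, 52, 54), (2, 2, 50, 54), (2, 1, 21, 27), (2, 1, 19, 27),
  (0, 1, 1, 32), (1, 1, 1, 32), (2, 0, 4, 48), (2, 0, 2, 48), (2, 1, 1, 32), (2, 1, 7, 32), (2, 2, 5, 16), (2, 2, 3, 16),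
  (2, 1, 33, 45), (2, 1, 39, 45), (2, 2, 21, 27), (2, 2, 19, 27), (0, 2, 19, 27), (1, 2, 19, 27), (2, 0, 52, 54), (2, 0, 50, 54),
  (2, 2, 35, 29), (2, 2, 37, 29), (2, 1, 55, 38), (2, 1, 49, 38), (2, 0, 18, 59), (2, 0, 20, 59), (1, 0, 18, 59), (0, 0, 18, 59),
  (2, 0, 34, 61), (2, 0, 36, 61), (1, 1, 17, 43), (0, 1, 17, 43), (2, 2, 51, 22), (2, 2, 53, 22), (2, 1, 23, 43), (2, 1, 17, 43)]

/-- Type, power of the scalar, translation and its hexacode part, coset 8. -/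
def cosetRows8 : List (ℕ × ℕ × ℕ × ℕ) := [(0, 0, 0, 0), (1, 0, 0, 0), (0, 1, 4, 3), (1, 1, 4, 3), (0, 2, 4, 3), (1, 2, 4, 3), (0, 0, 4, 3), (1, 0, 4, 3),
  (2, 0, 0, 0), (2, 0, 28, 0), (2, 0, 20, 1), (2, 0, 8, 1), (2, 0, 16, 2), (2, 0, 12, 2), (2, 0, 4, 3), (2, 0, 24, 3),
  (2, 1, 0, 0), (2, 1, 28, 0), (2, 1, 4, 3), (2, 1, 24, 3), (2, 1, 20, 1), (2, 1, 8, 1), (2, 1, 16, 2), (2, 1, 12, 2),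
  (2, 2, 0, 0), (2, 2, 28, 0), (2, 2, 16, 2), (2, 2, 12, 2), (2, 2, 4, 3), (2, 2, 24, 3), (2, 2, 20, 1), (2, 2, 8, 1),
  (2, 2, 3, 36), (2, 2, 31, 36), (2, 2, 15, 38), (2, 2, 19, 38), (2, 2, 7, 39), (2, 2, 27, 39), (2, 2, 11, 37), (2, 2, 23, 37),
  (2, 1, 1, 56), (2, 1, 29, 56), (2, 1, 25, 59), (2, 1, 5, 59), (2, 1, 21, 57), (2, 1, 9, 57), (2, 1, 13, 58), (2, 1, 17, 58),
  (2, 0, 2, 28), (2, 0, 30, 28), (2, 0, 10, 29), (2, 0, 22, 29), (2, 0, 18, 30), (2, 0, 14, 30), (2, 0, 26, 31), (2, 0, 6, 31),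
  (0, 1, 1, 56), (1, 1, 1, 56), (1, 1, 5, 59), (0, 1, 5, 59), (0, 2, 7, 39), (1, 2, 7, 39), (1, 0, 6, 31), (0, 0, 6, 31),
  (2, 0, 3, 36), (2, 0, 31, 36), (2, 0, 11, 37), (2, 0, 23, 37), (2, 0, 15, 38), (2, 0, 19, 38), (2, 0, 7, 39), (2, 0, 27, 39),
  (0, 2, 1, 56), (1, 2, 1, 56), (1, 1, 6, 31), (0, 1, 6, 31), (1, 2, 5, 59), (0, 2, 5, 59), (0, 0, 7, 39), (1, 0, 7, 39),
  (2, 2, 1, 56), (2, 2, 29, 56), (2, 2, 13, 58), (2, 2, 17, 58), (2, 2, 25, 59), (2, 2, 5, 59), (2, 2, 21, 57), (2, 2, 9, 57),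
  (2, 1, 2, 28), (2, 1, 30, 28), (2, 1, 26, 31), (2, 1, 6, 31), (2, 1, 10, 29), (2, 1, 22, 29), (2, 1, 18, 30), (2, 1, 14, 30),
  (2, 1, 3, 36), (2, 1, 31, 36), (2, 1, 7, 39), (2, 1, 27, 39), (2, 1, 11, 37), (2, 1, 23, 37), (2, 1, 15, 38), (2, 1, 19, 38),
  (2, 2, 2, 28), (2, 2, 30, 28), (2, 2, 18, 30), (2, 2, 14, 30), (2, 2, 26, 31), (2, 2, 6, 31), (2, 2, 10, 29), (2, 2, 22, 29),
  (0, 0, 1, 56), (1, 0, 1, 56), (0, 1, 7, 39), (1, 1, 7, 39), (1, 2, 6, 31), (0, 2, 6, 31), (1, 0, 5, 59), (0, 0, 5, 59),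
  (2, 0, 1, 56), (2, 0, 29, 56), (2, 0, 21, 57), (2, 0, 9, 57), (2, 0, 13, 58), (2, 0, 17, 58), (2, 0, 25, 59), (2, 0, 5, 59)]

/-- Type, power of the scalar, translation and its hexacode part, coset 9. -/
def cosetRows9 : List (ℕ × ℕ × ℕ × ℕ) := [(0, 0, 0, 0), (1, 0, 0, 0), (2, 0, 0, 0), (2, 0, 23, 0), (2, 1, 0, 0), (2, 1, 23, 0), (2, 2, 0, 0), (2, 2, 23, 0),
  (2, 2, 9, 9), (2, 2, 30, 9), (2, 1, 25, 14), (2, 1, 14, 14), (2, 0, 16, 7), (2, 0, 7, 7), (0, 0, 7, 7), (1, 0, 7, 7),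
  (2, 0, 9, 9), (2, 0, 30, 9), (0, 1, 7, 7), (1, 1, 7, 7), (2, 2, 25, 14), (2, 2, 14, 14), (2, 1, 16, 7), (2, 1, 7, 7),
  (2, 1, 9, 9), (2, 1, 30, 9), (2, 2, 16, 7), (2, 2, 7, 7), (0, 2, 7, 7), (1, 2, 7, 7), (2, 0, 25, 14), (2, 0, 14, 14),
  (2, 2, 8, 33), (2, 2, 31, 33), (2, 1, 12, 50), (2, 1, 27, 50), (2, 0, 4, 19), (2, 0, 19, 19), (0, 0, 4, 19), (1, 0, 4, 19),
  (0, 2, 1, 40), (1, 2, 1, 40), (2, 0, 20, 20), (2, 0, 3, 20), (2, 1, 21, 60), (2, 1, 2, 60), (2, 2, 1, 40), (2, 2, 22, 40),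
  (2, 1, 11, 53), (2, 1, 28, 53), (2, 2, 6, 47), (2, 2, 17, 47), (1, 2, 6, 47), (0, 2, 6, 47), (2, 0, 26, 26), (2, 0, 13, 26),
  (2, 0, 10, 29), (2, 0, 29, 29), (1, 1, 5, 59), (0, 1, 5, 59), (2, 2, 15, 38), (2, 2, 24, 38), (2, 1, 18, 59), (2, 1, 5, 59),
  (2, 0, 8, 33), (2, 0, 31, 33), (0, 1, 4, 19), (1, 1, 4, 19), (2, 2, 12, 50), (2, 2, 27, 50), (2, 1, 4, 19), (2, 1, 19, 19),
  (2, 1, 10, 29), (2, 1, 29, 29), (2, 2, 18, 59), (2, 2, 5, 59), (1, 2, 5, 59), (0, 2, 5, 59), (2, 0, 15, 38), (2, 0, 24, 38),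
  (0, 0, 1, 40), (1, 0, 1, 40), (2, 0, 1, 40), (2, 0, 22, 40), (2, 1, 20, 20), (2, 1, 3, 20), (2, 2, 21, 60), (2, 2, 2, 60),
  (2, 2, 11, 53), (2, 2, 28, 53), (2, 1, 26, 26), (2, 1, 13, 26), (2, 0, 6, 47), (2, 0, 17, 47), (1, 0, 6, 47), (0, 0, 6, 47),
  (2, 1, 8, 33), (2, 1, 31, 33), (2, 2, 4, 19), (2, 2, 19, 19), (0, 2, 4, 19), (1, 2, 4, 19), (2, 0, 12, 50), (2, 0, 27, 50),
  (2, 0, 11, 53), (2, 0, 28, 53), (1, 1, 6, 47), (0, 1, 6, 47), (2, 2, 26, 26), (2, 2, 13, 26), (2, 1, 6, 47), (2, 1, 17, 47),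
  (2, 2, 10, 29), (2, 2, 29, 29), (2, 1, 15, 38), (2, 1, 24, 38), (2, 0, 18, 59), (2, 0, 5, 59), (1, 0, 5, 59), (0, 0, 5, 59),
  (0, 1, 1, 40), (1, 1, 1, 40), (2, 0, 21, 60), (2, 0, 2, 60), (2, 1, 1, 40), (2, 1, 22, 40), (2, 2, 20, 20), (2, 2, 3, 20)]

/-- Type, power of the scalar, translation and its hexacode part, coset 10. -/
def cosetRows10 : List (ℕ × ℕ × ℕ × ℕ) := [(0, 0, 0, 0), (1, 0, 0, 0), (2, 0, 0, 0), (2, 0, 34, 0), (2, 1, 0, 0), (2, 1, 34, 0), (2, 2, 0, 0), (2, 2, 34, 0),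
  (0, 0, 1, 4), (1, 0, 1, 4), (2, 0, 1, 4), (2, 0, 35, 4), (2, 1, 33, 12), (2, 1, 3, 12), (2, 2, 32, 8), (2, 2, 2, 8),
  (0, 1, 1, 4), (1, 1, 1, 4), (2, 0, 32, 8), (2, 0, 2, 8), (2, 1, 1, 4), (2, 1, 35, 4), (2, 2, 33, 12), (2, 2, 3, 12),
  (0, 2, 1, 4), (1, 2, 1, 4), (2, 0, 33, 12), (2, 0, 3, 12), (2, 1, 32, 8), (2, 1, 2, 8), (2, 2, 1, 4), (2, 2, 35, 4),
  (2, 0, 4, 17), (2, 0, 38, 17), (0, 0, 4, 17), (1, 0, 4, 17), (2, 2, 8, 34), (2, 2, 42, 34), (2, 1, 12, 51), (2, 1, 46, 51),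
  (2, 0, 5, 21), (2, 0, 39, 21), (0, 0, 5, 21), (1, 0, 5, 21), (2, 2, 40, 42), (2, 2, 10, 42), (2, 1, 45, 63), (2, 1, 15, 63),
  (2, 0, 6, 25), (2, 0, 36, 25), (1, 0, 6, 25), (0, 0, 6, 25), (2, 2, 11, 46), (2, 2, 41, 46), (2, 1, 47, 55), (2, 1, 13, 55),
  (2, 0, 7, 29), (2, 0, 37, 29), (1, 0, 7, 29), (0, 0, 7, 29), (2, 2, 43, 38), (2, 2, 9, 38), (2, 1, 14, 59), (2, 1, 44, 59),
  (2, 1, 4, 17), (2, 1, 38, 17), (2, 2, 12, 51), (2, 2, 46, 51), (0, 1, 4, 17), (1, 1, 4, 17), (2, 0, 8, 34), (2, 0, 42, 34),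
  (2, 1, 7, 29), (2, 1, 37, 29), (2, 2, 14, 59), (2, 2, 44, 59), (1, 1, 7, 29), (0, 1, 7, 29), (2, 0, 43, 38), (2, 0, 9, 38),
  (2, 1, 5, 21), (2, 1, 39, 21), (2, 2, 45, 63), (2, 2, 15, 63), (0, 1, 5, 21), (1, 1, 5, 21), (2, 0, 40, 42), (2, 0, 10, 42),
  (2, 1, 6, 25), (2, 1, 36, 25), (2, 2, 47, 55), (2, 2, 13, 55), (1, 1, 6, 25), (0, 1, 6, 25), (2, 0, 11, 46), (2, 0, 41, 46),
  (2, 2, 4, 17), (2, 2, 38, 17), (2, 1, 8, 34), (2, 1, 42, 34), (2, 0, 12, 51), (2, 0, 46, 51), (0, 2, 4, 17), (1, 2, 4, 17),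
  (2, 2, 6, 25), (2, 2, 36, 25), (2, 1, 11, 46), (2, 1, 41, 46), (2, 0, 47, 55), (2, 0, 13, 55), (1, 2, 6, 25), (0, 2, 6, 25),
  (2, 2, 7, 29), (2, 2, 37, 29), (2, 1, 43, 38), (2, 1, 9, 38), (2, 0, 14, 59), (2, 0, 44, 59), (1, 2, 7, 29), (0, 2, 7, 29),
  (2, 2, 5, 21), (2, 2, 39, 21), (2, 1, 40, 42), (2, 1, 10, 42), (2, 0, 45, 63), (2, 0, 15, 63), (0, 2, 5, 21), (1, 2, 5, 21)]

/-- Type, power of the scalar, translation and its hexacode part, coset 11. -/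
def cosetRows11 : List (ℕ × ℕ × ℕ × ℕ) := [(0, 0, 0, 0), (1, 0, 0, 0), (0, 0, 4, 1), (1, 0, 4, 1), (0, 1, 4, 1), (1, 1, 4, 1), (0, 2, 4, 1), (1, 2, 4, 1),
  (2, 0, 0, 0), (2, 0, 40, 0), (2, 0, 4, 1), (2, 0, 44, 1), (2, 0, 32, 2), (2, 0, 8, 2), (2, 0, 36, 3), (2, 0, 12, 3),
  (2, 1, 0, 0), (2, 1, 40, 0), (2, 1, 36, 3), (2, 1, 12, 3), (2, 1, 4, 1), (2, 1, 44, 1), (2, 1, 32, 2), (2, 1, 8, 2),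
  (2, 2, 0, 0), (2, 2, 40, 0), (2, 2, 32, 2), (2, 2, 8, 2), (2, 2, 36, 3), (2, 2, 12, 3), (2, 2, 4, 1), (2, 2, 44, 1),
  (2, 0, 1, 20), (2, 0, 41, 20), (2, 0, 5, 21), (2, 0, 45, 21), (2, 0, 9, 22), (2, 0, 33, 22), (2, 0, 13, 23), (2, 0, 37, 23),
  (0, 0, 1, 20), (1, 0, 1, 20), (0, 0, 5, 21), (1, 0, 5, 21), (1, 1, 7, 61), (0, 1, 7, 61), (1, 2, 6, 41), (0, 2, 6, 41),
  (2, 2, 2, 40), (2, 2, 42, 40), (2, 2, 34, 42), (2, 2, 10, 42), (2, 2, 14, 43), (2, 2, 38, 43), (2, 2, 46, 41), (2, 2, 6, 41),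
  (2, 1, 3, 60), (2, 1, 43, 60), (2, 1, 39, 63), (2, 1, 15, 63), (2, 1, 47, 61), (2, 1, 7, 61), (2, 1, 11, 62), (2, 1, 35, 62),
  (2, 1, 1, 20), (2, 1, 41, 20), (2, 1, 13, 23), (2, 1, 37, 23), (2, 1, 5, 21), (2, 1, 45, 21), (2, 1, 9, 22), (2, 1, 33, 22),
  (2, 2, 3, 60), (2, 2, 43, 60), (2, 2, 11, 62), (2, 2, 35, 62), (2, 2, 39, 63), (2, 2, 15, 63), (2, 2, 47, 61), (2, 2, 7, 61),
  (0, 1, 1, 20), (1, 1, 1, 20), (1, 0, 6, 41), (0, 0, 6, 41), (0, 1, 5, 21), (1, 1, 5, 21), (1, 2, 7, 61), (0, 2, 7, 61),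
  (2, 0, 2, 40), (2, 0, 42, 40), (2, 0, 46, 41), (2, 0, 6, 41), (2, 0, 34, 42), (2, 0, 10, 42), (2, 0, 14, 43), (2, 0, 38, 43),
  (2, 2, 1, 20), (2, 2, 41, 20), (2, 2, 9, 22), (2, 2, 33, 22), (2, 2, 13, 23), (2, 2, 37, 23), (2, 2, 5, 21), (2, 2, 45, 21),
  (2, 1, 2, 40), (2, 1, 42, 40), (2, 1, 14, 43), (2, 1, 38, 43), (2, 1, 46, 41), (2, 1, 6, 41), (2, 1, 34, 42), (2, 1, 10, 42),
  (2, 0, 3, 60), (2, 0, 43, 60), (2, 0, 47, 61), (2, 0, 7, 61), (2, 0, 11, 62), (2, 0, 35, 62), (2, 0, 39, 63), (2, 0, 15, 63),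
  (0, 2, 1, 20), (1, 2, 1, 20), (1, 0, 7, 61), (0, 0, 7, 61), (1, 1, 6, 41), (0, 1, 6, 41), (0, 2, 5, 21), (1, 2, 5, 21)]

/-- Type, power of the scalar, translation and its hexacode part, coset 12. -/
def cosetRows12 : List (ℕ × ℕ × ℕ × ℕ) := [(0, 0, 0, 0), (1, 0, 0, 0), (2, 0, 0, 0), (2, 0, 26, 0), (2, 1, 0, 0), (2, 1, 26, 0), (2, 2, 0, 0), (2, 2, 26, 0),
  (2, 0, 5, 5), (2, 0, 31, 5), (0, 0, 5, 5), (1, 0, 5, 5), (2, 2, 16, 10), (2, 2, 10, 10), (2, 1, 21, 15), (2, 1, 15, 15),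
  (2, 1, 5, 5), (2, 1, 31, 5), (2, 2, 21, 15), (2, 2, 15, 15), (0, 1, 5, 5), (1, 1, 5, 5), (2, 0, 16, 10), (2, 0, 10, 10),
  (2, 2, 5, 5), (2, 2, 31, 5), (2, 1, 16, 10), (2, 1, 10, 10), (2, 0, 21, 15), (2, 0, 15, 15), (0, 2, 5, 5), (1, 2, 5, 5),
  (2, 1, 4, 49), (2, 1, 30, 49), (2, 2, 12, 35), (2, 2, 22, 35), (0, 1, 4, 49), (1, 1, 4, 49), (2, 0, 8, 18), (2, 0, 18, 18),
  (2, 2, 6, 41), (2, 2, 28, 41), (2, 1, 11, 62), (2, 1, 17, 62), (2, 0, 23, 23), (2, 0, 13, 23), (1, 2, 6, 41), (0, 2, 6, 41),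
  (0, 1, 1, 52), (1, 1, 1, 52), (2, 0, 24, 24), (2, 0, 2, 24), (2, 1, 1, 52), (2, 1, 27, 52), (2, 2, 25, 44), (2, 2, 3, 44),
  (2, 0, 7, 29), (2, 0, 29, 29), (1, 0, 7, 29), (0, 0, 7, 29), (2, 2, 19, 38), (2, 2, 9, 38), (2, 1, 14, 59), (2, 1, 20, 59),
  (2, 2, 4, 49), (2, 2, 30, 49), (2, 1, 8, 18), (2, 1, 18, 18), (2, 0, 12, 35), (2, 0, 22, 35), (0, 2, 4, 49), (1, 2, 4, 49),
  (2, 1, 7, 29), (2, 1, 29, 29), (2, 2, 14, 59), (2, 2, 20, 59), (1, 1, 7, 29), (0, 1, 7, 29), (2, 0, 19, 38), (2, 0, 9, 38),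
  (2, 0, 6, 41), (2, 0, 28, 41), (1, 0, 6, 41), (0, 0, 6, 41), (2, 2, 11, 62), (2, 2, 17, 62), (2, 1, 23, 23), (2, 1, 13, 23),
  (0, 2, 1, 52), (1, 2, 1, 52), (2, 0, 25, 44), (2, 0, 3, 44), (2, 1, 24, 24), (2, 1, 2, 24), (2, 2, 1, 52), (2, 2, 27, 52),
  (2, 0, 4, 49), (2, 0, 30, 49), (0, 0, 4, 49), (1, 0, 4, 49), (2, 2, 8, 18), (2, 2, 18, 18), (2, 1, 12, 35), (2, 1, 22, 35),
  (0, 0, 1, 52), (1, 0, 1, 52), (2, 0, 1, 52), (2, 0, 27, 52), (2, 1, 25, 44), (2, 1, 3, 44), (2, 2, 24, 24), (2, 2, 2, 24),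
  (2, 2, 7, 29), (2, 2, 29, 29), (2, 1, 19, 38), (2, 1, 9, 38), (2, 0, 14, 59), (2, 0, 20, 59), (1, 2, 7, 29), (0, 2, 7, 29),
  (2, 1, 6, 41), (2, 1, 28, 41), (2, 2, 23, 23), (2, 2, 13, 23), (1, 1, 6, 41), (0, 1, 6, 41), (2, 0, 11, 62), (2, 0, 17, 62)]

/-- Type, power of the scalar, translation and its hexacode part, coset 13. -/
def cosetRows13 : List (ℕ × ℕ × ℕ × ℕ) := [(0, 0, 0, 0), (1, 0, 0, 0), (2, 0, 0, 0), (2, 0, 31, 0), (2, 1, 0, 0), (2, 1, 31, 0), (2, 2, 0, 0), (2, 2, 31, 0),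
  (2, 0, 5, 5), (2, 0, 26, 5), (0, 0, 5, 5), (1, 0, 5, 5), (2, 2, 21, 10), (2, 2, 10, 10), (2, 1, 16, 15), (2, 1, 15, 15),
  (2, 1, 5, 5), (2, 1, 26, 5), (2, 2, 16, 15), (2, 2, 15, 15), (0, 1, 5, 5), (1, 1, 5, 5), (2, 0, 21, 10), (2, 0, 10, 10),
  (2, 2, 5, 5), (2, 2, 26, 5), (2, 1, 21, 10), (2, 1, 10, 10), (2, 0, 16, 15), (2, 0, 15, 15), (0, 2, 5, 5), (1, 2, 5, 5),
  (2, 2, 4, 33), (2, 2, 27, 33), (2, 1, 8, 50), (2, 1, 23, 50), (2, 0, 12, 19), (2, 0, 19, 19), (0, 2, 4, 33), (1, 2, 4, 33),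
  (2, 1, 7, 61), (2, 1, 24, 61), (2, 2, 14, 43), (2, 2, 17, 43), (1, 1, 7, 61), (0, 1, 7, 61), (2, 0, 22, 22), (2, 0, 9, 22),
  (2, 0, 6, 25), (2, 0, 25, 25), (1, 0, 6, 25), (0, 0, 6, 25), (2, 2, 11, 46), (2, 2, 20, 46), (2, 1, 18, 55), (2, 1, 13, 55),
  (0, 2, 1, 36), (1, 2, 1, 36), (2, 0, 28, 28), (2, 0, 3, 28), (2, 1, 29, 56), (2, 1, 2, 56), (2, 2, 1, 36), (2, 2, 30, 36),
  (2, 0, 4, 33), (2, 0, 27, 33), (0, 0, 4, 33), (1, 0, 4, 33), (2, 2, 8, 50), (2, 2, 23, 50), (2, 1, 12, 19), (2, 1, 19, 19),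
  (0, 0, 1, 36), (1, 0, 1, 36), (2, 0, 1, 36), (2, 0, 30, 36), (2, 1, 28, 28), (2, 1, 3, 28), (2, 2, 29, 56), (2, 2, 2, 56),
  (2, 2, 7, 61), (2, 2, 24, 61), (2, 1, 22, 22), (2, 1, 9, 22), (2, 0, 14, 43), (2, 0, 17, 43), (1, 2, 7, 61), (0, 2, 7, 61),
  (2, 1, 6, 25), (2, 1, 25, 25), (2, 2, 18, 55), (2, 2, 13, 55), (1, 1, 6, 25), (0, 1, 6, 25), (2, 0, 11, 46), (2, 0, 20, 46),
  (2, 1, 4, 33), (2, 1, 27, 33), (2, 2, 12, 19), (2, 2, 19, 19), (0, 1, 4, 33), (1, 1, 4, 33), (2, 0, 8, 50), (2, 0, 23, 50),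
  (2, 2, 6, 25), (2, 2, 25, 25), (2, 1, 11, 46), (2, 1, 20, 46), (2, 0, 18, 55), (2, 0, 13, 55), (1, 2, 6, 25), (0, 2, 6, 25),
  (0, 1, 1, 36), (1, 1, 1, 36), (2, 0, 29, 56), (2, 0, 2, 56), (2, 1, 1, 36), (2, 1, 30, 36), (2, 2, 28, 28), (2, 2, 3, 28),
  (2, 0, 7, 61), (2, 0, 24, 61), (1, 0, 7, 61), (0, 0, 7, 61), (2, 2, 22, 22), (2, 2, 9, 22), (2, 1, 14, 43), (2, 1, 17, 43)]

/-- Type, power of the scalar, translation and its hexacode part, coset 14. -/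
def cosetRows14 : List (ℕ × ℕ × ℕ × ℕ) := [(0, 0, 0, 0), (1, 0, 0, 0), (2, 0, 0, 0), (2, 0, 18, 0), (2, 1, 0, 0), (2, 1, 18, 0), (2, 2, 0, 0), (2, 2, 18, 0),
  (0, 2, 1, 8), (1, 2, 1, 8), (2, 0, 17, 4), (2, 0, 3, 4), (2, 1, 16, 12), (2, 1, 2, 12), (2, 2, 1, 8), (2, 2, 19, 8),
  (0, 0, 1, 8), (1, 0, 1, 8), (2, 0, 1, 8), (2, 0, 19, 8), (2, 1, 17, 4), (2, 1, 3, 4), (2, 2, 16, 12), (2, 2, 2, 12),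
  (0, 1, 1, 8), (1, 1, 1, 8), (2, 0, 16, 12), (2, 0, 2, 12), (2, 1, 1, 8), (2, 1, 19, 8), (2, 2, 17, 4), (2, 2, 3, 4),
  (2, 1, 8, 49), (2, 1, 26, 49), (2, 2, 4, 35), (2, 2, 22, 35), (0, 2, 4, 35), (1, 2, 4, 35), (2, 0, 12, 18), (2, 0, 30, 18),
  (2, 1, 10, 61), (2, 1, 24, 61), (2, 2, 23, 43), (2, 2, 5, 43), (1, 2, 5, 43), (0, 2, 5, 43), (2, 0, 15, 22), (2, 0, 29, 22),
  (2, 1, 11, 53), (2, 1, 25, 53), (2, 2, 6, 47), (2, 2, 20, 47), (1, 2, 6, 47), (0, 2, 6, 47), (2, 0, 31, 26), (2, 0, 13, 26),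
  (2, 1, 9, 57), (2, 1, 27, 57), (2, 2, 21, 39), (2, 2, 7, 39), (0, 2, 7, 39), (1, 2, 7, 39), (2, 0, 28, 30), (2, 0, 14, 30),
  (2, 2, 8, 49), (2, 2, 26, 49), (2, 1, 12, 18), (2, 1, 30, 18), (2, 0, 4, 35), (2, 0, 22, 35), (0, 0, 4, 35), (1, 0, 4, 35),
  (2, 2, 9, 57), (2, 2, 27, 57), (2, 1, 28, 30), (2, 1, 14, 30), (2, 0, 21, 39), (2, 0, 7, 39), (0, 0, 7, 39), (1, 0, 7, 39),
  (2, 2, 10, 61), (2, 2, 24, 61), (2, 1, 15, 22), (2, 1, 29, 22), (2, 0, 23, 43), (2, 0, 5, 43), (1, 0, 5, 43), (0, 0, 5, 43),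
  (2, 2, 11, 53), (2, 2, 25, 53), (2, 1, 31, 26), (2, 1, 13, 26), (2, 0, 6, 47), (2, 0, 20, 47), (1, 0, 6, 47), (0, 0, 6, 47),
  (2, 0, 8, 49), (2, 0, 26, 49), (0, 1, 4, 35), (1, 1, 4, 35), (2, 2, 12, 18), (2, 2, 30, 18), (2, 1, 4, 35), (2, 1, 22, 35),
  (2, 0, 11, 53), (2, 0, 25, 53), (1, 1, 6, 47), (0, 1, 6, 47), (2, 2, 31, 26), (2, 2, 13, 26), (2, 1, 6, 47), (2, 1, 20, 47),
  (2, 0, 9, 57), (2, 0, 27, 57), (0, 1, 7, 39), (1, 1, 7, 39), (2, 2, 28, 30), (2, 2, 14, 30), (2, 1, 21, 39), (2, 1, 7, 39),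
  (2, 0, 10, 61), (2, 0, 24, 61), (1, 1, 5, 43), (0, 1, 5, 43), (2, 2, 15, 22), (2, 2, 29, 22), (2, 1, 23, 43), (2, 1, 5, 43)]

/-- Type, power of the scalar, translation and its hexacode part, coset 15. -/
def cosetRows15 : List (ℕ × ℕ × ℕ × ℕ) := [(0, 0, 0, 0), (1, 0, 0, 0), (2, 0, 0, 0), (2, 0, 46, 0), (2, 1, 0, 0), (2, 1, 46, 0), (2, 2, 0, 0), (2, 2, 46, 0),
  (2, 2, 9, 9), (2, 2, 39, 9), (2, 1, 32, 14), (2, 1, 14, 14), (2, 0, 41, 7), (2, 0, 7, 7), (0, 0, 7, 7), (1, 0, 7, 7),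
  (2, 0, 9, 9), (2, 0, 39, 9), (0, 1, 7, 7), (1, 1, 7, 7), (2, 2, 32, 14), (2, 2, 14, 14), (2, 1, 41, 7), (2, 1, 7, 7),
  (2, 1, 9, 9), (2, 1, 39, 9), (2, 2, 41, 7), (2, 2, 7, 7), (0, 2, 7, 7), (1, 2, 7, 7), (2, 0, 32, 14), (2, 0, 14, 14),
  (2, 0, 8, 17), (2, 0, 38, 17), (0, 1, 4, 51), (1, 1, 4, 51), (2, 2, 12, 34), (2, 2, 34, 34), (2, 1, 4, 51), (2, 1, 42, 51),
  (2, 1, 10, 61), (2, 1, 36, 61), (2, 2, 43, 43), (2, 2, 5, 43), (1, 2, 5, 43), (0, 2, 5, 43), (2, 0, 15, 22), (2, 0, 33, 22),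
  (0, 0, 1, 24), (1, 0, 1, 24), (2, 0, 1, 24), (2, 0, 47, 24), (2, 1, 45, 52), (2, 1, 3, 52), (2, 2, 44, 44), (2, 2, 2, 44),
  (2, 2, 11, 37), (2, 2, 37, 37), (2, 1, 35, 58), (2, 1, 13, 58), (2, 0, 6, 31), (2, 0, 40, 31), (1, 0, 6, 31), (0, 0, 6, 31),
  (2, 1, 8, 17), (2, 1, 38, 17), (2, 2, 4, 51), (2, 2, 42, 51), (0, 2, 4, 51), (1, 2, 4, 51), (2, 0, 12, 34), (2, 0, 34, 34),
  (2, 0, 11, 37), (2, 0, 37, 37), (1, 1, 6, 31), (0, 1, 6, 31), (2, 2, 35, 58), (2, 2, 13, 58), (2, 1, 6, 31), (2, 1, 40, 31),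
  (2, 2, 10, 61), (2, 2, 36, 61), (2, 1, 15, 22), (2, 1, 33, 22), (2, 0, 43, 43), (2, 0, 5, 43), (1, 0, 5, 43), (0, 0, 5, 43),
  (0, 1, 1, 24), (1, 1, 1, 24), (2, 0, 44, 44), (2, 0, 2, 44), (2, 1, 1, 24), (2, 1, 47, 24), (2, 2, 45, 52), (2, 2, 3, 52),
  (2, 2, 8, 17), (2, 2, 38, 17), (2, 1, 12, 34), (2, 1, 34, 34), (2, 0, 4, 51), (2, 0, 42, 51), (0, 0, 4, 51), (1, 0, 4, 51),
  (0, 2, 1, 24), (1, 2, 1, 24), (2, 0, 45, 52), (2, 0, 3, 52), (2, 1, 44, 44), (2, 1, 2, 44), (2, 2, 1, 24), (2, 2, 47, 24),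
  (2, 1, 11, 37), (2, 1, 37, 37), (2, 2, 6, 31), (2, 2, 40, 31), (1, 2, 6, 31), (0, 2, 6, 31), (2, 0, 35, 58), (2, 0, 13, 58),
  (2, 0, 10, 61), (2, 0, 36, 61), (1, 1, 5, 43), (0, 1, 5, 43), (2, 2, 15, 22), (2, 2, 33, 22), (2, 1, 43, 43), (2, 1, 5, 43)]

/-- The tables of the cosets. -/
def cosetRows : List (List (ℕ × ℕ × ℕ × ℕ)) := [[], cosetRows1, cosetRows2, cosetRows3, cosetRows4, cosetRows5, cosetRows6, cosetRows7, cosetRows8, cosetRows9, cosetRows10, cosetRows11, cosetRows12, cosetRows13, cosetRows14, cosetRows15]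

/-- Type and word for the elements over the identity. -/
def baseRows : List (ℕ × List ℕ) := [(0, []), (1, []), (2, []), (2, [3]),
  (2, [2]), (2, [2, 4]), (2, [0]), (2, [0, 3]),
  (2, [0, 1, 1, 0]), (2, [0, 1, 1, 0, 5]), (2, [1, 1, 1]), (2, [1, 1, 1, 3]),
  (2, [1, 0, 1, 2]), (2, [1, 0, 1, 2, 4]), (2, [1, 0, 1, 1]), (2, [1, 0, 1, 1, 3]),
  (2, [1, 1, 0]), (2, [1, 1, 0, 6]), (2, [1, 0, 1, 1, 2]), (2, [1, 0, 1, 1, 2, 3]),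
  (2, [1, 1, 1, 2]), (2, [1, 1, 1, 2, 4]), (2, [0, 1, 0, 1]), (2, [0, 1, 0, 1, 3]),
  (2, [1, 1, 0, 2]), (2, [1, 1, 0, 2, 5]), (2, [1, 0, 1]), (2, [1, 0, 1, 3]),
  (2, [0, 1, 0, 1, 1]), (2, [0, 1, 0, 1, 1, 4]), (2, [0, 1, 1, 1]), (2, [0, 1, 1, 1, 3]),
  (2, [0, 1, 0, 1, 0]), (2, [0, 1, 0, 1, 0, 7]), (2, [1, 1, 0, 0, 1]), (2, [1, 1, 0, 0, 1, 3]),
  (2, [1, 1, 0, 0]), (2, [1, 1, 0, 0, 4]), (2, [1, 1, 2]), (2, [1, 1, 2, 3]),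
  (2, [1, 0, 1, 0, 1]), (2, [1, 0, 1, 0, 1, 5]), (2, [1, 1, 1, 1, 2]), (2, [1, 1, 1, 1, 2, 3]),
  (3, []), (3, [4]), (3, [0, 2]), (3, [0, 2, 3]),
  (2, [0, 1, 0, 0]), (2, [0, 1, 0, 0, 6]), (3, [0, 1]), (3, [0, 1, 3]),
  (3, [1, 2]), (3, [1, 2, 4]), (2, [1]), (2, [1, 3]),
  (2, [0, 1, 0, 0, 0]), (2, [0, 1, 0, 0, 0, 5]), (3, [1, 0, 2]), (3, [1, 0, 2, 3]),
  (2, [1, 0]), (2, [1, 0, 4]), (3, [0, 1, 0]), (3, [0, 1, 0, 3]),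
  (2, [1, 0, 1, 0]), (2, [1, 0, 1, 0, 8]), (2, [0, 1, 1]), (2, [0, 1, 1, 3]),
  (2, [0, 1, 0, 1, 1, 0]), (2, [0, 1, 0, 1, 1, 0, 4]), (2, [1, 1, 0, 0, 2]), (2, [1, 1, 0, 0, 2, 3]),
  (2, [1, 0, 0, 0]), (2, [1, 0, 0, 0, 5]), (3, [0, 1, 0, 2]), (3, [0, 1, 0, 2, 3]),
  (3, [1, 0, 1]), (3, [1, 0, 1, 4]), (2, [1, 0, 2]), (2, [1, 0, 2, 3]),
  (2, [1, 1, 1, 1, 0]), (2, [1, 1, 1, 1, 0, 6]), (3, [0, 2, 2]), (3, [0, 2, 2, 3]),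
  (2, [0, 1, 1, 1, 1]), (2, [0, 1, 1, 1, 1, 4]), (3, [2]), (3, [2, 3]),
  (2, [1, 0, 0]), (2, [1, 0, 0, 5]), (2, [1, 2]), (2, [1, 2, 3]),
  (3, [0, 1, 2]), (3, [0, 1, 2, 4]), (3, [1, 2, 2]), (3, [1, 2, 2, 3]),
  (2, [1, 0, 0, 0, 1]), (2, [1, 0, 0, 0, 1, 7]), (2, [0, 1, 1, 0, 0]), (2, [0, 1, 1, 0, 0, 3]),
  (2, [1, 1]), (2, [1, 1, 4]), (2, [1, 0, 1, 1, 0]), (2, [1, 0, 1, 1, 0, 3]),
  (2, [1, 0, 0, 2]), (2, [1, 0, 0, 2, 5]), (3, [1]), (3, [1, 3]),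
  (2, [0, 1]), (2, [0, 1, 4]), (3, [0, 1, 2, 2]), (3, [0, 1, 2, 2, 3]),
  (2, [1, 1, 0, 1]), (2, [1, 1, 0, 1, 6]), (2, [0, 1, 0]), (2, [0, 1, 0, 3]),
  (3, [0, 1, 0, 2, 2]), (3, [0, 1, 0, 2, 2, 4]), (3, [1, 0]), (3, [1, 0, 3]),
  (2, [0, 1, 0, 1, 0, 1]), (2, [0, 1, 0, 1, 0, 1, 5]), (3, [2, 2]), (3, [2, 2, 3]),
  (3, [0]), (3, [0, 4]), (2, [1, 1, 1, 1]), (2, [1, 1, 1, 1, 3])]

/-- Translations moving the central part. -/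
def flipVec : List ℕ := [2, 1, 8, 4, 32, 16]

/-- A coefficient outside the commutator space, for each coset. -/
def cosetRep : List ℕ := [0, 1, 1, 4, 1, 1, 1, 1, 4, 1, 1, 4, 1, 1, 1, 1]

/-- Coefficients of words of weight four and six. -/
def wtFour : ℕ := 1

/-- See `wtFour`. -/
def wtSix : ℕ := 22

/-- The signs of the lifts. -/
def signs : List ℕ := [0, 0, 0, 0, 0, 0, 0, 1, 0, 0, 0, 1, 0, 1, 1, 1]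

/-- The elements attached to the points, the residues first. -/
def pointCode : List ℕ := [1782, 294, 1776, 925, 1472, 578, 1779, 771, 1443, 1282, 1085, 1354, 67, 800, 349, 1778, 966, 418, 394, 554, 1773, 1786, 1030, 0]

end CfsgLib.Sporadic.LargeFischer.Hexa
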