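import Cfsg.Agent.Lib.Sporadic.LargeFischer.Hexa.Elements
import Cfsg.Agent.Lib.Sporadic.LargeFischer.Hexa.CertData

/-!
# The action on the subgroup of order `2¹¹`, on codes

A code `n` has coset part `n % 16`, central bit `4` and hexacode part `n / 32`.
-/

set_option autoImplicit false
set_option linter.unusedSectionVars false
set_option maxRecDepth 40000

namespace CfsgLib.Sporadic.LargeFischer.Hexa

open CfsgLib.Sporadic.LargeFischer

/-- The code with the given parts. -/
def mkc (u : ℕ) (e : Bool) (k : ℕ) : ℕ := u + (if e then 16 else 0) + k * 32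

/-- The polar form, on codes. -/
def bsc (a b : ℕ) : Bool := (Qb (a ^^^ b) ^^ Qb a) ^^ Qb b

/-- The scalar. -/
def sX (n : ℕ) : ℕ := mkc (n % 16) (n.testBit 4) (ok (n / 32))

/-- The central change of a translation. -/
def tE (u v : ℕ) : Bool := Qb v ^^ bsc v (omc (lm (bL u) v))

/-- Validity of a translation. -/
def tOK (u v kd : ℕ) : Bool :=
  decide (kd < 64) && decide (v < 4096) && (wv kd == lm (bL u) v ^^^ v) && !bsc (lm (bL u) v) v

/-- A translation. -/
def sT (v kd n : ℕ) : ℕ :=
  mkc (n % 16) (n.testBit 4 ^^ (tE (n % 16) v ^^ bsc v (wv (n / 32)))) (n / 32 ^^^ kd)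

/-- A monomial map, given its central change. -/
def sG (j : Fin 2) (l : Bool) (n : ℕ) : ℕ := mkc (gu j (n % 16)) (n.testBit 4 ^^ l) (gk j (n / 32))

/-- The coefficient outside the commutator space. -/
def kc (u : ℕ) : ℕ := cosetRep.getD u 0

/-- The representatives in a coset. -/
def rep (ty u : ℕ) : ℕ := mkc u (ty == 1) (if ty == 2 then kc u else 0)

/-- A row of a coset table. -/
def crow (u m : ℕ) : ℕ × ℕ × ℕ × ℕ := (cosetRows.getD u []).getD m (0, 0, 0, 0)

/-- The type of an element. -/
def tyC (u m : ℕ) : ℕ := (crow u m).1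

/-- Apply the scalar a number of times. -/
def sXn : ℕ → ℕ → ℕ
  | 0, n => n
  | j + 1, n => sX (sXn j n)

/-- Correctness of a row. -/
def crowOK (u m : ℕ) : Bool :=
  decide ((crow u m).1 < 3) && decide ((crow u m).2.1 < 3) &&
    tOK u (crow u m).2.2.1 (crow u m).2.2.2 &&
    (sXn (crow u m).2.1 (sT (crow u m).2.2.1 (crow u m).2.2.2 (rep (crow u m).1 u)) == u + 16 * m)

theorem crows_ok : (List.range 16).all (fun u => u == 0 || (List.range 128).all (crowOK u)) = true := by decide +kernel

/-- The generators over the identity. -/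
def sB (i n : ℕ) : ℕ :=
  if i < 2 then sG (Fin.ofNat 2 i) false n else if i = 2 then sX n else sT (flipVec.getD (i - 3) 0) 0 n

/-- The representatives over the identity. -/
def baseRep (ty : ℕ) : ℕ :=
  if ty = 0 then 0 else if ty = 1 then 16 else if ty = 2 then wtFour * 32 else wtSix * 32

/-- The type of an element over the identity. -/
def tyB (m : ℕ) : ℕ := (baseRows.getD m (0, [])).1

/-- Correctness of a row over the identity. -/
def browOK (m : ℕ) : Bool :=
  decide (tyB m < 4) && (baseRows.getD m (0, [])).2.all (· < 9) &&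
    ((baseRows.getD m (0, [])).2.foldl (fun n i => sB i n) (baseRep (tyB m)) == 16 * m)

theorem brows_ok : (List.range 128).all browOK = true := by decide +kernel

theorem flip_ok : (List.range 6).all (fun i => tOK 0 (flipVec.getD i 0) 0) = true := by decide +kernel

theorem rep_type : (List.range 16).all (fun u => u == 0 ||
    (tyC u 0 == 0 && tyC u 1 == 1 && tyC u (2 * kc u) == 2 && tyC u (2 * kc u + 1) == 2 &&
      (List.range 2).all fun j => (List.range 2).all fun e =>
        tyC (gu (Fin.ofNat 2 j) u) (2 * gk (Fin.ofNat 2 j) (kc u) + e) == 2)) = true := by decide +kernel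

theorem count_coset : ∀ a b c : Bool, ∀ u : Fin 16, u.1 ≠ 0 →
    ((List.range 128).countP fun m => if tyC u.1 m = 0 then a else if tyC u.1 m = 1 then b else c) =
      (if a then 16 else 0) + (if b then 16 else 0) + (if c then 96 else 0) := by decide +kernel

theorem count_base : ((List.range 128).countP fun m => tyB m == 1 || tyB m == 2) = 91 ∧
    ((List.range 128).countP fun m => tyB m == 3) = 36 ∧
    ∀ m : Fin 128, (tyB m.1 = 0 ↔ m.1 = 0) ∧ (tyB m.1 = 1 ↔ m.1 = 1) := by decide +kernel

theorem base_weights : wtFour < 64 ∧ wtSix < 64 ∧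
    wt (dec (wv wtFour)) = 4 ∧ wt (dec (wv wtSix)) = 6 ∧ cls (dec (wv wtSix)) = 0 := by decide +kernel

theorem mkc_facts : ∀ u : Fin 16, ∀ e : Bool, ∀ k : Fin 64, mkc u.1 e k.1 < 2048 ∧ mkc u.1 e k.1 % 16 = u.1 ∧
    (mkc u.1 e k.1).testBit 4 = e ∧ mkc u.1 e k.1 / 32 = k.1 := by decide +kernel

theorem mkc_eta : ∀ n : Fin 2048, mkc (n.1 % 16) (n.1.testBit 4) (n.1 / 32) = n.1 := by decide +kernel

/-- Membership of the small class, given the signs. -/
def inD (s : ℕ → Bool) (n : ℕ) : Bool :=
  if n % 16 == 0 then tyB (n / 16) == 3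
  else decide (tyC (n % 16) (n / 16) < 2) && ((tyC (n % 16) (n / 16) == 1) == s (n % 16))

/-- The element of a point. -/
def pcode (i : ℕ) : ℕ := pointCode.getD i 0

/-- The signs. -/
def sgnB (u : ℕ) : Bool := signs.getD u 0 == 1

end CfsgLib.Sporadic.LargeFischer.Hexa
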