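import Cfsg.Agent.Lib.Sporadic.LargeFischer.Hexa.ASub
import Cfsg.Agent.Lib.Sporadic.LargeFischer.Hexa.Model

/-!
# The subgroup of order `2¹¹` and the elements acting on it
-/

set_option autoImplicit false
set_option linter.style.haveILetI false
set_option linter.unusedSectionVars false
set_option maxRecDepth 40000

namespace CfsgLib.Sporadic.LargeFischer.Hexa

open CfsgLib.Sporadic.LargeFischer CfsgLib.ThreeTransp.Extraspecial

theorem cu_eq (n : ℕ) : cu n = n % 16 := rfl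

theorem ce_mkc (u : Fin 16) (e : Bool) (k : Fin 64) :
    cu (mkc u.1 e k.1) = u.1 ∧ ce (mkc u.1 e k.1) = (if e then 1 else 0) ∧ ck (mkc u.1 e k.1) = k.1 ∧
      mkc u.1 e k.1 < 2048 := by
  obtain ⟨h0, h1, h2, h3⟩ := mkc_facts u e k
  exact ⟨h1, by rw [ce, bz, h2], h3, h0⟩

/-- A Boolean as an exponent. -/
def bv (b : Bool) : ZMod 2 := if b then 1 else 0

theorem bv_xor (a b : Bool) : bv (a ^^ b) = bv a + bv b := by cases a <;> cases b <;> decide

theorem qs_eq_bv (n : ℕ) (hn : n < 4096) : qs (dec n) = bv (Qb n) := by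
  rcases (by decide : ∀ c : ZMod 2, c = 0 ∨ c = 1) (qs (dec n)) with e | e
  · cases hq : Qb n
    · exact e
    · rw [← enc_dec hn, Qb_iff, e] at hq
      exact absurd hq (by decide)
  · have hq := (Qb_iff _).2 e
    rw [enc_dec hn] at hq
    rw [e, hq]; rfl

theorem bs_eq_bv (a b : ℕ) (ha : a < 4096) (hb : b < 4096) : bs (dec a) (dec b) = bv (bsc a b) := by
  show qs (dec a + dec b) + qs (dec a) + qs (dec b) = _
  rw [← dec_xor, qs_eq_bv _ (Nat.xor_lt_two_pow (n := 12) ha hb), qs_eq_bv _ ha, qs_eq_bv _ hb, bsc, bv_xor, bv_xor]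

namespace Frame

variable {G : Type*} [Group G] [Finite G] {z : G} {Q : Subgroup (Subgroup.centralizer ({z} : Set G))} [Q.Normal]
  {π : G → V6} {ψ : ↥(Subgroup.centralizer ({z} : Set G)) →* (V6 ≃ₗ[ZMod 2] V6)}
  {x : ↥(Subgroup.centralizer ({z} : Set G))} (F : Frame z Q π ψ x)
  {c : Fin 4 → ↥(Subgroup.centralizer ({z} : Set G))} (L : Lifts ψ x c)
include F L

/-- The element with the given code. -/
noncomputable def el (_L : Lifts ψ x c) (n : ℕ) : G := (Subtype.val (cpr c (cu n))) * zp z (ce n) * F.rho (ck n)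

theorem el_cent (n : ℕ) : F.el L n * z = z * F.el L n :=
  ((Commute.mul_left (Commute.mul_left (F.z_comm' (cpr c (cu n)))
    (F.lf.zp_comm (ce n) (Commute.refl z).eq)) (F.rho_cent _)) : Commute (F.el L n) z).eq

theorem cpr_rho (u : ℕ) (hu : u < 16) {k : ℕ} (hk : k < 64) :
    (Subtype.val (cpr c u)) * F.rho k = F.rho k * (Subtype.val (cpr c u)) :=
  F.lift_rho (L.cpr_comm u) hu hk (L.cpr_img u)

theorem zp_commute (e : ZMod 2) {g : G} (hg : g * z = z * g) : Commute (zp z e) g := F.lf.zp_comm e hg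

theorem cpr_xor {u u' : ℕ} (hu : u < 16) (hu' : u' < 16) :
    (Subtype.val (cpr c (u ^^^ u'))) = (Subtype.val (cpr c u)) * Subtype.val (cpr c u') := by
  have hc : ∀ i j, Commute (c i : G) (c j) := fun i j => F.lift_comm (L.comm i) (L.comm j)
    (Nat.pow_lt_pow_right (by norm_num : 1 < 2) i.2) (Nat.pow_lt_pow_right (by norm_num : 1 < 2) j.2) (L.img i) (L.img j)
  have hsq : ∀ i, (c i : G) * c i = 1 := fun i =>
    F.lift_sq (L.comm i) (Nat.pow_lt_pow_right (by norm_num : 1 < 2) i.2) (L.img i)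
  have hp : ∀ (i : Fin 4) (a b : Bool), ((if a ^^ b then c i else 1 : ↥(Subgroup.centralizer ({z} : Set G))) : G) =
      (if a then c i else 1 : ↥(Subgroup.centralizer ({z} : Set G))) * (if b then c i else 1 : ↥(Subgroup.centralizer ({z} : Set G))) := by
    intro i a b
    cases a <;> cases b <;> simp [hsq]
  have hq : ∀ (i j : Fin 4) (a b : Bool), Commute ((if a then c i else 1 : ↥(Subgroup.centralizer ({z} : Set G))) : G)
      ((if b then c j else 1 : ↥(Subgroup.centralizer ({z} : Set G))) : G) := by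
    intro i j a b
    cases a <;> cases b <;> simp [hc i j]
  simp only [cpr, Subgroup.coe_mul, Nat.testBit_xor, hp]
  generalize ha0 : ((if u.testBit 0 then c 0 else 1 : ↥(Subgroup.centralizer ({z} : Set G))) : G) = a0
  generalize ha1 : ((if u.testBit 1 then c 1 else 1 : ↥(Subgroup.centralizer ({z} : Set G))) : G) = a1
  generalize ha2 : ((if u.testBit 2 then c 2 else 1 : ↥(Subgroup.centralizer ({z} : Set G))) : G) = a2
  generalize ha3 : ((if u.testBit 3 then c 3 else 1 : ↥(Subgroup.centralizer ({z} : Set G))) : G) = a3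
  generalize hb0 : ((if u'.testBit 0 then c 0 else 1 : ↥(Subgroup.centralizer ({z} : Set G))) : G) = b0
  generalize hb1 : ((if u'.testBit 1 then c 1 else 1 : ↥(Subgroup.centralizer ({z} : Set G))) : G) = b1
  generalize hb2 : ((if u'.testBit 2 then c 2 else 1 : ↥(Subgroup.centralizer ({z} : Set G))) : G) = b2
  generalize hb3 : ((if u'.testBit 3 then c 3 else 1 : ↥(Subgroup.centralizer ({z} : Set G))) : G) = b3
  have k1 : Commute b0 a1 := by rw [← hb0, ← ha1]; exact hq _ _ _ _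
  have k2 : Commute b0 a2 := by rw [← hb0, ← ha2]; exact hq _ _ _ _
  have k3 : Commute b0 a3 := by rw [← hb0, ← ha3]; exact hq _ _ _ _
  have k4 : Commute b1 a2 := by rw [← hb1, ← ha2]; exact hq _ _ _ _
  have k5 : Commute b1 a3 := by rw [← hb1, ← ha3]; exact hq _ _ _ _
  have k6 : Commute b2 a3 := by rw [← hb2, ← ha3]; exact hq _ _ _ _
  calc a0 * b0 * (a1 * b1) * (a2 * b2) * (a3 * b3)
      = a0 * (b0 * a1) * (b1 * a2) * (b2 * a3) * b3 := by group
    _ = a0 * a1 * (b0 * a2) * b1 * a3 * b2 * b3 := by rw [k1.eq, k4.eq, k6.eq]; group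
    _ = a0 * a1 * a2 * b0 * (b1 * a3) * b2 * b3 := by rw [k2.eq]; group
    _ = a0 * a1 * a2 * (b0 * a3) * b1 * b2 * b3 := by rw [k5.eq]; group
    _ = a0 * a1 * a2 * a3 * (b0 * b1 * b2 * b3) := by rw [k3.eq]; group

theorem el_xor {a b : ℕ} (ha : a < 2048) (hb : b < 2048) : F.el L (a ^^^ b) = F.el L a * F.el L b := by
  obtain ⟨e1, e2, e3⟩ := code_xor a b
  rw [el, e1, e2, e3, F.cpr_xor L (cu_lt a) (cu_lt b), F.lf.zp_add, F.rho_xor (ck_lt ha) (ck_lt hb)]
  have k1 : Commute (Subtype.val (cpr c (cu b))) (zp z (ce a)) := (F.zp_commute L _ (F.z_comm' _)).symm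
  have k2 : Commute (Subtype.val (cpr c (cu b))) (F.rho (ck a)) := F.cpr_rho L _ (cu_lt b) (ck_lt ha)
  have k3 : Commute (zp z (ce b)) (F.rho (ck a)) := F.zp_commute L _ (F.rho_cent _)
  unfold el
  calc (Subtype.val (cpr c (cu a))) * Subtype.val (cpr c (cu b)) * (zp z (ce a) * zp z (ce b)) * (F.rho (ck a) * F.rho (ck b))
      = Subtype.val (cpr c (cu a)) * ((Subtype.val (cpr c (cu b))) * zp z (ce a)) * (zp z (ce b) * F.rho (ck a)) * F.rho (ck b) := by group
    _ = Subtype.val (cpr c (cu a)) * zp z (ce a) * ((Subtype.val (cpr c (cu b))) * F.rho (ck a)) * zp z (ce b) * F.rho (ck b) := by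
      rw [k1.eq, k3.eq]; group
    _ = Subtype.val (cpr c (cu a)) * zp z (ce a) * F.rho (ck a) * (Subtype.val (cpr c (cu b)) * zp z (ce b) * F.rho (ck b)) := by rw [k2.eq]; group

theorem el_zero : F.el L 0 = 1 := by
  simp [el, cu, ce, ck, bz_zero, cpr, F.rho_zero, zp_zero]

theorem el_mkc {u : ℕ} (hu : u < 16) (e : Bool) {k : ℕ} (hk : k < 64) :
    F.el L (mkc u e k) = (Subtype.val (cpr c u)) * zp z (bv e) * F.rho k := by
  obtain ⟨h1, h2, h3, -⟩ := ce_mkc ⟨u, hu⟩ e ⟨k, hk⟩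
  simp only at h1 h2 h3
  rw [el, h1, h2, h3]; rfl

/-- The subgroup. -/
noncomputable def asub : Subgroup G where
  carrier := {g | ∃ n < 2048, g = F.el L n}
  one_mem' := ⟨0, by norm_num, (F.el_zero L).symm⟩
  mul_mem' := fun {a b} ⟨n, hn, ea⟩ ⟨m, hm, eb⟩ =>
    ⟨n ^^^ m, Nat.xor_lt_two_pow (n := 11) hn hm, by rw [F.el_xor L hn hm, ← ea, ← eb]⟩
  inv_mem' := fun {a} ⟨n, hn, ea⟩ => ⟨n, hn, by
    refine inv_eq_of_mul_eq_one_left ?_
    rw [ea, ← F.el_xor L hn hn, Nat.xor_self, F.el_zero L]⟩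

theorem mem_asub {g : G} : g ∈ F.asub L ↔ ∃ n < 2048, g = F.el L n := Iff.rfl

theorem asub_comm {a b : G} (ha : a ∈ F.asub L) (hb : b ∈ F.asub L) : a * b = b * a := by
  obtain ⟨n, hn, rfl⟩ := ha
  obtain ⟨m, hm, rfl⟩ := hb
  rw [← F.el_xor L hn hm, Nat.xor_comm, F.el_xor L hm hn]

theorem asub_sq {a : G} (ha : a ∈ F.asub L) : a * a = 1 := by
  obtain ⟨n, hn, rfl⟩ := ha
  rw [← F.el_xor L hn hn, Nat.xor_self, F.el_zero L]

theorem el_inj {n m : ℕ} (hn : n < 2048) (hm : m < 2048) (e : F.el L n = F.el L m) : n = m := by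
  have key : ∀ p, ψ ⟨F.el L p, Subgroup.mem_centralizer_singleton_iff.2 (F.el_cent L p)⟩ = Bel (cu p) := by
    intro p
    have hz : (⟨zp z (ce p), F.lf.mem_cent (F.lf.zp_mem _)⟩ : ↥(Subgroup.centralizer ({z} : Set G))) ∈ ψ.ker :=
      (F.lf.ker _).2 (F.lf.zp_mem _)
    have hr : (⟨F.rho (ck p), F.lf.mem_cent (F.rho_mem _)⟩ : ↥(Subgroup.centralizer ({z} : Set G))) ∈ ψ.ker :=
      (F.lf.ker _).2 (F.rho_mem _)
    rw [show (⟨F.el L p, Subgroup.mem_centralizer_singleton_iff.2 (F.el_cent L p)⟩ : ↥(Subgroup.centralizer ({z} : Set G))) =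
      cpr c (cu p) * ⟨zp z (ce p), F.lf.mem_cent (F.lf.zp_mem _)⟩ * ⟨F.rho (ck p), F.lf.mem_cent (F.rho_mem _)⟩ from rfl,
      map_mul, map_mul, MonoidHom.mem_ker.1 hz, MonoidHom.mem_ker.1 hr, mul_one, mul_one, L.cpr_img]
  have hu : cu n = cu m := Bel_inj (cu_lt n) (cu_lt m) (by rw [← key n, ← key m]; simp only [e])
  unfold el at e
  rw [hu, mul_assoc, mul_assoc] at e
  have e' := mul_left_cancel e
  have hk : ck n = ck m := wv_inj (ck_lt hn) (ck_lt hm) (by
    have h1 := congrArg π e'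
    rwa [F.lf.π_mul _ (F.lf.zp_mem _) _ (F.rho_mem _), F.lf.π_mul _ (F.lf.zp_mem _) _ (F.rho_mem _), F.lf.π_zp,
      F.lf.π_zp, zero_add, zero_add, F.π_rho, F.π_rho] at h1)
  rw [hk] at e'
  exact congrArg Fin.val (code_eq ⟨n, hn⟩ ⟨m, hm⟩ hu (F.lf.zp_inj (mul_right_cancel e')) hk)

theorem card_asub : Nat.card ↥(F.asub L) = 2 ^ 11 := by
  let f : Fin 2048 → ↥(F.asub L) := fun n => ⟨F.el L n.1, n.1, n.2, rfl⟩
  rw [← Nat.card_eq_of_bijective f ⟨fun a b e => Fin.ext (F.el_inj L a.2 b.2 (congrArg Subtype.val e)),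
    fun ⟨g, n, hn, e⟩ => ⟨⟨n, hn⟩, Subtype.ext e.symm⟩⟩, Nat.card_eq_fintype_card, Fintype.card_fin]
  norm_num

theorem isElementaryAbelian_asub : Cfsg.IsElementaryAbelian 2 (F.asub L) :=
  ⟨⟨⟨fun a b => Subtype.ext (F.asub_comm L a.2 b.2)⟩⟩, fun a ha => by rw [pow_two]; exact F.asub_sq L ha⟩

theorem z_mem_asub : z ∈ F.asub L := by
  refine ⟨mkc 0 true 0, by decide, ?_⟩
  rw [F.el_mkc L (by norm_num) true (by norm_num)]
  simp [cpr, bv, zp_one, F.rho_zero]

theorem rho_mem_asub {k : ℕ} (hk : k < 64) : F.rho k ∈ F.asub L := by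
  refine ⟨mkc 0 false k, (ce_mkc 0 false ⟨k, hk⟩).2.2.2, ?_⟩
  rw [F.el_mkc L (by norm_num) false hk]
  simp [cpr, bv, zp_zero]

/-- An element commuting with `z` and all the lifts of the hexacode lies in the subgroup. -/
theorem mem_of_commute {g : G} (hz : g * z = z * g) (hr : ∀ k, k < 64 → g * F.rho k = F.rho k * g) :
    g ∈ F.asub L := by
  set gc : ↥(Subgroup.centralizer ({z} : Set G)) := ⟨g, Subgroup.mem_centralizer_singleton_iff.2 hz⟩
  have hfix : ∀ k, k < 64 → ψ gc (dec (wv k)) = dec (wv k) := fun k hk => by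
    rw [← F.π_rho, ← F.lf.act gc _ (F.rho_mem k), show (gc : G) * F.rho k * (gc : G)⁻¹ = F.rho k from
      mul_inv_eq_iff_eq_mul.2 (hr k hk)]
  obtain ⟨u, hu, eu⟩ := F.stab _ ⟨gc, rfl⟩ hfix
  have hq : ((cpr c u)⁻¹ * gc : ↥(Subgroup.centralizer ({z} : Set G))).1 ∈ qImg Q :=
    (F.lf.ker _).1 (by rw [map_mul, map_inv, L.cpr_img, eu, inv_mul_cancel])
  set q : G := ((Subtype.val (cpr c u)))⁻¹ * g with hq_def
  have hq' : q ∈ qImg Q := hq
  have hW : InW (π q) := inW_of_perp fun k hk => by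
    rw [← F.π_rho k]
    refine F.lf.bs_of_commute hq' (F.rho_mem k) ?_
    have e1 : ((Subtype.val (cpr c u)))⁻¹ * F.rho k = F.rho k * ((Subtype.val (cpr c u)))⁻¹ :=
      (Commute.inv_left (F.cpr_rho L u hu hk : Commute (Subtype.val (cpr c u)) (F.rho k))).eq
    rw [hq_def, mul_assoc, hr k hk, ← mul_assoc, e1, mul_assoc]
  obtain ⟨k, hk, ek⟩ := (inW_iff _).1 hW
  have hg : g = (Subtype.val (cpr c u)) * q := by rw [hq_def, mul_inv_cancel_left]
  rcases (F.lf.π_eq_iff (F.rho_mem k) hq').1 ((F.π_rho k).trans ek.symm) with e | e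
  · refine ⟨mkc u false k, (ce_mkc ⟨u, hu⟩ false ⟨k, hk⟩).2.2.2, ?_⟩
    rw [F.el_mkc L hu false hk, hg, e]
    simp [bv, zp_zero]
  · refine ⟨mkc u true k, (ce_mkc ⟨u, hu⟩ true ⟨k, hk⟩).2.2.2, ?_⟩
    rw [F.el_mkc L hu true hk, hg, e]
    simp [bv, zp_one, mul_assoc, F.rho_cent k]

theorem centralizer_asub : Subgroup.centralizer (F.asub L : Set G) ≤ F.asub L := by
  intro g hg
  exact F.mem_of_commute L (hg z (F.z_mem_asub L)).symm fun k hk => (hg _ (F.rho_mem_asub L hk)).symm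

/-- An element of the centraliser of `z` stabilising the hexacode normalises the subgroup. -/
theorem mem_normalizer {d : ↥(Subgroup.centralizer ({z} : Set G))}
    (hd : ∀ k, k < 64 → InW (ψ d (dec (wv k)))) : (d : G) ∈ Subgroup.normalizer (F.asub L : Set G) := by
  have hle : (F.asub L).map (MulAut.conj (d : G)⁻¹).toMonoidHom ≤ F.asub L := by
    rintro _ ⟨a, ha, rfl⟩
    show (d : G)⁻¹ * a * (d : G)⁻¹⁻¹ ∈ _
    rw [inv_inv]
    refine F.mem_of_commute L ?_ fun k hk => ?_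
    · have h1 : Commute a z := F.asub_comm L ha (F.z_mem_asub L)
      exact ((Commute.inv_left (F.z_comm' d : Commute (d : G) z)).mul_left h1).mul_left (F.z_comm' d) |>.eq
    · obtain ⟨k', hk', e⟩ := (inW_iff _).1 (hd k hk)
      have hm := F.lf.π_conj d (F.rho_mem k)
      have hr : (d : G) * F.rho k * (d : G)⁻¹ ∈ F.asub L := by
        rcases (F.lf.π_eq_iff (F.rho_mem k') hm.1).1 ((F.π_rho k').trans (e.symm.trans
          ((congrArg (ψ d) (F.π_rho k)).symm.trans hm.2.symm))) with e' | e' <;> rw [e']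
        · exact F.rho_mem_asub L hk'
        · exact mul_mem (F.rho_mem_asub L hk') (F.z_mem_asub L)
      have h1 := F.asub_comm L ha hr
      calc (d : G)⁻¹ * a * d * F.rho k = (d : G)⁻¹ * (a * ((d : G) * F.rho k * (d : G)⁻¹)) * d := by group
        _ = F.rho k * ((d : G)⁻¹ * a * d) := by rw [h1]; group
  have heq : (F.asub L).map (MulAut.conj (d : G)⁻¹).toMonoidHom = F.asub L :=
    Subgroup.eq_of_le_of_card_ge hle (by
      rw [Subgroup.card_map_of_injective (f := (MulAut.conj (d : G)⁻¹).toMonoidHom) (MulAut.conj (d : G)⁻¹).injective])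
  rw [← inv_inv (d : G)]
  refine inv_mem (Subgroup.mem_normalizer_iff.2 fun a => ⟨fun ha => hle ⟨a, ha, rfl⟩, fun ha => ?_⟩)
  obtain ⟨b, hb, eb⟩ := heq.symm ▸ ha
  rwa [← (MulAut.conj (d : G)⁻¹).injective eb]

/-- Conjugation by the canonical lift of a vector. -/
theorem el_transl {v kd : ℕ} {n : ℕ} (hn : n < 2048) (ht : tOK (cu n) v kd = true) :
    F.lf.can F.hx (dec v) * F.el L n * (F.lf.can F.hx (dec v))⁻¹ = F.el L (sT v kd n) := by
  simp only [tOK, Bool.and_eq_true, decide_eq_true_eq, beq_iff_eq, Bool.not_eq_true'] at ht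
  obtain ⟨⟨⟨hkd, hv⟩, hw⟩, hperp⟩ := ht
  have hu := cu_lt n
  set a := F.lf.can F.hx (dec v) with ha
  have haQ : a ∈ qImg Q := F.lf.can_mem F.hx _
  have hbl : lm (bL (cu n)) v < 4096 := lm_lt (k := 12) _ _ (bL_lt hu)
  set d := cpr c (cu n) with hd
  have h1 : (d : G) * a * (d : G)⁻¹ = F.lf.can F.hx (dec (lm (bL (cu n)) v)) := by
    rw [ha, hd, F.lf.can_conj F.hx (L.cpr_comm _), L.cpr_img, Bel_dec hu hv]
  have hsum : dec (lm (bL (cu n)) v) + dec v = dec (wv kd) := by rw [← dec_xor, hw]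
  have h2 : F.lf.can F.hx (dec (lm (bL (cu n)) v)) * a =
      F.rho kd * zp z (bv (bsc v (omc (lm (bL (cu n)) v)))) := by
    rw [ha, F.lf.can_mul F.hx (by rw [bs_eq_bv _ _ hbl hv, hperp]; rfl), hsum, omV_dec hbl,
      bs_eq_bv _ _ hv (omc_lt hbl)]
    rfl
  have hainv : a⁻¹ = a * zp z (bv (Qb v)) := inv_eq_of_mul_eq_one_right (by
    rw [← mul_assoc, F.lf.sq_eq haQ, ha, F.lf.π_can F.hx, qs_eq_bv _ hv, ← F.lf.zp_add,
      CharTwo.add_self_eq_zero, zp_zero])
  have hdd : (d : G) * d = 1 := F.lift_sq (L.cpr_comm _) hu (L.cpr_img _)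
  have hdi : (d : G)⁻¹ = d := inv_eq_of_mul_eq_one_left hdd
  have hcu : a * (d : G) * a⁻¹ = (d : G) * F.rho kd * zp z (bv (tE (cu n) v)) := by
    calc a * (d : G) * a⁻¹ = (d : G) * ((d : G)⁻¹ * a * d) * a⁻¹ := by group
      _ = (d : G) * ((d : G) * a * (d : G)⁻¹) * a⁻¹ := by rw [hdi]
      _ = (d : G) * (F.lf.can F.hx (dec (lm (bL (cu n)) v)) * a) * zp z (bv (Qb v)) := by rw [h1, hainv]; group
      _ = (d : G) * F.rho kd * (zp z (bv (bsc v (omc (lm (bL (cu n)) v)))) * zp z (bv (Qb v))) := by rw [h2]; group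
      _ = _ := by rw [← F.lf.zp_add, tE, bv_xor, add_comm]
  have hk := ck_lt hn
  have hrho : a * F.rho (ck n) * a⁻¹ = F.rho (ck n) * zp z (bv (bsc v (wv (ck n)))) := by
    have hsw := F.lf.swap (F.rho_mem (ck n)) haQ
    rw [hsw, F.π_rho, ha, F.lf.π_can F.hx, bs_comm, bs_eq_bv _ _ hv (wv_lt _), ← ha]
    rw [mul_assoc (F.rho (ck n) * a), (F.zp_commute L _ (F.lf.cent_z (inv_mem haQ))).eq]
    group
  have hzp : a * zp z (ce n) * a⁻¹ = zp z (ce n) := by
    rw [← (F.zp_commute L _ (F.lf.cent_z haQ)).eq, mul_inv_cancel_right]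
  rw [sT]
  change _ = F.el L (mkc (cu n) _ (ck n ^^^ kd))
  rw [F.el_mkc L hu _ (Nat.xor_lt_two_pow (n := 6) hk hkd), F.rho_xor hk hkd]
  have hce : ce n = bv (n.testBit 4) := rfl
  calc a * F.el L n * a⁻¹ = a * (d : G) * a⁻¹ * (a * zp z (ce n) * a⁻¹) * (a * F.rho (ck n) * a⁻¹) := by
        unfold el; rw [← hd]; group
    _ = (d : G) * F.rho kd * zp z (bv (tE (cu n) v)) * zp z (ce n) * (F.rho (ck n) * zp z (bv (bsc v (wv (ck n))))) := by
      rw [hcu, hzp, hrho]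
    _ = (d : G) * (F.rho kd * (zp z (bv (tE (cu n) v)) * zp z (ce n))) * zp z (bv (bsc v (wv (ck n)))) * F.rho (ck n) := by
      rw [← (F.zp_commute L (bv (bsc v (wv (ck n)))) (F.rho_cent (ck n))).eq]; group
    _ = (d : G) * (zp z (bv (tE (cu n) v)) * zp z (ce n) * zp z (bv (bsc v (wv (ck n))))) * (F.rho kd * F.rho (ck n)) := by
      rw [← F.lf.zp_add, ← (F.zp_commute L _ (F.rho_cent kd)).eq, mul_assoc (d : G),
        mul_assoc (zp z _) (F.rho kd), ← (F.zp_commute L (bv (bsc v (wv (ck n)))) (F.rho_cent kd)).eq]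
      group
    _ = _ := by
      rw [← F.lf.zp_add, ← F.lf.zp_add, F.rho_comm hkd hk, hd, bv_xor, bv_xor, hce]
      simp only [cu, ck, mul_assoc]
      congr 3
      abel

/-- Conjugation by `x`. -/
theorem el_scal {n : ℕ} (hn : n < 2048) : (x : G) * F.el L n * (x : G)⁻¹ = F.el L (sX n) := by
  obtain ⟨hk, e⟩ := omV_wv (ck_lt hn)
  have h1 : (x : G) * F.rho (ck n) * (x : G)⁻¹ = F.rho (ok (ck n)) :=
    F.rho_conj (Commute.refl x) (by rw [F.hx, e])
  have h2 : (x : G) * Subtype.val (cpr c (cu n)) * (x : G)⁻¹ = Subtype.val (cpr c (cu n)) :=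
    mul_inv_eq_iff_eq_mul.2 (congrArg Subtype.val (L.cpr_comm (cu n)).symm.eq)
  have h3 : (x : G) * zp z (ce n) * (x : G)⁻¹ = zp z (ce n) := by
    rw [← (F.zp_commute L _ (F.z_comm' x)).eq, mul_inv_cancel_right]
  rw [sX]
  change _ = F.el L (mkc (cu n) _ (ok (ck n)))
  rw [F.el_mkc L (cu_lt n) _ hk]
  calc (x : G) * F.el L n * (x : G)⁻¹ = (x : G) * Subtype.val (cpr c (cu n)) * (x : G)⁻¹ * ((x : G) * zp z (ce n) * (x : G)⁻¹) *
        ((x : G) * F.rho (ck n) * (x : G)⁻¹) := by unfold el; group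
    _ = _ := by rw [h1, h2, h3]; rfl

/-- Conjugation by a lift of a monomial map. -/
theorem el_gen (j : Fin 2) {y : ↥(Subgroup.centralizer ({z} : Set G))} (hy : Commute y x) (ey : GenLike j (ψ y)) :
    ∃ l : ℕ → Bool, l 0 = false ∧ ∀ n, n < 2048 → (y : G) * F.el L n * (y : G)⁻¹ = F.el L (sG j (l (cu n)) n) := by
  classical
  have hex : ∀ u, u < 16 → ∃ b : Bool, (y : G) * Subtype.val (cpr c u) * (y : G)⁻¹ = (Subtype.val (cpr c (gu j u))) * zp z (bv b) := by
    intro u hu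
    have hc : Commute (y * cpr c u * y⁻¹) x := (hy.mul_left (L.cpr_comm u)).mul_left hy.inv_left
    have he : ψ (y * cpr c u * y⁻¹) = ψ (cpr c (gu j u)) := by
      rw [map_mul, map_mul, map_inv, L.cpr_img, L.cpr_img, ey.conj _ hu, mul_inv_cancel_right]
    rcases F.lift_unique hc (L.cpr_comm _) he with e | e
    · exact ⟨false, by simpa [bv, zp_zero] using e⟩
    · exact ⟨true, by simpa [bv, zp_one] using e⟩
  let l : ℕ → Bool := fun u => if h : u ≠ 0 ∧ u < 16 then (hex u h.2).choose else false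
  refine ⟨l, dif_neg (by simp), fun n hn => ?_⟩
  obtain ⟨hk, -⟩ := gen_wv j (ck_lt hn)
  have h1 : (y : G) * F.rho (ck n) * (y : G)⁻¹ = F.rho (gk j (ck n)) := F.rho_conj hy (ey.fix _ (ck_lt hn))
  have h2 : (y : G) * Subtype.val (cpr c (cu n)) * (y : G)⁻¹ = (Subtype.val (cpr c (gu j (cu n)))) * zp z (bv (l (cu n))) := by
    by_cases hu : cu n = 0
    · rw [hu]
      simp only [l, ne_eq, not_true_eq_false, false_and, dite_false]
      have hg : gu j 0 = 0 := (by decide +kernel : ∀ j, gu j 0 = 0) j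
      simp [hg, cpr, bv, zp_zero]
    · simp only [l, dif_pos (And.intro hu (cu_lt n))]
      exact (hex (cu n) (cu_lt n)).choose_spec
  have h3 : (y : G) * zp z (ce n) * (y : G)⁻¹ = zp z (ce n) := by
    rw [← (F.zp_commute L _ (F.z_comm' y)).eq, mul_inv_cancel_right]
  rw [sG]
  change _ = F.el L (mkc (gu j (cu n)) _ (gk j (ck n)))
  rw [F.el_mkc L (gu_lt j (cu_lt n)) _ hk, bv_xor, F.lf.zp_add]
  calc (y : G) * F.el L n * (y : G)⁻¹ = (y : G) * Subtype.val (cpr c (cu n)) * (y : G)⁻¹ * ((y : G) * zp z (ce n) * (y : G)⁻¹) *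
        ((y : G) * F.rho (ck n) * (y : G)⁻¹) := by unfold el; group
    _ = (Subtype.val (cpr c (gu j (cu n)))) * (zp z (bv (l (cu n))) * zp z (ce n)) * F.rho (gk j (ck n)) := by
      rw [h1, h2, h3]; group
    _ = _ := by rw [← F.lf.zp_add, add_comm, F.lf.zp_add]; rfl

end Frame

end CfsgLib.Sporadic.LargeFischer.Hexa
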