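import Mathlib

/-!
# Functions invariant under generators
-/

set_option autoImplicit false

namespace CfsgLib.Sporadic.LargeFischer.Hexa

/-- Apply a word. -/
def walk {α : Type*} (f : ℕ → α → α) (w : List ℕ) (a : α) : α := w.foldl (fun b i => f i b) a

theorem walk_inv {α β : Type*} (f : ℕ → α → α) (S : α → Prop) (P : α → β)
    (hS : ∀ i a, S a → S (f i a)) (hP : ∀ i a, S a → P (f i a) = P a) :
    ∀ (w : List ℕ) (a : α), S a → S (walk f w a) ∧ P (walk f w a) = P a
  | [], _, h => ⟨h, rfl⟩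
  | i :: w, a, h => by
    obtain ⟨h1, h2⟩ := walk_inv f S P hS hP w (f i a) (hS i a h)
    exact ⟨h1, h2.trans (hP i a h)⟩

end CfsgLib.Sporadic.LargeFischer.Hexa
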