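import Cfsg.Agent.Lib.Sporadic.LargeFischer.Hexa.Elements
import Cfsg.Agent.Lib.Sporadic.LargeFischer.Hexa.Walk

/-!
# The monomial maps are transitive on the fifteen products
-/

set_option autoImplicit false
set_option maxRecDepth 40000

namespace CfsgLib.Sporadic.LargeFischer.Hexa

/-- A word carrying the first product to the given one. -/
def guWord (u : ℕ) : List ℕ := ([[], [], [0, 0, 0], [1, 1], [1, 1, 1], [0, 0, 0, 1, 0], [0, 0, 1, 1, 0], [0, 0, 1, 1], [0, 0, 1], [0], [0, 0], [1], [0, 1], [0, 1, 0], [1, 1, 1, 0], [0, 0, 0, 1]] : List (List ℕ)).getD u []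

theorem guWord_ok : ∀ b : Fin 16, b.1 ≠ 0 → (guWord b.1).length ≤ 16 ∧
    walk (fun i a => gu (Fin.ofNat 2 i) a) (guWord b.1) 1 = b.1 := by decide +kernel

theorem gu_ne : ∀ (j : Fin 2) (a : Fin 16), a.1 ≠ 0 → gu j a.1 ≠ 0 := by decide +kernel

end CfsgLib.Sporadic.LargeFischer.Hexa
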