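import Cfsg.Agent.Lib.Sporadic.LargeFischer.Hexa.InModel
import Cfsg.Agent.Lib.Sporadic.LargeFischer.Hexa.Words
import Cfsg.Agent.Lib.Sporadic.LargeFischer.Centralizer
import Cfsg.Agent.Lib.Sporadic.LargeFischer.Explicit.Semilinear
import Cfsg.Agent.Lib.Sporadic.LargeFischer.Hexa.StabCount
import Cfsg.Agent.Lib.Sporadic.LargeFischer.Hexa.Model

/-!
# The elementary abelian subgroup of order `2¹¹` over the hexacode
-/

set_option autoImplicit false
set_option linter.style.haveILetI false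
set_option linter.unusedSectionVars false
set_option maxRecDepth 40000

namespace CfsgLib.Sporadic.LargeFischer.Hexa

open CfsgLib.Sporadic.LargeFischer CfsgLib.ThreeTransp.Extraspecial

/-- The properties of a monomial map that matter: linear, with the tabulated action on the products and on the
hexacode. -/
structure GenLike (j : Fin 2) (g : V6 ≃ₗ[ZMod 2] V6) : Prop where
  lin : ∀ v, g (omV v) = omV (g v)
  conj : ∀ u, u < 16 → g * Bel u = Bel (gu j u) * g
  fix : ∀ k, k < 64 → g (dec (wv k)) = dec (wv (gk j k))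

theorem genLike_gen {K : Subgroup (V6 ≃ₗ[ZMod 2] V6)} (h : Explicit.Std K) (j : Fin 2) : GenLike j (gen j) :=
  ⟨gen_lin h j, fun _ hu => gen_conj j hu, fun _ hk => (gen_wv j hk).2⟩

/-- The setting: standard coordinates and an element of order three acting as the scalar. -/
structure Frame {G : Type*} [Group G] [Finite G] (z : G) (Q : Subgroup (Subgroup.centralizer ({z} : Set G)))
    (π : G → V6) (ψ : ↥(Subgroup.centralizer ({z} : Set G)) →* (V6 ≃ₗ[ZMod 2] V6))
    (x : ↥(Subgroup.centralizer ({z} : Set G))) : Prop where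
  lf : LFBase z (qImg Q) π ψ
  bel : ∀ u, Bel u ∈ ψ.range ∧ ∀ v, Bel u (omV v) = omV (Bel u v)
  gens : ∀ j : Fin 2, ∃ g ∈ ψ.range, GenLike j g
  stab : ∀ g ∈ ψ.range, (∀ k, k < 64 → g (dec (wv k)) = dec (wv k)) → ∃ u < 16, g = Bel u
  stab_card : ∀ Y : Subgroup (V6 ≃ₗ[ZMod 2] V6),
    (∀ g, g ∈ Y ↔ g ∈ ψ.range ∧ ∀ k, k < 64 → InW (g (dec (wv k)))) → 34560 ≤ Nat.card Y
  four : ∀ g : G, g * z * g⁻¹ ∈ qImg Q → g * z * g⁻¹ ≠ z →
    ∃ d, ψ d (π (g * z * g⁻¹)) = dec (wv wtFour)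
  six : ∀ g : G, g * z * g⁻¹ ∈ qImg Q → g * z * g⁻¹ ≠ z → π (g * z * g⁻¹) ≠ dec (wv wtSix)
  hx : ∀ v, ψ x v = omV v
  h3 : x ^ 3 = 1
  fused : ∃ g : G, g * z * g⁻¹ ∈ qImg Q ∧ g * z * g⁻¹ ≠ z

/-- The hypotheses of the statements give the setting. -/
theorem exists_frame {G : Type*} [Group G] [Finite G] (z : G) (Q : Subgroup (Subgroup.centralizer ({z} : Set G)))
    [Q.Normal] (hF : Cfsg.IsOfLargeFischerTypeAt z Q) : ∃ π ψ x, Frame z Q π ψ x := by
  obtain ⟨π, ψ, h, hpos, hs⟩ := exists_lf_semilinear z Q hF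
  obtain ⟨g, ⟨hq, hgQ⟩, hne⟩ := hF.1.2.2.2.2
  have hu := mem_qImg.2 ⟨hq, hgQ⟩
  obtain ⟨N, M, -, -, -, -, -, -, ⟨c, -, hc⟩, -⟩ := h.series
  have hstd : Explicit.Std ψ.range := ⟨h.model, hpos⟩
  have hx4 : ∀ v, ψ (c ^ 4) v = omV v := fun v => by
    rw [map_pow, show (4 : ℕ) = 1 + 1 + 1 + 1 from rfl, pow_add, pow_add, pow_add, pow_one]
    simp only [LinearEquiv.mul_apply, hc, omV_cube]
  obtain ⟨-, -, h4, h6, h6c⟩ := base_weights
  refine ⟨π, ψ, c ^ 4, h.toLFBase, fun u => ⟨Bel_mem hstd u, Bel_lin hstd u⟩,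
    fun j => ⟨_, gen_mem hstd j, genLike_gen hstd j⟩, fun k hk hfix => stab_W hstd hs hk hfix,
    fun Y hY => card_stab_W hstd ⟨c ^ 4, LinearEquiv.ext hx4⟩ hs Y hY, fun g hu hne => ?_, fun g hu hne e => ?_,
    hx4, ?_, g, hu, hne⟩
  · obtain ⟨k, ⟨d, rfl⟩, hk⟩ := h.model.mem_orb.1 ((h.fused_orbit hu hne).symm ▸
      (h.model.canon_four h4 ▸ h.model.self_mem _ : dec (wv wtFour) ∈ h.model.orb c4))
    exact ⟨d, hk⟩
  · have horb := h.fused_orbit hu hne
    rw [e] at horb
    exact h.model.two_orbits.1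
      ((h.model.orb_eq ((hstd.orb_iff _).2 ((Explicit.inOb_spec _).2 (Or.inr ⟨h6, h6c⟩)))).symm.trans horb)
  · have h3 : ((c ^ 3 : ↥(Subgroup.centralizer ({z} : Set G))) : G) ∈ qImg Q := (h.ker _).1 (by
      refine LinearEquiv.ext fun v => ?_
      rw [map_pow, pow_succ, pow_two]
      simp only [LinearEquiv.mul_apply, hc, omV_cube]
      rfl)
    refine Subtype.ext ?_
    rw [← pow_mul, show 4 * 3 = 3 * (2 * 2) from rfl, pow_mul, pow_mul]
    push_cast
    set a : G := (c : G) ^ 3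
    have h3' : a ∈ qImg Q := by simpa [a] using h3
    rw [pow_two, pow_two a]
    rcases h.extra.sq_cases h3' with e | e <;> rw [e]
    · exact one_mul 1
    · exact h.extra.z_sq

/-- The product of the chosen lifts selected by the bits. -/
def cpr {M : Type*} [MulOneClass M] (c : Fin 4 → M) (u : ℕ) : M :=
  (if u.testBit 0 then c 0 else 1) * (if u.testBit 1 then c 1 else 1) *
    (if u.testBit 2 then c 2 else 1) * (if u.testBit 3 then c 3 else 1)

theorem Bel_eq_cpr (u : ℕ) : Bel u = cpr (fun i : Fin 4 => Bel (2 ^ i.1)) u := by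
  have e : ∀ i : Fin 4, Bel (2 ^ i.1) = T 0 * T ⟨i.1 + 1, by omega⟩ := by
    intro i
    fin_cases i <;> simp [Bel, Nat.testBit]
  simp only [cpr, e]
  rfl

/-- The coset part of a code. -/
def cu (n : ℕ) : ℕ := n % 16

/-- The central part of a code. -/
def ce (n : ℕ) : ZMod 2 := bz n 4

/-- The part of a code in the hexacode. -/
def ck (n : ℕ) : ℕ := n / 32

theorem cu_lt (n : ℕ) : cu n < 16 := Nat.mod_lt _ (by norm_num)

theorem ck_lt {n : ℕ} (h : n < 2048) : ck n < 64 := by unfold ck; omega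

theorem code_xor (a b : ℕ) : cu (a ^^^ b) = cu a ^^^ cu b ∧ ce (a ^^^ b) = ce a + ce b ∧
    ck (a ^^^ b) = ck a ^^^ ck b := by
  refine ⟨?_, bz_xor a b 4, ?_⟩
  · exact Nat.xor_mod_two_pow (a := a) (b := b) (n := 4)
  · exact Nat.xor_div_two_pow (a := a) (b := b) (n := 5)

theorem code_eq : ∀ a b : Fin 2048, cu a.1 = cu b.1 → ce a.1 = ce b.1 → ck a.1 = ck b.1 → a = b := by
  intro a b h1 h2 h3
  refine Fin.ext ?_
  have hb : ∀ n, n / 16 % 2 = (if n.testBit 4 then 1 else 0) := fun n => by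
    rw [Nat.testBit_eq_decide_div_mod_eq]
    rcases Nat.mod_two_eq_zero_or_one (n / 16) with e | e <;> simp [e]
  have h2' : a.1.testBit 4 = b.1.testBit 4 := by
    unfold ce bz at h2
    cases e1 : a.1.testBit 4 <;> cases e2 : b.1.testBit 4 <;> simp_all
  have := hb a.1
  rw [h2', ← hb b.1] at this
  simp only [cu, ck] at h1 h3
  omega

namespace Frame

variable {G : Type*} [Group G] [Finite G] {z : G} {Q : Subgroup (Subgroup.centralizer ({z} : Set G))} [Q.Normal]
  {π : G → V6} {ψ : ↥(Subgroup.centralizer ({z} : Set G)) →* (V6 ≃ₗ[ZMod 2] V6)}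
  {x : ↥(Subgroup.centralizer ({z} : Set G))} (F : Frame z Q π ψ x)
include F

/-- The canonical lift of a hexacode word. -/
noncomputable def rho (k : ℕ) : G := F.lf.can F.hx (dec (wv k))

theorem rho_mem (k : ℕ) : F.rho k ∈ qImg Q := F.lf.can_mem F.hx _

theorem π_rho (k : ℕ) : π (F.rho k) = dec (wv k) := F.lf.π_can F.hx _

theorem rho_cent (k : ℕ) : F.rho k * z = z * F.rho k := F.lf.cent_z (F.rho_mem k)

theorem rho_zero : F.rho 0 = 1 := by rw [rho, wv_zero, dec_zero, F.lf.can_zero F.hx]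

theorem rho_xor {a b : ℕ} (ha : a < 64) (hb : b < 64) : F.rho (a ^^^ b) = F.rho a * F.rho b := by
  rw [rho, rho, rho, dec_wv_xor, F.lf.can_mul F.hx (bs_wv ha hb).1, (bs_wv ha hb).2.2, zp_zero, mul_one]

theorem rho_comm {a b : ℕ} (ha : a < 64) (hb : b < 64) : F.rho a * F.rho b = F.rho b * F.rho a :=
  F.lf.commute_of_bs (F.rho_mem a) (F.rho_mem b) (by rw [F.π_rho, F.π_rho]; exact (bs_wv ha hb).1)

theorem exists_lift (K : V6 ≃ₗ[ZMod 2] V6) (hK : K ∈ ψ.range) (hl : ∀ v, K (omV v) = omV (K v)) :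
    ∃ d : ↥(Subgroup.centralizer ({z} : Set G)), Commute d x ∧ ψ d = K := by
  obtain ⟨c, rfl⟩ := hK
  exact F.lf.exists_commuting F.hx F.h3 c hl

/-- Conjugation of a canonical lift by a lift of a stabiliser of the hexacode. -/
theorem rho_conj {d : ↥(Subgroup.centralizer ({z} : Set G))} (hd : Commute d x) {k k' : ℕ}
    (e : ψ d (dec (wv k)) = dec (wv k')) : (d : G) * F.rho k * (d : G)⁻¹ = F.rho k' := by
  rw [rho, F.lf.can_conj F.hx hd, e]; rfl

theorem lift_rho {d : ↥(Subgroup.centralizer ({z} : Set G))} (hd : Commute d x) {u k : ℕ} (hu : u < 16)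
    (hk : k < 64) (e : ψ d = Bel u) : (d : G) * F.rho k = F.rho k * (d : G) :=
  mul_inv_eq_iff_eq_mul.1 (F.rho_conj hd (by rw [e, Bel_fix hu hk]))

/-- A lift fixed by `x` over the identity is central. -/
theorem lift_one {d : ↥(Subgroup.centralizer ({z} : Set G))} (hd : Commute d x) (e : ψ d = 1) :
    (d : G) = 1 ∨ (d : G) = z :=
  F.lf.Q_fixed F.hx ((F.lf.ker d).1 e) (congrArg Subtype.val hd.symm.eq)

theorem z_comm' (d : ↥(Subgroup.centralizer ({z} : Set G))) : (d : G) * z = z * (d : G) :=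
  Subgroup.mem_centralizer_singleton_iff.1 d.2

/-- Two lifts of one element differ by a central factor. -/
theorem lift_unique {d d' : ↥(Subgroup.centralizer ({z} : Set G))} (hd : Commute d x) (hd' : Commute d' x)
    (e : ψ d = ψ d') : (d : G) = d' ∨ (d : G) = d' * z := by
  have h1 : Commute (d'⁻¹ * d) x := (hd'.inv_left).mul_left hd
  rcases F.lift_one h1 (by rw [map_mul, map_inv, e, inv_mul_cancel]) with e1 | e1
  · exact Or.inl (inv_mul_eq_one.1 e1).symm
  · exact Or.inr (inv_mul_eq_iff_eq_mul.1 e1)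

theorem lift_sq_or {d : ↥(Subgroup.centralizer ({z} : Set G))} (hd : Commute d x) {u : ℕ} (hu : u < 16)
    (e : ψ d = Bel u) : (d : G) * d = 1 ∨ (d : G) * d = z := by
  have := F.lift_one (hd.mul_left hd) (by rw [map_mul, e, Bel_mul hu hu, Nat.xor_self, Bel_zero])
  simpa using this

theorem exists_Bel_lift (u : ℕ) :
    ∃ d : ↥(Subgroup.centralizer ({z} : Set G)), Commute d x ∧ ψ d = Bel u :=
  F.exists_lift _ (F.bel u).1 (F.bel u).2

theorem exists_gen_lift (j : Fin 2) :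
    ∃ d : ↥(Subgroup.centralizer ({z} : Set G)), Commute d x ∧ GenLike j (ψ d) := by
  obtain ⟨g, hg, hl⟩ := F.gens j
  obtain ⟨d, hd, e⟩ := F.exists_lift g hg hl.lin
  exact ⟨d, hd, e.symm ▸ hl⟩

/-- Squares of lifts are trivial: they are constant on the fifteen non-trivial elements. -/
theorem lift_sq {d : ↥(Subgroup.centralizer ({z} : Set G))} (hd : Commute d x) {u : ℕ} (hu : u < 16)
    (e : ψ d = Bel u) : (d : G) * d = 1 := by
  classical
  let sq : ℕ → Prop := fun u => ∀ d : ↥(Subgroup.centralizer ({z} : Set G)), Commute d x → ψ d = Bel u → (d : G) * d = 1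
  have hstep : ∀ i a, a < 16 ∧ a ≠ 0 → decide (sq (gu (Fin.ofNat 2 i) a)) = decide (sq a) := by
    intro i a ha
    set j := Fin.ofNat 2 i
    obtain ⟨y, hy, ey⟩ := F.exists_gen_lift j
    have hconj : ∀ d : ↥(Subgroup.centralizer ({z} : Set G)), ψ d = Bel a → ψ (y * d * y⁻¹) = Bel (gu j a) := fun d ed => by
      rw [map_mul, map_mul, map_inv, ed, ey.conj _ ha.1, mul_inv_cancel_right]
    refine decide_eq_decide.2 ⟨fun h d hd ed => ?_, fun h d' hd' ed' => ?_⟩
    · have h1 := h (y * d * y⁻¹) ((hy.mul_left hd).mul_left hy.inv_left) (hconj d ed)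
      push_cast at h1
      calc (d : G) * d = (y : G)⁻¹ * ((y : G) * d * (y : G)⁻¹ * ((y : G) * d * (y : G)⁻¹)) * y := by group
        _ = 1 := by rw [h1]; group
    · obtain ⟨d, hd, ed⟩ := F.exists_Bel_lift a
      have h1 := h d hd ed
      have hc1 : Commute (y * d * y⁻¹) x := (hy.mul_left hd).mul_left hy.inv_left
      have h2 : ((y * d * y⁻¹ : ↥(Subgroup.centralizer ({z} : Set G))) : G) * (y * d * y⁻¹ : ↥(Subgroup.centralizer ({z} : Set G))) = 1 := by
        push_cast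
        calc (y : G) * d * (y : G)⁻¹ * ((y : G) * d * (y : G)⁻¹) = (y : G) * ((d : G) * d) * (y : G)⁻¹ := by group
          _ = 1 := by rw [h1]; group
      rcases F.lift_unique hd' hc1 (ed'.trans (hconj d ed).symm) with e1 | e1 <;> rw [e1]
      · exact h2
      · rw [show ∀ a : G, a * z * (a * z) = a * (z * a) * z from fun a => by group, ← F.z_comm' (y * d * y⁻¹),
          ← mul_assoc, h2, one_mul, F.lf.extra.z_sq]
  have hwords : ∀ b : Fin 16, b.1 ≠ 0 → ∃ w : List ℕ, w.length ≤ 16 ∧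
      walk (fun i a => gu (Fin.ofNat 2 i) a) w 1 = b.1 := by
    intro b hb
    exact ⟨guWord b.1, guWord_ok b hb⟩
  have hclosed : ∀ i a, a < 16 ∧ a ≠ 0 → gu (Fin.ofNat 2 i) a < 16 ∧ gu (Fin.ofNat 2 i) a ≠ 0 := fun i a ha =>
    ⟨gu_lt _ ha.1, (gu_ne (Fin.ofNat 2 i) ⟨a, ha.1⟩ ha.2)⟩
  have hconst : ∀ b, b < 16 → b ≠ 0 → decide (sq b) = decide (sq 1) := fun b hb hb0 => by
    obtain ⟨w, -, hw⟩ := hwords ⟨b, hb⟩ hb0
    have := (walk_inv (fun i a => gu (Fin.ofNat 2 i) a) (fun a => a < 16 ∧ a ≠ 0) (fun a => decide (sq a))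
      hclosed hstep w 1 ⟨by norm_num, one_ne_zero⟩).2
    rw [hw] at this
    exact this
  have hone : sq 1 := by
    by_contra hc
    have hall : ∀ b, b < 16 → b ≠ 0 → ∀ d : ↥(Subgroup.centralizer ({z} : Set G)), Commute d x → ψ d = Bel b →
        (d : G) * d = z := by
      intro b hb hb0 d hd ed
      refine (F.lift_sq_or hd hb ed).resolve_left fun e1 => hc ?_
      refine (decide_eq_decide.1 (hconst b hb hb0)).1 fun d' hd' ed' => ?_
      rcases F.lift_unique hd' hd (ed'.trans ed.symm) with e2 | e2 <;> rw [e2]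
      · exact e1
      · rw [show ∀ a : G, a * z * (a * z) = a * (z * a) * z from fun a => by group, ← F.z_comm' d,
          ← mul_assoc, e1, one_mul, F.lf.extra.z_sq]
    obtain ⟨a, ha, ea⟩ := F.exists_Bel_lift 1
    obtain ⟨b, hb, eb⟩ := F.exists_Bel_lift 2
    obtain ⟨c, hc', ec⟩ := F.exists_Bel_lift 4
    have anti : ∀ (p q : ↥(Subgroup.centralizer ({z} : Set G))) (i j : ℕ), i < 16 → j < 16 → i ≠ 0 → j ≠ 0 → i ^^^ j ≠ 0 →
        Commute p x → Commute q x → ψ p = Bel i → ψ q = Bel j → (q : G) * p = p * q * z := by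
      intro p q i j hi hj hi0 hj0 hij hp hq ep eq
      have h1 := hall i hi hi0 p hp ep
      have h2 := hall j hj hj0 q hq eq
      have h3 := hall (i ^^^ j) (Nat.xor_lt_two_pow (n := 4) hi hj) hij (p * q) (hp.mul_left hq)
        (by rw [map_mul, ep, eq, Bel_mul hi hj])
      push_cast at h3
      have i1 : (p : G)⁻¹ = p * z := inv_eq_of_mul_eq_one_right (by rw [← mul_assoc, h1, F.lf.extra.z_sq])
      have i2 : (q : G)⁻¹ = q * z := inv_eq_of_mul_eq_one_right (by rw [← mul_assoc, h2, F.lf.extra.z_sq])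
      calc (q : G) * p = (p : G)⁻¹ * ((p : G) * q * ((p : G) * q)) * (q : G)⁻¹ := by group
        _ = p * z * z * (q * z) := by rw [h3, i1, i2]
        _ = p * q * z := by rw [mul_assoc (p : G) z z, F.lf.extra.z_sq, mul_one, ← mul_assoc]
    have h1 := anti a c 1 4 (by norm_num) (by norm_num) (by norm_num) (by norm_num) (by decide) ha hc' ea ec
    have h2 := anti b c 2 4 (by norm_num) (by norm_num) (by norm_num) (by norm_num) (by decide) hb hc' eb ec
    have h3 := anti (a * b) c 3 4 (by norm_num) (by norm_num) (by norm_num) (by norm_num) (by decide)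
      (ha.mul_left hb) hc' (by rw [map_mul, ea, eb, Bel_mul (by norm_num) (by norm_num)]; rfl) ec
    push_cast at h3
    refine F.lf.extra.z_ne (mul_left_cancel (a := (a : G) * b * c) ?_)
    calc (a : G) * b * c * z = (c : G) * (a * b) := h3.symm
      _ = (c : G) * a * b := (mul_assoc _ _ _).symm
      _ = (a : G) * c * z * b := by rw [h1]
      _ = (a : G) * (c * b) * z := by rw [mul_assoc ((a : G) * c), ← F.z_comm' b]; group
      _ = (a : G) * b * c * (z * z) := by rw [h2]; group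
      _ = (a : G) * b * c * 1 := by rw [F.lf.extra.z_sq]
  by_cases hu0 : u = 0
  · subst hu0
    rcases F.lift_one hd (e.trans Bel_zero) with e1 | e1 <;> rw [e1]
    · exact one_mul 1
    · exact F.lf.extra.z_sq
  · exact (decide_eq_decide.1 (hconst u hu hu0)).2 hone d hd e

theorem lift_comm {d d' : ↥(Subgroup.centralizer ({z} : Set G))} (hd : Commute d x) (hd' : Commute d' x) {u u' : ℕ}
    (hu : u < 16) (hu' : u' < 16) (e : ψ d = Bel u) (e' : ψ d' = Bel u') : (d : G) * d' = d' * (d : G) := by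
  have h1 := F.lift_sq hd hu e
  have h2 := F.lift_sq hd' hu' e'
  have h3 := F.lift_sq (hd.mul_left hd') (Nat.xor_lt_two_pow (n := 4) hu hu')
    (by rw [map_mul, e, e', Bel_mul hu hu'])
  push_cast at h3
  have i1 : (d : G)⁻¹ = d := inv_eq_of_mul_eq_one_left h1
  have i2 : (d' : G)⁻¹ = d' := inv_eq_of_mul_eq_one_left h2
  rw [← inv_eq_of_mul_eq_one_left h3, mul_inv_rev, i1, i2]

end Frame

/-- Four lifts. -/
structure Lifts {G : Type*} [Group G] {z : G} (ψ : ↥(Subgroup.centralizer ({z} : Set G)) →* (V6 ≃ₗ[ZMod 2] V6))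
    (x : ↥(Subgroup.centralizer ({z} : Set G))) (c : Fin 4 → ↥(Subgroup.centralizer ({z} : Set G))) : Prop where
  comm : ∀ i, Commute (c i) x
  img : ∀ i, ψ (c i) = Bel (2 ^ i.1)

namespace Lifts

variable {G : Type*} [Group G] {z : G} {ψ : ↥(Subgroup.centralizer ({z} : Set G)) →* (V6 ≃ₗ[ZMod 2] V6)}
  {x : ↥(Subgroup.centralizer ({z} : Set G))} {c : Fin 4 → ↥(Subgroup.centralizer ({z} : Set G))} (L : Lifts ψ x c)
include L

theorem cpr_comm (u : ℕ) : Commute (cpr c u) x := by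
  have key : ∀ (b : Bool) (i : Fin 4), Commute (if b then c i else 1) x := fun b i => by
    cases b
    · exact Commute.one_left x
    · exact L.comm i
  exact (((key _ 0).mul_left (key _ 1)).mul_left (key _ 2)).mul_left (key _ 3)

theorem cpr_img (u : ℕ) : ψ (cpr c u) = Bel u := by
  rw [Bel_eq_cpr]
  simp only [cpr, map_mul, apply_ite ψ, map_one, L.img]

end Lifts

end CfsgLib.Sporadic.LargeFischer.Hexa
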