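import Cfsg.Agent.Lib.Sporadic.LargeFischer.Hexa.Sylow

/-!
# Fusion in the subgroup of order `2¹¹`, and primes dividing its normaliser
-/

set_option autoImplicit false
set_option linter.style.haveILetI false
set_option linter.unusedSectionVars false

namespace CfsgLib.Sporadic.LargeFischer.Hexa

variable {G : Type*} [Group G] [Finite G]

theorem fusion (hU : UniqAb G) {A : Subgroup G} (hA : Cfsg.IsElementaryAbelian 2 A) (hc : Nat.card A = 2 ^ 11)
    {a g : G} (ha : a ∈ A) (hb : g * a * g⁻¹ ∈ A) :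
    ∃ m ∈ Subgroup.normalizer (A : Set G), m * a * m⁻¹ = g * a * g⁻¹ := by
  haveI : Fact (Nat.Prime 2) := ⟨Nat.prime_two⟩
  set b := g * a * g⁻¹ with hb'
  set C := Subgroup.centralizer ({b} : Set G) with hC
  have hcomm : ∀ u ∈ A, ∀ v ∈ A, u * v = v * u := fun u hu v hv =>
    congrArg Subtype.val (hA.1.is_comm.comm (⟨u, hu⟩ : ↥A) ⟨v, hv⟩)
  have hconj : ∀ h : G, Cfsg.IsElementaryAbelian 2 (A.map (MulAut.conj h).toMonoidHom) ∧
      Nat.card ↥(A.map (MulAut.conj h).toMonoidHom) = 2 ^ 11 := fun h => by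
    refine ⟨⟨⟨⟨?_⟩⟩, ?_⟩, by rw [Subgroup.card_map_of_injective (f := (MulAut.conj h).toMonoidHom) (MulAut.conj h).injective, hc]⟩
    · rintro ⟨_, u, hu, rfl⟩ ⟨_, v, hv, rfl⟩
      exact Subtype.ext ((map_mul _ _ _).symm.trans ((congrArg _ (hcomm u hu v hv)).trans (map_mul _ _ _)))
    · rintro _ ⟨u, hu, rfl⟩
      rw [← map_pow, hA.2 u hu, map_one]
  have h1 : A ≤ C := fun u hu => Subgroup.mem_centralizer_singleton_iff.2 (hcomm u hu b hb)
  have h2 : A.map (MulAut.conj g).toMonoidHom ≤ C := by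
    rintro _ ⟨u, hu, rfl⟩
    refine Subgroup.mem_centralizer_singleton_iff.2 ?_
    show g * u * g⁻¹ * b = b * (g * u * g⁻¹)
    calc g * u * g⁻¹ * b = g * (u * a) * g⁻¹ := by rw [hb']; group
      _ = b * (g * u * g⁻¹) := by rw [hcomm u hu a ha, hb']; group
  obtain ⟨S₁, hS₁⟩ := ((IsPGroup.of_card hc : IsPGroup 2 ↥A).comap_of_injective C.subtype C.subtype_injective).exists_le_sylow
  obtain ⟨S₂, hS₂⟩ := ((IsPGroup.of_card (hconj g).2 : IsPGroup 2 ↥(A.map (MulAut.conj g).toMonoidHom)).comap_of_injective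
    C.subtype C.subtype_injective).exists_le_sylow
  obtain ⟨c, hcS⟩ := MulAction.exists_smul_eq (↥C) S₂ S₁
  set P := (S₁ : Subgroup ↥C).map C.subtype with hP
  have hAP : A ≤ P := fun u hu => ⟨⟨u, h1 hu⟩, hS₁ hu, rfl⟩
  have hBP : A.map (MulAut.conj ((c : G) * g)).toMonoidHom ≤ P := by
    rintro _ ⟨u, hu, rfl⟩
    refine ⟨c * ⟨g * u * g⁻¹, h2 ⟨u, hu, rfl⟩⟩ * c⁻¹, ?_, ?_⟩
    · rw [← hcS]
      show _ ∈ (S₂ : Subgroup ↥C).map _
      exact ⟨⟨g * u * g⁻¹, h2 ⟨u, hu, rfl⟩⟩, hS₂ ⟨u, hu, rfl⟩, rfl⟩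
    · show (c : G) * (g * u * g⁻¹) * (c : G)⁻¹ = (c : G) * g * u * ((c : G) * g)⁻¹
      group
  have heq := (hU P (S₁.isPGroup'.map _) A _ hAP hBP hA (hconj _).1 hc).2 (hconj _).2
  refine ⟨c * g, Subgroup.mem_normalizer_iff.2 fun u => ⟨fun hu => ?_, fun hu => ?_⟩, ?_⟩
  · exact heq.le ⟨u, hu, rfl⟩
  · obtain ⟨v, hv, ev⟩ := heq.ge hu
    rwa [← (MulAut.conj ((c : G) * g)).injective ev]
  · have hcb := Subgroup.mem_centralizer_singleton_iff.1 c.2
    calc (c : G) * g * a * ((c : G) * g)⁻¹ = (c : G) * b * (c : G)⁻¹ := by rw [hb']; group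
      _ = b := by rw [hcb]; group

/-- An element of odd prime order normalising but not centralising `A`. -/
theorem fixed_card {A : Subgroup G} (hA : Cfsg.IsElementaryAbelian 2 A) (hc : Nat.card A = 2 ^ 11)
    (hcen : Subgroup.centralizer (A : Set G) ≤ A) {p : ℕ} (hp : p.Prime) (hp2 : p ≠ 2) {g : G}
    (hg : g ∈ Subgroup.normalizer (A : Set G)) (hord : orderOf g = p) :
    ∃ k < 11, 2 ^ k % p = 2048 % p ∧ Nat.card ↥(A ⊓ Subgroup.centralizer ({g} : Set G)) = 2 ^ k := by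
  classical
  haveI : Fact p.Prime := ⟨hp⟩
  haveI : Fact (Nat.Prime 2) := ⟨Nat.prime_two⟩
  set Z := Subgroup.zpowers g with hZ
  have hZN : Z ≤ Subgroup.normalizer (A : Set G) := Subgroup.zpowers_le.2 hg
  letI : MulAction ↥Z ↥A :=
    { smul := fun y a => ⟨(y : G) * a * (y : G)⁻¹, (Subgroup.mem_normalizer_iff.1 (hZN y.2) a).1 a.2⟩
      one_smul := fun a => Subtype.ext (show ((1 : ↥Z) : G) * a * ((1 : ↥Z) : G)⁻¹ = a by simp)
      mul_smul := fun y y' a => Subtype.ext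
        (show ((y * y' : ↥Z) : G) * a * ((y * y' : ↥Z) : G)⁻¹ = (y : G) * ((y' : G) * a * (y' : G)⁻¹) * (y : G)⁻¹ by
          push_cast; group) }
  have hpg : IsPGroup p ↥Z := IsPGroup.of_card (n := 1) (by rw [Nat.card_zpowers, hord, pow_one])
  have hmod := hpg.card_modEq_card_fixedPoints ↥A
  set F := A ⊓ Subgroup.centralizer ({g} : Set G) with hF
  have hfix : Nat.card (MulAction.fixedPoints ↥Z ↥A) = Nat.card F := Nat.card_congr
    { toFun := fun a => ⟨(a : ↥A), (a : ↥A).2, Subgroup.mem_centralizer_singleton_iff.2 (by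
        have h1 : g * ((a : ↥A) : G) * g⁻¹ = ((a : ↥A) : G) :=
          congrArg Subtype.val (a.2 ⟨g, Subgroup.mem_zpowers g⟩)
        exact (mul_inv_eq_iff_eq_mul.1 h1).symm)⟩
      invFun := fun a => ⟨⟨a, a.2.1⟩, fun y => Subtype.ext (by
        obtain ⟨i, hi⟩ := y.2
        have hc' : Commute (y : G) (a : G) := hi ▸
          (Commute.zpow_left (Subgroup.mem_centralizer_singleton_iff.1 a.2.2 : Commute (a : G) g).symm i)
        exact mul_inv_eq_iff_eq_mul.2 hc'.eq)⟩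
      left_inv := fun a => rfl
      right_inv := fun a => rfl }
  rw [hfix, hc] at hmod
  obtain ⟨k, hk11, hk⟩ : ∃ k ≤ 11, Nat.card F = 2 ^ k :=
    (Nat.dvd_prime_pow Nat.prime_two).1 (hc ▸ Subgroup.card_dvd_of_le inf_le_left)
  refine ⟨k, lt_of_le_of_ne hk11 fun e => ?_, ?_, hk⟩
  · have hFA : F = A := Subgroup.eq_of_le_of_card_ge inf_le_left (by rw [hk, hc, e])
    have hgA : g ∈ A := hcen fun a ha => by
      have : a ∈ F := hFA.symm ▸ ha
      exact Subgroup.mem_centralizer_singleton_iff.1 this.2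
    have h2 := orderOf_dvd_of_pow_eq_one (hA.2 g hgA)
    rw [hord] at h2
    exact hp2 ((Nat.prime_dvd_prime_iff_eq hp Nat.prime_two).1 h2)
  · rw [hk] at hmod
    exact hmod.symm

end CfsgLib.Sporadic.LargeFischer.Hexa
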