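import Cfsg.Agent.Lib.Sporadic.LargeFischer.Hexa.ElAct
import Cfsg.Agent.Lib.Sporadic.LargeFischer.Hexa.Fusion

/-!
# The conjugates of `z` in the subgroup of order `2¹¹`

They are 1771 in number; the remaining 276 involutions form one orbit of the normaliser.
-/

set_option autoImplicit false
set_option linter.style.haveILetI false
set_option linter.unusedSectionVars false
set_option maxRecDepth 40000

namespace CfsgLib.Sporadic.LargeFischer.Hexa

open CfsgLib.Sporadic.LargeFischer CfsgLib.ThreeTransp.Extraspecial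

theorem isConj_conj_iff {G : Type*} [Group G] {z a : G} (g : G) : IsConj z (g * a * g⁻¹) ↔ IsConj z a := by
  have h : IsConj a (g * a * g⁻¹) := isConj_iff.2 ⟨g, rfl⟩
  exact ⟨fun e => e.trans h.symm, fun e => e.trans h⟩

namespace Frame

variable {G : Type*} [Group G] [Finite G] {z : G} {Q : Subgroup (Subgroup.centralizer ({z} : Set G))} [Q.Normal]
  {π : G → V6} {ψ : ↥(Subgroup.centralizer ({z} : Set G)) →* (V6 ≃ₗ[ZMod 2] V6)}
  {x : ↥(Subgroup.centralizer ({z} : Set G))} (F : Frame z Q π ψ x)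
  {c : Fin 4 → ↥(Subgroup.centralizer ({z} : Set G))} (L : Lifts ψ x c)
include F L

/-- Conjugacy to `z`, on codes. -/
noncomputable def cl (n : ℕ) : Bool := @decide _ (Classical.propDecidable (IsConj z (F.el L n)))

theorem cl_iff (n : ℕ) : F.cl L n = true ↔ IsConj z (F.el L n) := by
  classical
  simp [cl]

/-- Invariance of a predicate under the normaliser. -/
def NInv (P : G → Prop) : Prop :=
  ∀ g ∈ Subgroup.normalizer (F.asub L : Set G), ∀ a, P (g * a * g⁻¹) ↔ P a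

theorem inv_isConj : F.NInv L (IsConj z) := fun g _ _ => isConj_conj_iff g

theorem can_mem_normalizer (w : V6) : F.lf.can F.hx w ∈ Subgroup.normalizer (F.asub L : Set G) :=
  F.mem_normalizer L (d := ⟨_, F.lf.mem_cent (F.lf.can_mem F.hx w)⟩) fun k hk => by
    rw [(F.lf.ker ⟨_, F.lf.mem_cent (F.lf.can_mem F.hx w)⟩).2 (F.lf.can_mem F.hx w)]
    exact (inW_iff _).2 ⟨k, hk, rfl⟩

theorem x_mem_normalizer : (x : G) ∈ Subgroup.normalizer (F.asub L : Set G) :=
  F.mem_normalizer L fun k hk => by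
    rw [F.hx, (omV_wv hk).2]
    exact (inW_iff _).2 ⟨_, (omV_wv hk).1, rfl⟩

theorem gen_mem_normalizer (j : Fin 2) {y : ↥(Subgroup.centralizer ({z} : Set G))} (ey : GenLike j (ψ y)) :
    (y : G) ∈ Subgroup.normalizer (F.asub L : Set G) :=
  F.mem_normalizer L fun k hk => by
    rw [ey.fix k hk]
    exact (inW_iff _).2 ⟨_, (gen_wv j hk).1, rfl⟩

theorem sX_lt {n : ℕ} (hn : n < 2048) : sX n < 2048 :=
  (ce_mkc ⟨n % 16, Nat.mod_lt _ (by norm_num)⟩ _ ⟨ok (n / 32), (omV_wv (ck_lt hn)).1⟩).2.2.2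

theorem p_transl {P : G → Prop} (hP : F.NInv L P) {v kd n : ℕ} (hn : n < 2048) (ht : tOK (cu n) v kd = true) :
    P (F.el L (sT v kd n)) ↔ P (F.el L n) := by
  rw [← F.el_transl L hn ht]
  exact hP _ (F.can_mem_normalizer L _) _

theorem p_scal {P : G → Prop} (hP : F.NInv L P) {n : ℕ} (hn : n < 2048) :
    P (F.el L (sX n)) ↔ P (F.el L n) := by
  rw [← F.el_scal L hn]
  exact hP _ (F.x_mem_normalizer L) _

theorem p_sXn {P : G → Prop} (hP : F.NInv L P) {n : ℕ} (hn : n < 2048) :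
    ∀ j, sXn j n < 2048 ∧ (P (F.el L (sXn j n)) ↔ P (F.el L n))
  | 0 => ⟨hn, Iff.rfl⟩
  | j + 1 => by
    obtain ⟨h1, h2⟩ := p_sXn hP hn j
    exact ⟨F.sX_lt L h1, (F.p_scal L hP h1).trans h2⟩

omit F L in
theorem sT_lt {v kd n : ℕ} (hn : n < 2048) (ht : tOK (cu n) v kd = true) : sT v kd n < 2048 := by
  simp only [tOK, Bool.and_eq_true, decide_eq_true_eq] at ht
  exact (ce_mkc ⟨n % 16, Nat.mod_lt _ (by norm_num)⟩ _ ⟨n / 32 ^^^ kd, Nat.xor_lt_two_pow (n := 6) (ck_lt hn) ht.1.1.1⟩).2.2.2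

omit F L in
theorem kc_lt {u : ℕ} (hu : u < 16) : kc u < 64 := (by decide +kernel : ∀ u : Fin 16, kc u.1 < 64) ⟨u, hu⟩

omit F L in
theorem rep_spec {ty u : ℕ} (hu : u < 16) : rep ty u < 2048 ∧ cu (rep ty u) = u := by
  have hk : (if ty == 2 then kc u else 0) < 64 := by
    split
    · exact kc_lt hu
    · norm_num
  obtain ⟨h1, -, -, h4⟩ := ce_mkc ⟨u, hu⟩ (ty == 1) ⟨_, hk⟩
  exact ⟨h4, h1⟩

theorem p_row {P : G → Prop} (hP : F.NInv L P) {u m : ℕ} (hu : u < 16) (hu0 : u ≠ 0) (hm : m < 128) :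
    P (F.el L (u + 16 * m)) ↔ P (F.el L (rep (tyC u m) u)) := by
  have h := List.all_eq_true.1 crows_ok u (List.mem_range.2 hu)
  simp only [Bool.or_eq_true, beq_iff_eq, hu0, false_or, List.all_eq_true, List.mem_range] at h
  have h := h m hm
  simp only [crowOK, Bool.and_eq_true, decide_eq_true_eq, beq_iff_eq] at h
  obtain ⟨⟨-, ht⟩, he⟩ := h
  unfold tyC
  generalize crow u m = r at ht he ⊢
  obtain ⟨hl, hcu⟩ := rep_spec (ty := r.1) hu
  rw [← hcu] at ht
  rw [← he]
  exact (F.p_sXn L hP (sT_lt hl ht) _).2.trans (F.p_transl L hP hl ht)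

theorem cl_row {u m : ℕ} (hu : u < 16) (hu0 : u ≠ 0) (hm : m < 128) :
    F.cl L (u + 16 * m) = F.cl L (rep (tyC u m) u) := by
  rw [Bool.eq_iff_iff, cl_iff, cl_iff]
  exact F.p_row L (F.inv_isConj L) hu hu0 hm

theorem sG_lt (j : Fin 2) (l : Bool) {n : ℕ} (hn : n < 2048) : sG j l n < 2048 :=
  (ce_mkc ⟨gu j (n % 16), gu_lt j (Nat.mod_lt _ (by norm_num))⟩ _ ⟨gk j (n / 32), (gen_wv j (ck_lt hn)).1⟩).2.2.2

theorem gen_data (j : Fin 2) : ∃ l : ℕ → Bool, l 0 = false ∧
    (∀ a b, a < 2048 → b < 2048 → sG j (l (cu (a ^^^ b))) (a ^^^ b) = sG j (l (cu a)) a ^^^ sG j (l (cu b)) b) ∧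
    ∀ (P : G → Prop), F.NInv L P → ∀ n, n < 2048 → (P (F.el L (sG j (l (cu n)) n)) ↔ P (F.el L n)) := by
  obtain ⟨y, hy, ey⟩ := F.exists_gen_lift j
  obtain ⟨l, hl0, hl⟩ := F.el_gen L j hy ey
  refine ⟨l, hl0, fun a b ha hb => ?_, fun P hP n hn => ?_⟩
  · have hab : a ^^^ b < 2048 := Nat.xor_lt_two_pow (n := 11) ha hb
    refine F.el_inj L (F.sG_lt L _ _ hab) (Nat.xor_lt_two_pow (n := 11) (F.sG_lt L _ _ ha) (F.sG_lt L _ _ hb)) ?_
    rw [F.el_xor L (F.sG_lt L _ _ ha) (F.sG_lt L _ _ hb), ← hl a ha, ← hl b hb, ← hl _ hab, F.el_xor L ha hb]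
    group
  · rw [← hl n hn]
    exact hP _ (F.gen_mem_normalizer L j ey) _

/-- The types in the cosets. -/
theorem cl_coset {u m : ℕ} (hu : u < 16) (hu0 : u ≠ 0) (hm : m < 128) :
    F.cl L (u + 16 * m) = if tyC u m = 0 then F.cl L (rep 0 u) else if tyC u m = 1 then F.cl L (rep 1 u)
      else F.cl L (rep 2 u) := by
  rw [F.cl_row L hu hu0 hm]
  have h := List.all_eq_true.1 crows_ok u (List.mem_range.2 hu)
  simp only [Bool.or_eq_true, beq_iff_eq, hu0, false_or, List.all_eq_true, List.mem_range] at h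
  have h := h m hm
  simp only [crowOK, Bool.and_eq_true, decide_eq_true_eq] at h
  have h3 : tyC u m < 3 := h.1.1.1
  rcases (by omega : tyC u m = 0 ∨ tyC u m = 1 ∨ tyC u m = 2) with e | e | e <;> simp [e]

/-- The number of classes of `z` among the two small classes. -/
noncomputable def sig (u : ℕ) : ℕ :=
  (if F.cl L (rep 0 u) then 1 else 0) + (if F.cl L (rep 1 u) then 1 else 0)

theorem gen_step (j : Fin 2) {u : ℕ} (hu : u < 16) (hu0 : u ≠ 0) :
    F.cl L (rep 2 (gu j u)) = F.cl L (rep 2 u) ∧ F.sig L (gu j u) = F.sig L u := by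
  obtain ⟨l, -, -, hl⟩ := F.gen_data L j
  have hgu := gu_lt j hu
  have hgu0 : gu j u ≠ 0 := gu_ne j ⟨u, hu⟩ hu0
  have hstep : ∀ ty, F.cl L (sG j (l u) (rep ty u)) = F.cl L (rep ty u) := fun ty => by
    obtain ⟨h1, h2⟩ := rep_spec (ty := ty) hu
    have := hl _ (F.inv_isConj L) _ h1
    rw [h2] at this
    rw [Bool.eq_iff_iff, cl_iff, cl_iff]
    exact this
  have hform : ∀ ty, sG j (l u) (rep ty u) = mkc (gu j u) ((ty == 1) ^^ l u) (gk j (if ty == 2 then kc u else 0)) := by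
    intro ty
    have hk : (if ty == 2 then kc u else 0) < 64 := by
      split
      · exact kc_lt hu
      · norm_num
    obtain ⟨h1, h2, h3, h4⟩ := mkc_facts ⟨u, hu⟩ (ty == 1) ⟨_, hk⟩
    simp only at h2 h3 h4
    unfold rep sG
    rw [h2, h3, h4]
  have hg0 : gk j 0 = 0 := lm_zero _
  have hsmall : ∀ b : Bool, F.cl L (mkc (gu j u) b 0) = if b then F.cl L (rep 1 (gu j u)) else F.cl L (rep 0 (gu j u)) := by
    intro b; cases b <;> rfl
  refine ⟨?_, ?_⟩
  · have hk : gk j (kc u) < 64 := (gen_wv j (kc_lt hu)).1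
    have h := hstep 2
    rw [hform] at h
    simp only [Nat.reduceBEq, if_true, Bool.false_bne] at h
    rw [← h]
    have hm : mkc (gu j u) (l u) (gk j (kc u)) = gu j u + 16 * (2 * gk j (kc u) + (if l u then 1 else 0)) := by
      unfold mkc; cases l u <;> simp <;> ring
    rw [hm,
      F.cl_row L hgu hgu0 (by cases l u <;> simp <;> omega)]
    congr 2
    have hr := List.all_eq_true.1 rep_type u (List.mem_range.2 hu)
    simp only [Bool.or_eq_true, beq_iff_eq, hu0, false_or, Bool.and_eq_true, List.all_eq_true, List.mem_range] at hr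
    have := hr.2 j.1 j.2 (if l u then 1 else 0) (by cases l u <;> simp)
    rw [show Fin.ofNat 2 j.1 = j from Fin.ext (Nat.mod_eq_of_lt j.2)] at this
    exact this.symm
  · have h0 := hstep 0
    have h1 := hstep 1
    rw [hform] at h0 h1
    simp only [Nat.reduceBEq, Bool.false_eq_true, if_false, hg0, hsmall] at h0 h1
    unfold sig
    rw [← h0, ← h1]
    cases l u <;> simp [add_comm]

theorem const_all {u : ℕ} (hu : u < 16) (hu0 : u ≠ 0) :
    F.cl L (rep 2 u) = F.cl L (rep 2 1) ∧ F.sig L u = F.sig L 1 := by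
  have := (walk_inv (fun i a => gu (Fin.ofNat 2 i) a) (fun a => a < 16 ∧ a ≠ 0)
    (fun a => (F.cl L (rep 2 a), F.sig L a))
    (fun i a ha => ⟨gu_lt _ ha.1, gu_ne _ ⟨a, ha.1⟩ ha.2⟩)
    (fun i a ha => Prod.ext (F.gen_step L _ ha.1 ha.2).1 (F.gen_step L _ ha.1 ha.2).2)
    (guWord u) 1 ⟨by norm_num, one_ne_zero⟩).2
  rw [(guWord_ok ⟨u, hu⟩ hu0).2] at this
  exact ⟨congrArg Prod.fst this, congrArg Prod.snd this⟩

theorem p_base {P : G → Prop} (hP : F.NInv L P) {m : ℕ} (hm : m < 128) :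
    P (F.el L (16 * m)) ↔ P (F.el L (baseRep (tyB m))) := by
  have h := List.all_eq_true.1 brows_ok m (List.mem_range.2 hm)
  simp only [browOK, Bool.and_eq_true, decide_eq_true_eq, beq_iff_eq, List.all_eq_true] at h
  obtain ⟨⟨hty, hw⟩, he⟩ := h
  have hrl : ∀ ty, baseRep ty < 2048 ∧ cu (baseRep ty) = 0 := by
    intro ty; unfold baseRep; split_ifs <;> decide
  have hS : ∀ i a, (a < 2048 ∧ cu a = 0) → (sB i a < 2048 ∧ cu (sB i a) = 0) ∧ (i < 9 → (P (F.el L (sB i a)) ↔ P (F.el L a))) := by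
    intro i a ⟨ha, ha0⟩
    unfold sB
    split
    · refine ⟨⟨F.sG_lt L _ _ ha, ?_⟩, fun _ => ?_⟩
      · have hg : gu (Fin.ofNat 2 i) (a % 16) = 0 := by
          rw [show a % 16 = 0 from ha0]
          exact (by decide +kernel : ∀ j, gu j 0 = 0) _
        exact ((ce_mkc ⟨gu (Fin.ofNat 2 i) (a % 16), gu_lt _ (cu_lt a)⟩ _ ⟨_, (gen_wv _ (ck_lt ha)).1⟩).1).trans hg
      · obtain ⟨l, hl0, -, hl⟩ := F.gen_data L (Fin.ofNat 2 i)
        have := hl P hP a ha
        rwa [ha0, hl0] at this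
    · split
      · exact ⟨⟨F.sX_lt L ha, ((ce_mkc ⟨a % 16, cu_lt a⟩ _ ⟨_, (omV_wv (ck_lt ha)).1⟩).1).trans ha0⟩,
          fun _ => F.p_scal L hP ha⟩
      · refine ⟨⟨?_, ?_⟩, fun h9 => ?_⟩
        · exact (ce_mkc ⟨a % 16, cu_lt a⟩ _ ⟨a / 32 ^^^ 0, Nat.xor_lt_two_pow (n := 6) (ck_lt ha) (by norm_num)⟩).2.2.2
        · exact ((ce_mkc ⟨a % 16, cu_lt a⟩ _ ⟨a / 32 ^^^ 0, Nat.xor_lt_two_pow (n := 6) (ck_lt ha) (by norm_num)⟩).1).trans ha0
        · exact F.p_transl L hP ha (ha0 ▸ List.all_eq_true.1 flip_ok (i - 3) (List.mem_range.2 (by omega)))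
  have key : ∀ (w : List ℕ) (a : ℕ), (∀ i ∈ w, i < 9) → (a < 2048 ∧ cu a = 0) →
      (P (F.el L (w.foldl (fun n i => sB i n) a)) ↔ P (F.el L a)) := by
    intro w
    induction w with
    | nil => intro a _ _; exact Iff.rfl
    | cons i w ih =>
      intro a hw ha
      rw [List.foldl_cons]
      exact (ih _ (fun k hk => hw k (List.mem_cons_of_mem _ hk)) (hS i a ha).1).trans ((hS i a ha).2 (hw i List.mem_cons_self))
  rw [← he]
  exact key _ _ hw (hrl _)

theorem cl_base {m : ℕ} (hm : m < 128) : F.cl L (16 * m) = (tyB m == 1 || tyB m == 2) := by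
  have e0 : F.cl L (16 * m) = F.cl L (baseRep (tyB m)) := by
    rw [Bool.eq_iff_iff, cl_iff, cl_iff]
    exact F.p_base L (F.inv_isConj L) hm
  have hty : tyB m < 4 := by
    have h := List.all_eq_true.1 brows_ok m (List.mem_range.2 hm)
    simp only [browOK, Bool.and_eq_true, decide_eq_true_eq] at h
    exact h.1.1
  rw [e0]
  obtain ⟨w4, w6, h4, h6, h6c⟩ := base_weights
  rcases (by omega : tyB m = 0 ∨ tyB m = 1 ∨ tyB m = 2 ∨ tyB m = 3) with e | e | e | e <;>
    simp only [e, Nat.reduceBEq, Bool.or_false, Bool.false_or, Bool.or_self]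
  · rw [Bool.eq_false_iff]
    intro hc
    rw [cl_iff, show baseRep 0 = 0 from rfl, F.el_zero L] at hc
    exact F.lf.extra.z_ne (isConj_one_left.1 hc)
  · rw [cl_iff, show baseRep 1 = mkc 0 true 0 from rfl, F.el_mkc L (by norm_num) true (by norm_num)]
    simp [cpr, bv, zp_one, F.rho_zero]
    exact ⟨1, by simp⟩
  · -- weight four: a conjugate of `z`
    obtain ⟨g, hgu, hgne⟩ := F.fused
    obtain ⟨d, hk⟩ := F.four g hgu hgne
    obtain ⟨hm', hπ⟩ := F.lf.π_conj d hgu
    rw [hk] at hπ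
    have hd : IsConj z ((d : G) * (g * z * g⁻¹) * (d : G)⁻¹) := (isConj_conj_iff _).2 ((isConj_conj_iff _).2 (IsConj.refl z))
    have hbit : ∀ b : Bool, F.cl L (mkc 0 b wtFour) = F.cl L (mkc 0 false wtFour) := by
      intro b
      cases b
      · rfl
      obtain ⟨i, hi, hbs⟩ : ∃ i < 6, bsc (flipVec.getD i 0) (wv wtFour) = true := by decide +kernel
      have ht := List.all_eq_true.1 flip_ok i (List.mem_range.2 hi)
      have hn : mkc 0 false wtFour < 2048 := (ce_mkc 0 false ⟨_, w4⟩).2.2.2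
      have := F.p_transl L (F.inv_isConj L) hn (show tOK (cu (mkc 0 false wtFour)) (flipVec.getD i 0) 0 = true from
        (show cu (mkc 0 false wtFour) = 0 from (ce_mkc 0 false ⟨_, w4⟩).1).symm ▸ ht)
      rw [← cl_iff, ← cl_iff, ← Bool.eq_iff_iff] at this
      rw [← this]
      congr 1
      obtain ⟨-, h2, h3, h5⟩ := mkc_facts 0 false ⟨_, w4⟩
      simp only [Fin.val_zero] at h2 h3 h5
      unfold sT
      rw [h2, h3, h5, Nat.xor_zero, hbs]
      have : tE 0 (flipVec.getD i 0) = false := (by decide +kernel : ∀ i : Fin 6, tE 0 (flipVec.getD i.1 0) = false) ⟨i, hi⟩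
      rw [this]; rfl
    rw [show baseRep 2 = mkc 0 false wtFour by simp [baseRep, mkc], cl_iff]
    rcases (F.lf.π_eq_iff (F.rho_mem wtFour) hm').1 ((F.π_rho _).trans hπ.symm) with e' | e'
    · rw [F.el_mkc L (by norm_num) false w4]
      simpa [cpr, bv, zp_zero, ← e'] using hd
    · rw [← cl_iff, ← hbit true, cl_iff, F.el_mkc L (by norm_num) true w4]
      simp only [bv, if_true, zp_one]
      rw [show Subtype.val (cpr c 0) = 1 by simp [cpr], one_mul, ← F.rho_cent, ← e']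
      exact hd
  · rw [Bool.eq_false_iff]
    intro hc
    rw [cl_iff, show baseRep 3 = mkc 0 false wtSix by simp [baseRep, mkc], F.el_mkc L (by norm_num) false w6] at hc
    have hc' : IsConj z (F.rho wtSix) := by simpa [cpr, bv, zp_zero] using hc
    obtain ⟨g, eg⟩ := isConj_iff.1 hc'
    have hne : g * z * g⁻¹ ≠ z := fun e => by
      have := congrArg π (eg.symm.trans e)
      rw [F.π_rho, F.lf.π_z] at this
      exact absurd (this ▸ h6 : wt (0 : V6) = 6) (by decide)
    exact F.six g (eg.symm ▸ F.rho_mem wtSix) hne (by rw [eg, F.π_rho])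

/-- The set of conjugates of `z`. -/
noncomputable def zset : Finset (Fin 16 × Fin 128) :=
  Finset.univ.filter fun p => F.cl L (p.1.1 + 16 * p.2.1) = true

omit F L in
theorem split_code {n : ℕ} (hn : n < 2048) : ∃ p : Fin 16 × Fin 128, n = p.1.1 + 16 * p.2.1 :=
  ⟨(⟨n % 16, by omega⟩, ⟨n / 16, by omega⟩), by simp only; omega⟩

theorem card_zset_eq : Nat.card {a : ↥(F.asub L) // IsConj z (a : G)} = (F.zset L).card := by
  classical
  rw [← Fintype.card_coe, ← Nat.card_eq_fintype_card]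
  refine (Nat.card_eq_of_bijective (fun p : ↥(F.zset L) => (⟨⟨F.el L (p.1.1.1 + 16 * p.1.2.1), _, by omega, rfl⟩,
    (F.cl_iff L _).1 (Finset.mem_filter.1 p.2).2⟩ : {a : ↥(F.asub L) // IsConj z (a : G)})) ⟨?_, ?_⟩).symm
  · rintro ⟨⟨u, m⟩, _⟩ ⟨⟨u', m'⟩, _⟩ e
    have e1 := F.el_inj L (by omega) (by omega) (congrArg (fun a : {a : ↥(F.asub L) // IsConj z (a : G)} => ((a : ↥(F.asub L)) : G)) e)
    exact Subtype.ext (Prod.ext (Fin.ext (by dsimp only at e1 ⊢; omega)) (Fin.ext (by dsimp only at e1 ⊢; omega)))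
  · rintro ⟨⟨a, n, hn, rfl⟩, ha⟩
    obtain ⟨p, rfl⟩ := split_code hn
    exact ⟨⟨p, Finset.mem_filter.2 ⟨Finset.mem_univ _, (F.cl_iff L _).2 ha⟩⟩, rfl⟩

theorem card_zset : (F.zset L).card = 91 + 240 * F.sig L 1 + 1440 * (if F.cl L (rep 2 1) then 1 else 0) := by
  classical
  set T := fun u : Fin 16 => (Finset.univ.filter fun m : Fin 128 => F.cl L (u.1 + 16 * m.1) = true).card
  have hsum : (F.zset L).card = ∑ u, T u := by
    rw [zset, Finset.card_filter, Fintype.sum_prod_type]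
    exact Finset.sum_congr rfl fun u _ => (Finset.card_filter _ _).symm
  have hcount : ∀ p : ℕ → Bool, (Finset.univ.filter fun m : Fin 128 => p m.1 = true).card = (List.range 128).countP p := by
    intro p
    rw [List.countP_eq_length_filter, ← List.toFinset_card_of_nodup (List.nodup_range.filter _),
      ← Finset.card_map Fin.valEmbedding]
    congr 1
    ext m
    simp only [Finset.mem_map, Finset.mem_filter, Finset.mem_univ, true_and, Fin.valEmbedding_apply, List.mem_toFinset,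
      List.mem_filter, List.mem_range]
    exact ⟨fun ⟨a, ha, e⟩ => e ▸ ⟨a.2, ha⟩, fun ⟨h1, h2⟩ => ⟨⟨m, h1⟩, h2, rfl⟩⟩
  have h0 : T 0 = 91 := by
    show (Finset.univ.filter fun m : Fin 128 => F.cl L ((0 : Fin 16).1 + 16 * m.1) = true).card = 91
    rw [show (Finset.univ.filter fun m : Fin 128 => F.cl L ((0 : Fin 16).1 + 16 * m.1) = true) =
      Finset.univ.filter fun m : Fin 128 => (tyB m.1 == 1 || tyB m.1 == 2) = true from
      Finset.filter_congr fun m _ => by rw [Fin.val_zero, Nat.zero_add, F.cl_base L m.2],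
      hcount (fun m => tyB m == 1 || tyB m == 2)]
    exact count_base.1
  have hT : ∀ u : Fin 15, T u.succ = 16 * F.sig L 1 + 96 * (if F.cl L (rep 2 1) then 1 else 0) := by
    intro v
    have hu0 : (v.succ : Fin 16).1 ≠ 0 := by simp
    set u := (v.succ : Fin 16)
    show (Finset.univ.filter fun m : Fin 128 => F.cl L (u.1 + 16 * m.1) = true).card = _
    rw [show (Finset.univ.filter fun m : Fin 128 => F.cl L (u.1 + 16 * m.1) = true) =
      Finset.univ.filter fun m : Fin 128 => (if tyC u.1 m.1 = 0 then F.cl L (rep 0 u.1) else if tyC u.1 m.1 = 1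
        then F.cl L (rep 1 u.1) else F.cl L (rep 2 u.1)) = true from
      Finset.filter_congr fun m _ => by rw [F.cl_coset L u.2 hu0 m.2],
      hcount (fun m => if tyC u.1 m = 0 then F.cl L (rep 0 u.1) else if tyC u.1 m = 1
        then F.cl L (rep 1 u.1) else F.cl L (rep 2 u.1)), count_coset _ _ _ u hu0]
    obtain ⟨hb, hs⟩ := F.const_all L u.2 hu0
    rw [← hs, ← hb]
    unfold sig
    cases F.cl L (rep 0 u.1) <;> cases F.cl L (rep 1 u.1) <;> cases F.cl L (rep 2 u.1) <;> rfl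
  rw [hsum, Fin.sum_univ_succ, h0, Finset.sum_congr rfl fun u _ => hT u, Finset.sum_const, Finset.card_univ,
    Fintype.card_fin]
  simp only [smul_eq_mul]
  ring

theorem prime_dvd (hU : UniqAb G) {p : ℕ} (hp : p ∣ (F.zset L).card) :
    p ∣ Nat.card ↥(Subgroup.normalizer (F.asub L : Set G)) := by
  classical
  set A := F.asub L
  set M := Subgroup.normalizer (A : Set G)
  letI : MulAction ↥M G := MulAction.compHom G (ConjAct.toConjAct.toMonoidHom.comp M.subtype)
  have horb : MulAction.orbit ↥M z = {a | a ∈ A ∧ IsConj z a} := by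
    ext a
    constructor
    · rintro ⟨m, rfl⟩
      exact ⟨(Subgroup.mem_normalizer_iff.1 m.2 z).1 (F.z_mem_asub L), isConj_iff.2 ⟨m, rfl⟩⟩
    · rintro ⟨ha, hc⟩
      obtain ⟨g, eg⟩ := isConj_iff.1 hc
      obtain ⟨m, hm, em⟩ := fusion hU (F.isElementaryAbelian_asub L) (F.card_asub L) (F.z_mem_asub L) (eg.symm ▸ ha)
      exact ⟨⟨m, hm⟩, em.trans eg⟩
  have h1 := (MulAction.stabilizer ↥M z).index_dvd_card
  rw [MulAction.index_stabilizer, horb, ← Nat.card_coe_set_eq] at h1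
  refine hp.trans ((dvd_of_eq ?_).trans h1)
  rw [← F.card_zset_eq L]
  exact Nat.card_congr
    { toFun := fun a => ⟨((a : ↥A) : G), (a : ↥A).2, a.2⟩
      invFun := fun a => ⟨⟨a.1, a.2.1⟩, a.2.2⟩
      left_inv := fun a => rfl
      right_inv := fun a => rfl }

/-- The count. -/
theorem counting (hU : UniqAb G) : F.sig L 1 = 1 ∧ F.cl L (rep 2 1) = true := by
  have hs : F.sig L 1 ≤ 2 := by unfold sig; split_ifs <;> omega
  have bad : ∀ p, p.Prime → p ≠ 2 → (∀ k < 11, 2 ^ k % p ≠ 2048 % p) → ¬ p ∣ (F.zset L).card := by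
    intro p hp hp2 hk hd
    haveI : Fact p.Prime := ⟨hp⟩
    obtain ⟨g, hg⟩ := exists_prime_orderOf_dvd_card' p (F.prime_dvd L hU hd)
    obtain ⟨k, hk11, he, -⟩ := fixed_card (F.isElementaryAbelian_asub L) (F.card_asub L) (F.centralizer_asub L) hp hp2 g.2
      (by rw [Subgroup.orderOf_coe, hg])
    exact hk k hk11 he
  have hcard := F.card_zset L
  have b13 := bad 13 (by norm_num) (by norm_num) (by decide)
  have b331 := bad 331 (by norm_num) (by norm_num) (by decide)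
  have b571 := bad 571 (by norm_num) (by norm_num) (by decide)
  have b1531 := bad 1531 (by norm_num) (by norm_num) (by decide)
  have b2011 := bad 2011 (by norm_num) (by norm_num) (by decide)
  rw [hcard] at b13 b331 b571 b1531 b2011
  cases hb : F.cl L (rep 2 1) <;> simp only [hb, if_true, Bool.false_eq_true, if_false] at b13 b331 b571 b1531 b2011
  · exfalso
    rcases (by omega : F.sig L 1 = 0 ∨ F.sig L 1 = 1 ∨ F.sig L 1 = 2) with e | e | e
    · exact b13 (by rw [e]; norm_num)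
    · exact b331 (by rw [e])
    · exact b571 (by rw [e])
  · rcases (by omega : F.sig L 1 = 0 ∨ F.sig L 1 = 1 ∨ F.sig L 1 = 2) with e | e | e
    · exact absurd (by rw [e]) b1531
    · exact ⟨e, rfl⟩
    · exact absurd (by rw [e]) b2011

end Frame

end CfsgLib.Sporadic.LargeFischer.Hexa
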