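import Cfsg.Agent.Lib.Sporadic.LargeFischer.Stabilizers

/-!
# The module as twelve-bit words, and linear maps given by the images of the bits
-/

set_option autoImplicit false
set_option linter.unusedSectionVars false
set_option maxRecDepth 40000
set_option linter.unusedVariables false

namespace CfsgLib.Sporadic.LargeFischer.Hexa

open CfsgLib.Sporadic.LargeFischer

/-- A bit of a number, in `ZMod 2`. -/
def bz (n i : ℕ) : ZMod 2 := if n.testBit i then 1 else 0

theorem bz_xor (a b i : ℕ) : bz (a ^^^ b) i = bz a i + bz b i := by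
  simp only [bz, Nat.testBit_xor]
  cases a.testBit i <;> cases b.testBit i <;> decide

theorem bz_zero (i : ℕ) : bz 0 i = 0 := by simp [bz]

/-- The vector with the given code. -/
def dec (n : ℕ) : V6 := fun i => (bz n (2 * i.1), bz n (2 * i.1 + 1))

theorem dec_xor (a b : ℕ) : dec (a ^^^ b) = dec a + dec b :=
  funext fun i => Prod.ext (bz_xor a b _) (bz_xor a b _)

theorem dec_zero : dec 0 = 0 := funext fun i => Prod.ext (bz_zero _) (bz_zero _)

/-- The code of a component. -/
def dcode (d : D4) : ℕ := d.1.val + 2 * d.2.val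

/-- The code of a vector. -/
def enc (v : V6) : ℕ :=
  dcode (v 0) + 4 * (dcode (v 1) + 4 * (dcode (v 2) + 4 * (dcode (v 3) + 4 * (dcode (v 4) + 4 * dcode (v 5)))))

theorem enc_lt (v : V6) : enc v < 4096 := by
  have h : ∀ d : D4, dcode d < 4 := by decide
  have := h (v 0); have := h (v 1); have := h (v 2); have := h (v 3); have := h (v 4); have := h (v 5)
  unfold enc; omega

theorem enc_dec_all : (List.range 4096).all (fun n => enc (dec n) == n) = true := by decide +kernel

theorem enc_dec_fin (n : Fin 4096) : enc (dec n.1) = n.1 :=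
  beq_iff_eq.1 (List.all_eq_true.1 enc_dec_all n.1 (List.mem_range.2 n.2))

theorem enc_dec {n : ℕ} (h : n < 4096) : enc (dec n) = n := enc_dec_fin ⟨n, h⟩

theorem dec_enc (v : V6) : dec (enc v) = v := by
  have hb : Function.Bijective fun n : Fin 4096 => dec n.1 :=
    (Fintype.bijective_iff_injective_and_card _).2 ⟨fun a b e => Fin.ext (by
      have := congrArg enc e
      rwa [enc_dec_fin, enc_dec_fin] at this), by simp⟩
  obtain ⟨n, rfl⟩ := hb.2 v
  simp only [enc_dec_fin]

theorem enc_add (u v : V6) : enc (u + v) = enc u ^^^ enc v := by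
  have h : enc u ^^^ enc v < 2 ^ 12 := Nat.xor_lt_two_pow (enc_lt u) (enc_lt v)
  rw [← enc_dec (n := enc u ^^^ enc v) h, dec_xor, dec_enc, dec_enc]

theorem enc_zero : enc (0 : V6) = 0 := by decide

/-- The linear map with the given images of the bits. -/
def lm : List ℕ → ℕ → ℕ
  | [], _ => 0
  | x :: L, n => (if n.testBit 0 then x else 0) ^^^ lm L (n / 2)

theorem lm_xor : ∀ (L : List ℕ) (a b : ℕ), lm L (a ^^^ b) = lm L a ^^^ lm L b
  | [], _, _ => by simp [lm]
  | x :: L, a, b => by
    simp only [lm, Nat.xor_div_two, lm_xor L, Nat.testBit_xor]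
    generalize lm L (a / 2) = p
    generalize lm L (b / 2) = q
    cases a.testBit 0 <;> cases b.testBit 0 <;> simp [Nat.xor_assoc, Nat.xor_comm, Nat.xor_left_comm]

theorem lm_zero : ∀ (L : List ℕ), lm L 0 = 0
  | [] => rfl
  | x :: L => by simp [lm, lm_zero L]

theorem lm_lt {k : ℕ} : ∀ (L : List ℕ) (n : ℕ), (∀ x ∈ L, x < 2 ^ k) → lm L n < 2 ^ k
  | [], _, _ => Nat.two_pow_pos k
  | x :: L, n, h => by
    refine Nat.xor_lt_two_pow ?_ (lm_lt L _ fun y hy => h y (List.mem_cons_of_mem _ hy))
    split
    · exact h x List.mem_cons_self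
    · exact Nat.two_pow_pos k

/-- A map of the module from a list. -/
def lmV (L : List ℕ) (v : V6) : V6 := dec (lm L (enc v))

theorem lmV_add (L : List ℕ) (u v : V6) : lmV L (u + v) = lmV L u + lmV L v := by
  simp only [lmV, enc_add, lm_xor, dec_xor]

/-- The multiplication by the cube root of unity, on codes. -/
def omc (n : ℕ) : ℕ :=
  ((n >>> 1) &&& 1365) ^^^ ((((n &&& 1365) ^^^ ((n >>> 1) &&& 1365)) <<< 1))

theorem omc_all : (List.range 4096).all (fun n => Nat.blt (omc n) 4096 && enc (omV (dec n)) == omc n) = true := by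
  decide +kernel

theorem omc_fin (n : Fin 4096) : omc n.1 < 4096 ∧ enc (omV (dec n.1)) = omc n.1 := by
  have := List.all_eq_true.1 omc_all n.1 (List.mem_range.2 n.2)
  simpa only [Bool.and_eq_true, Nat.blt_eq, beq_iff_eq] using this

theorem omV_dec {n : ℕ} (h : n < 4096) : omV (dec n) = dec (omc n) := by
  rw [← (omc_fin ⟨n, h⟩).2, dec_enc]

theorem enc_omV (v : V6) : enc (omV v) = omc (enc v) := by
  have := (omc_fin ⟨enc v, enc_lt v⟩).2
  simpa only [dec_enc] using this

theorem omV_add (u v : V6) : omV (u + v) = omV u + omV v :=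
  funext fun i => omp_linear 1 (u i) (v i)

/-- Two additive maps agreeing on the twelve basis vectors agree. -/
theorem ext12 (f g : V6 → V6) (hf : ∀ u v, f (u + v) = f u + f v) (hg : ∀ u v, g (u + v) = g u + g v)
    (h : ∀ i, i < 12 → f (dec (2 ^ i)) = g (dec (2 ^ i))) : ∀ v, f v = g v := by
  have two : ∀ w : V6, w + w = 0 := fun w => funext fun i => CharTwo.add_self_eq_zero _
  have f0 : f 0 = 0 := by
    have := hf 0 0
    rw [add_zero] at this
    exact this.trans (two _)
  have g0 : g 0 = 0 := by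
    have := hg 0 0
    rw [add_zero] at this
    exact this.trans (two _)
  have key : ∀ k, k ≤ 12 → ∀ n, n < 2 ^ k → f (dec n) = g (dec n) := by
    intro k
    induction k with
    | zero =>
      intro _ n hn
      rw [show n = 0 by omega, dec_zero, f0, g0]
    | succ k ih =>
      intro hk n hn
      by_cases hb : n < 2 ^ k
      · exact ih (by omega) n hb
      · have e : n = 2 ^ k ^^^ (n ^^^ 2 ^ k) := by
          rw [Nat.xor_comm n, ← Nat.xor_assoc, Nat.xor_self, Nat.zero_xor]
        have hlt : n ^^^ 2 ^ k < 2 ^ k := by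
          refine Nat.lt_pow_two_of_testBit _ fun j hj => ?_
          rw [Nat.testBit_xor]
          rcases eq_or_lt_of_le hj with rfl | hj'
          · have h1 : n.testBit k = true := by
              rw [Nat.testBit_eq_decide_div_mod_eq, decide_eq_true_eq]
              have h2 : n / 2 ^ k = 1 := by
                apply Nat.div_eq_of_lt_le
                · omega
                · rw [show (1 + 1) * 2 ^ k = 2 ^ (k + 1) by ring]; exact hn
              rw [h2]
            rw [h1, Nat.testBit_two_pow_self]; rfl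
          · rw [Nat.testBit_lt_two_pow (lt_of_lt_of_le hn (Nat.pow_le_pow_right (by norm_num) hj')),
              Nat.testBit_two_pow_of_ne (by omega)]
            rfl
        rw [e, dec_xor, hf, hg, h k (by omega), ih (by omega) _ hlt]
  intro v
  have := key 12 le_rfl (enc v) (enc_lt v)
  rwa [dec_enc] at this

/-- A linear automorphism from two lists. -/
def mkE (L L' : List ℕ) (h : (∀ n, n < 4096 → lm L' (lm L n) = n ∧ lm L (lm L' n) = n) ∧
    (∀ x ∈ L, x < 4096) ∧ ∀ x ∈ L', x < 4096) : V6 ≃ₗ[ZMod 2] V6 where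
  toFun := lmV L
  invFun := lmV L'
  map_add' := lmV_add L
  map_smul' c v := by
    rcases (by decide : ∀ c : ZMod 2, c = 0 ∨ c = 1) c with rfl | rfl
    · simp only [zero_smul, RingHom.id_apply, lmV, enc_zero, lm_zero, dec_zero]
    · simp only [one_smul, RingHom.id_apply]
  left_inv v := by
    simp only [lmV]
    rw [enc_dec (lm_lt (k := 12) L _ h.2.1), (h.1 _ (enc_lt v)).1, dec_enc]
  right_inv v := by
    simp only [lmV]
    rw [enc_dec (lm_lt (k := 12) L' _ h.2.2), (h.1 _ (enc_lt v)).2, dec_enc]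

/-- The two lists are inverse. -/
def okPair (L L' : List ℕ) : Bool :=
  (List.range 12).all (fun i => lm L' (lm L (2 ^ i)) == 2 ^ i && lm L (lm L' (2 ^ i)) == 2 ^ i) &&
    L.all (· < 4096) && L'.all (· < 4096)

theorem okPair_spec {L L' : List ℕ} (h : okPair L L' = true) :
    (∀ n, n < 4096 → lm L' (lm L n) = n ∧ lm L (lm L' n) = n) ∧ (∀ x ∈ L, x < 4096) ∧ ∀ x ∈ L', x < 4096 := by
  simp only [okPair, Bool.and_eq_true, List.all_eq_true, List.mem_range, beq_iff_eq, decide_eq_true_eq] at h
  obtain ⟨⟨h1, h2⟩, h3⟩ := h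
  refine ⟨fun n hn => ?_, h2, h3⟩
  have hL : ∀ m, lm L m < 4096 := fun m => lm_lt (k := 12) L m h2
  have hL' : ∀ m, lm L' m < 4096 := fun m => lm_lt (k := 12) L' m h3
  have hp : ∀ i, i < 12 → (2 : ℕ) ^ i < 4096 := fun i hi =>
    Nat.pow_lt_pow_right (by norm_num : 1 < 2) hi |>.trans_eq (by norm_num)
  have a := ext12 (fun v => lmV L' (lmV L v)) id (fun u v => by simp [lmV_add]) (fun _ _ => rfl)
    (fun i hi => by simp only [lmV, id_eq, enc_dec (hL _), enc_dec (hp i hi), (h1 i hi).1]) (dec n)
  have b := ext12 (fun v => lmV L (lmV L' v)) id (fun u v => by simp [lmV_add]) (fun _ _ => rfl)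
    (fun i hi => by simp only [lmV, id_eq, enc_dec (hL' _), enc_dec (hp i hi), (h1 i hi).2]) (dec n)
  simp only [lmV, id_eq, enc_dec hn, enc_dec (hL _), enc_dec (hL' _)] at a b
  exact ⟨by simpa only [enc_dec (hL' _), enc_dec hn] using congrArg enc a,
    by simpa only [enc_dec (hL _), enc_dec hn] using congrArg enc b⟩

theorem mkE_apply (L L' : List ℕ) (h) (v : V6) : mkE L L' h v = dec (lm L (enc v)) := rfl

theorem mkE_dec (L L' : List ℕ) (h) {n : ℕ} (hn : n < 4096) : mkE L L' h (dec n) = dec (lm L n) := by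
  rw [mkE_apply, enc_dec hn]

end CfsgLib.Sporadic.LargeFischer.Hexa
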