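import Mathlib

/-!
# Data: the orbit of size 378, and some isometries of it
-/

set_option autoImplicit false

namespace CfsgLib.Sporadic.LargeFischer.Hexa

/-- The orbit of size 378. -/
def oMask : ℕ := 531375912068763001377517375005131472414103859619088780351443740750383733191105188741563958091606112894709294371069833499512789048404075314556881375874379383460866335509943103527871718280490821874371782048292194461704590540398011831995760789774729060145557637167473474912751519077328792639028379635000340406395515374718820349877420922228258191447124753931954466005196699634640934722675139988117925323208060732365224799417697553905695544485781223397061885754610560483703792834616491437570286958247820530803562891464005074250192549935901736852619335226506162123395220937500908568073382502512772178912863669807079395016500983919132110113819535886988626350454726020379998321987757497598091272003841139359639843809843685348684947111777829590491121895750283239423076994531851863862162933122773813510383206968596801616098746403405123063018985980989112974579321496887649744893106791238110144537177683930947226209758215718057176546412724020218559620924265021849521389842680314419653727378509187271615697849996455602788178002407593304604888550339270194961348528739012025738292258144808770952128458404268231514917005543354595849729434583975279781483917045900422993552701433839153281546331028465322509550489302108297271657822167457948667440197344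

/-- The non-singular vectors. -/
def qMask : ℕ := 69833098014078659114366896330419275876584299032538887444480560597916162331106359185245254434189214052267362260968335202669773455568738255922761472462648523826402838238978997639000526260938784558229585717729724549608454125988110286753471315118016960982934760454568385948929942070278284381122485446600604096393655243128940394837117222958712977610105118253785307640411671111941885352947929336363191008279871592643942607616499054285760577444986771976652678487721649626585143916938157438797889757837804625326289698113862889123081508245426432445557458928030364127794253738705120267901989996383472498333040934924939113796030225518164552583698218928023133467022371070091183813521758955986112155997773150136753307008455372213963199512805298949389752180067096937692015199605908730626989563088627085588305063893495912450221201422373380547959415397288924979718832040242064401239883646421671077189346770807318171901397060145085138370845542795723734583513944279010224362244277445198151440043522725842482372817518586103690826667610473569403635304305980077343075694514436230756419652866301279831394290770689261001415538916837060623241846726802460935267725210023370617724783162488048147306509148245723229747028177975510486917939128654180431842840862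

/-- A basis of the hexacode over the field with two elements. -/
def wBasis : List ℕ := [2881, 3458, 3652, 1928, 1360, 2720]

/-- The unit vectors in terms of the hexacode and three more vectors. -/
def wCoef : List ℕ := [64, 128, 256, 512, 1024, 2048, 1365, 2730, 1950, 2535, 1755, 2925]

/-- Tests bounding the pointwise stabiliser of the hexacode. -/
def wTests : List (ℕ × List (ℕ × ℕ × ℕ)) := [(32, [(1, 56, 2), (1, 40, 1), (1, 32, 3), (1, 31, 3), (1, 32, 1), (1, 60, 3)]),
  (1, [(0, 229, 2), (0, 73, 2), (0, 224, 1), (1, 131, 2)]),
  (1, [(0, 341, 3), (0, 770, 1), (0, 742, 3)])]

end CfsgLib.Sporadic.LargeFischer.Hexa
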