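import Cfsg.Agent.Lib.Sporadic.LargeFischer.Hexa.Stab
import Cfsg.Agent.Lib.Sporadic.LargeFischer.Hexa.Elts

/-!
# The stabiliser of the hexacode in a standard model

The six lines of weight six of the hexacode give six transvections; the products of pairs form the pointwise
stabiliser of the hexacode in the model, an elementary abelian group of order sixteen.
-/

set_option autoImplicit false
set_option linter.unusedSectionVars false
set_option maxRecDepth 40000

namespace CfsgLib.Sporadic.LargeFischer.Hexa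

open CfsgLib.Sporadic.LargeFischer

/-- The vectors of the hexacode, by coefficients. -/
def wv (k : ℕ) : ℕ := lm wBasis k

theorem wBasis_lt : ∀ x ∈ wBasis, x < 2 ^ 12 := by decide +kernel

theorem wv_lt (k : ℕ) : wv k < 4096 := lm_lt (k := 12) wBasis k wBasis_lt

theorem wv_xor (a b : ℕ) : wv (a ^^^ b) = wv a ^^^ wv b := lm_xor _ a b

theorem wv_zero : wv 0 = 0 := lm_zero _

/-- Membership of the hexacode. -/
def InW (v : V6) : Prop := wMask.testBit (enc v) = true

theorem wMask_sub : ∀ n : Fin 4096, wMask.testBit n.1 = true → ∃ k < 64, wv k = n.1 := by decide +kernel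

theorem wMask_sup : ∀ k : Fin 64, wMask.testBit (wv k.1) = true := by decide +kernel

theorem inW_iff (v : V6) : InW v ↔ ∃ k < 64, v = dec (wv k) := by
  constructor
  · intro e
    obtain ⟨k, hk, ek⟩ := wMask_sub ⟨enc v, enc_lt v⟩ e
    exact ⟨k, hk, by rw [ek, dec_enc]⟩
  · rintro ⟨k, hk, rfl⟩
    show wMask.testBit _ = true
    rw [enc_dec (wv_lt k)]
    exact wMask_sup ⟨k, hk⟩

theorem wv_injective_fin : ∀ a b : Fin 64, wv a.1 = wv b.1 → a = b := by decide +kernel

theorem wv_inj {a b : ℕ} (ha : a < 64) (hb : b < 64) (e : dec (wv a) = dec (wv b)) : a = b :=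
  congrArg Fin.val (wv_injective_fin ⟨a, ha⟩ ⟨b, hb⟩ (by
    have := congrArg enc e
    rwa [enc_dec (wv_lt a), enc_dec (wv_lt b)] at this))

theorem dec_wv_xor (a b : ℕ) : dec (wv (a ^^^ b)) = dec (wv a) + dec (wv b) := by rw [wv_xor, dec_xor]

/-- A point of one of the six lines. -/
def line (i : Fin 6) : V6 := dec (lines6.getD i.1 0)

/-- The transvection at a line. -/
noncomputable def T (i : Fin 6) : V6 ≃ₗ[ZMod 2] V6 := Explicit.tv (line i)

theorem lines_ok : ∀ i : Fin 6, Explicit.inOb (line i) = true ∧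
    Explicit.herm (line i) (line i) = 0 := by decide +kernel

/-- The products of pairs, indexed by four bits. -/
noncomputable def Bel (u : ℕ) : V6 ≃ₗ[ZMod 2] V6 :=
  (if u.testBit 0 then T 0 * T 1 else 1) * (if u.testBit 1 then T 0 * T 2 else 1) *
    (if u.testBit 2 then T 0 * T 3 else 1) * (if u.testBit 3 then T 0 * T 4 else 1)

/-- The transvection, computed. -/
def tf (i : Fin 6) (v : V6) : V6 := Explicit.tvFun (line i) v

theorem T_apply (i : Fin 6) (v : V6) : T i v = tf i v := Explicit.tv_apply (lines_ok i).2 v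

/-- The product, computed. -/
def bf (u : ℕ) (v : V6) : V6 :=
  let v3 := if u.testBit 3 then tf 0 (tf 4 v) else v
  let v2 := if u.testBit 2 then tf 0 (tf 3 v3) else v3
  let v1 := if u.testBit 1 then tf 0 (tf 2 v2) else v2
  if u.testBit 0 then tf 0 (tf 1 v1) else v1

theorem Bel_apply (u : ℕ) (v : V6) : Bel u v = bf u v := by
  have e : ∀ (b : Bool) (i : Fin 6) (w : V6),
      (if b then T 0 * T i else 1 : V6 ≃ₗ[ZMod 2] V6) w = if b then tf 0 (tf i w) else w := by
    intro b i w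
    cases b
    · rfl
    · simp only [if_true, LinearEquiv.mul_apply, T_apply]
  simp only [Bel, bf, LinearEquiv.mul_apply, e]

/-- The list of a product. -/
def bL (u : ℕ) : List ℕ := buList.getD u []

theorem bu_ok : (List.range 16).all (fun u => (bL u).all (· < 4096) && (bL u).length == 12 &&
    (List.range 12).all fun i => enc (bf u (dec (2 ^ i))) == lm (bL u) (2 ^ i)) = true := by decide +kernel

theorem t0_ok : t0L.all (· < 4096) = true ∧
    (List.range 12).all (fun i => enc (tf 0 (dec (2 ^ i))) == lm t0L (2 ^ i)) = true := by decide +kernel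

theorem Bel_eq {u : ℕ} (hu : u < 16) (v : V6) : Bel u v = lmV (bL u) v := by
  have h := List.all_eq_true.1 bu_ok u (List.mem_range.2 hu)
  simp only [Bool.and_eq_true, List.all_eq_true, decide_eq_true_eq, List.mem_range, beq_iff_eq] at h
  refine ext12 _ _ (fun a b => (Bel u).map_add a b) (lmV_add _) (fun i hi => ?_) v
  have hp : 2 ^ i < 4096 := Nat.pow_lt_pow_right (by norm_num : 1 < 2) hi |>.trans_eq (by norm_num)
  rw [lmV, enc_dec hp, ← h.2 i hi, dec_enc, Bel_apply]

theorem Bel_dec {u n : ℕ} (hu : u < 16) (hn : n < 4096) : Bel u (dec n) = dec (lm (bL u) n) := by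
  rw [Bel_eq hu, lmV, enc_dec hn]

theorem T0_eq (v : V6) : T 0 v = lmV t0L v := by
  refine ext12 _ _ (fun a b => (T 0).map_add a b) (lmV_add _) (fun i hi => ?_) v
  have hp : 2 ^ i < 4096 := Nat.pow_lt_pow_right (by norm_num : 1 < 2) hi |>.trans_eq (by norm_num)
  have := beq_iff_eq.1 (List.all_eq_true.1 t0_ok.2 i (List.mem_range.2 hi))
  rw [lmV, enc_dec hp, ← this, dec_enc, T_apply]

theorem bu_table : (List.range 16).all (fun u => (List.range 16).all fun u' =>
    (List.range 12).all fun i => lm (bL u) (lm (bL u') (2 ^ i)) == lm (bL (u ^^^ u')) (2 ^ i)) = true := by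
  decide +kernel

theorem Bel_mul {u u' : ℕ} (hu : u < 16) (hu' : u' < 16) : Bel u * Bel u' = Bel (u ^^^ u') := by
  have hx : u ^^^ u' < 16 := Nat.xor_lt_two_pow (n := 4) hu hu'
  have hl : ∀ x ∈ bL u', x < 2 ^ 12 := by
    have h := List.all_eq_true.1 bu_ok u' (List.mem_range.2 hu')
    simp only [Bool.and_eq_true, List.all_eq_true, decide_eq_true_eq] at h
    exact h.1.1
  refine LinearEquiv.ext (ext12 _ _ (fun a b => (Bel u * Bel u').map_add a b)
    (fun a b => (Bel (u ^^^ u')).map_add a b) fun i hi => ?_)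
  have hp : 2 ^ i < 4096 := Nat.pow_lt_pow_right (by norm_num : 1 < 2) hi |>.trans_eq (by norm_num)
  show Bel u (Bel u' _) = Bel (u ^^^ u') _
  rw [Bel_dec hu' hp, Bel_dec hu (lm_lt (k := 12) _ _ hl), Bel_dec hx hp]
  exact congrArg dec (beq_iff_eq.1 (List.all_eq_true.1 (List.all_eq_true.1 (List.all_eq_true.1 bu_table u
    (List.mem_range.2 hu)) u' (List.mem_range.2 hu')) i (List.mem_range.2 hi)))

theorem Bel_zero : Bel 0 = 1 := by simp [Bel]

theorem bu_fix : ∀ u : Fin 16, ∀ k : Fin 64, lm (bL u.1) (wv k.1) = wv k.1 := by decide +kernel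

theorem Bel_fix {u k : ℕ} (hu : u < 16) (hk : k < 64) : Bel u (dec (wv k)) = dec (wv k) := by
  rw [Bel_dec hu (wv_lt k), bu_fix ⟨u, hu⟩ ⟨k, hk⟩]

theorem bu_distinct : ∀ u u' : Fin 16, (∀ i : Fin 12, lm (bL u.1) (2 ^ i.1) = lm (bL u'.1) (2 ^ i.1)) → u = u' := by
  decide +kernel

theorem bL_lt {u : ℕ} (hu : u < 16) : ∀ x ∈ bL u, x < 2 ^ 12 := by
  have h := List.all_eq_true.1 bu_ok u (List.mem_range.2 hu)
  simp only [Bool.and_eq_true, List.all_eq_true, decide_eq_true_eq] at h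
  exact h.1.1

theorem Bel_inj {u u' : ℕ} (hu : u < 16) (hu' : u' < 16) (e : Bel u = Bel u') : u = u' := by
  refine congrArg Fin.val (bu_distinct ⟨u, hu⟩ ⟨u', hu'⟩ fun i => ?_)
  have hp : 2 ^ i.1 < 4096 := Nat.pow_lt_pow_right (by norm_num : 1 < 2) i.2 |>.trans_eq (by norm_num)
  have := congrArg enc (LinearEquiv.congr_fun e (dec (2 ^ i.1)))
  rwa [Bel_dec hu hp, Bel_dec hu' hp, enc_dec (lm_lt (k := 12) _ _ (bL_lt hu)),
    enc_dec (lm_lt (k := 12) _ _ (bL_lt hu'))] at this

/-- The monomial map of an entry of the table. -/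
def gL (j : Fin 2) : List ℕ × List ℕ := ((genList.getD j.1 ([], [], [], [])).2.2.1, (genList.getD j.1 ([], [], [], [])).2.2.2)

theorem gL_ok : ∀ j : Fin 2, okPair (gL j).1 (gL j).2 = true := by decide +kernel

/-- The two monomial maps. -/
def gen (j : Fin 2) : V6 ≃ₗ[ZMod 2] V6 := mkE _ _ (okPair_spec (gL_ok j))

theorem gen_dec (j : Fin 2) {n : ℕ} (hn : n < 4096) : gen j (dec n) = dec (lm (gL j).1 n) := mkE_dec _ _ _ hn

theorem genAct_ok : ∀ j : Fin 2, ∀ u : Fin 16, (genAct.getD j.1 []).getD u.1 0 < 16 ∧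
    ∀ i : Fin 12, lm (gL j).1 (lm (bL u.1) (2 ^ i.1)) =
      lm (bL ((genAct.getD j.1 []).getD u.1 0)) (lm (gL j).1 (2 ^ i.1)) := by decide +kernel

/-- The action of a monomial map on the products. -/
def gu (j : Fin 2) (u : ℕ) : ℕ := (genAct.getD j.1 []).getD u 0

theorem gu_lt (j : Fin 2) {u : ℕ} (hu : u < 16) : gu j u < 16 := (genAct_ok j ⟨u, hu⟩).1

theorem gL_lt (j : Fin 2) : ∀ x ∈ (gL j).1, x < 2 ^ 12 := (okPair_spec (gL_ok j)).2.1

theorem gen_conj (j : Fin 2) {u : ℕ} (hu : u < 16) : gen j * Bel u = Bel (gu j u) * gen j := by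
  refine LinearEquiv.ext (ext12 _ _ (fun a b => (gen j * Bel u).map_add a b)
    (fun a b => (Bel (gu j u) * gen j).map_add a b) fun i hi => ?_)
  have hp : 2 ^ i < 4096 := Nat.pow_lt_pow_right (by norm_num : 1 < 2) hi |>.trans_eq (by norm_num)
  show gen j (Bel u _) = Bel (gu j u) (gen j _)
  rw [Bel_dec hu hp, gen_dec j (lm_lt (k := 12) _ _ (bL_lt hu)), gen_dec j hp,
    Bel_dec (gu_lt j hu) (lm_lt (k := 12) _ _ (gL_lt j))]
  exact congrArg dec ((genAct_ok j ⟨u, hu⟩).2 ⟨i, hi⟩)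

/-- The action of a monomial map on the coefficients. -/
def gk (j : Fin 2) (k : ℕ) : ℕ := lm (genK.getD j.1 []) k

theorem genK_ok : ∀ j : Fin 2, ∀ k : Fin 64, gk j k.1 < 64 ∧ lm (gL j).1 (wv k.1) = wv (gk j k.1) := by
  decide +kernel

theorem gen_wv (j : Fin 2) {k : ℕ} (hk : k < 64) : gk j k < 64 ∧ gen j (dec (wv k)) = dec (wv (gk j k)) := by
  rw [gen_dec j (wv_lt k), (genK_ok j ⟨k, hk⟩).2]
  exact ⟨(genK_ok j ⟨k, hk⟩).1, rfl⟩

/-- The action of the scalar on the coefficients. -/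
def ok (k : ℕ) : ℕ := lm omK k

theorem omK_ok : ∀ k : Fin 64, ok k.1 < 64 ∧ omc (wv k.1) = wv (ok k.1) := by decide +kernel

theorem omV_wv {k : ℕ} (hk : k < 64) : ok k < 64 ∧ omV (dec (wv k)) = dec (wv (ok k)) := by
  rw [omV_dec (wv_lt k), (omK_ok ⟨k, hk⟩).2]
  exact ⟨(omK_ok ⟨k, hk⟩).1, rfl⟩

theorem wBasis_eq : ∀ i, i < 6 → wBasis.getD i 0 = wv (2 ^ i) := by decide +kernel

theorem singular_all : (List.range 64).all (fun a => (List.range 64).all fun b =>
    !Qb (wv a ^^^ wv b) && !Qb (omc (wv a) ^^^ wv b)) = true := by decide +kernel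

theorem bs_wv {a b : ℕ} (ha : a < 64) (hb : b < 64) :
    bs (dec (wv a)) (dec (wv b)) = 0 ∧ qs (dec (wv a)) = 0 ∧ bs (dec (wv b)) (omV (dec (wv a))) = 0 := by
  have q0 : ∀ n, n < 4096 → Qb n = false → qs (dec n) = 0 := fun n hn e => by
    rcases (by decide : ∀ c : ZMod 2, c = 0 ∨ c = 1) (qs (dec n)) with e1 | e1
    · exact e1
    · rw [← Qb_iff, enc_dec hn, e] at e1; exact absurd e1 (by decide)
  have key : ∀ a, a < 64 → ∀ b, b < 64 → Qb (wv a ^^^ wv b) = false ∧ Qb (omc (wv a) ^^^ wv b) = false := by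
    intro a ha b hb
    have := List.all_eq_true.1 (List.all_eq_true.1 singular_all a (List.mem_range.2 ha)) b (List.mem_range.2 hb)
    simpa only [Bool.and_eq_true, Bool.not_eq_true'] using this
  have hq : ∀ a, a < 64 → qs (dec (wv a)) = 0 := fun a ha => by
    have := (key a ha 0 (by norm_num)).1
    rw [wv_zero, Nat.xor_zero] at this
    exact q0 _ (wv_lt a) this
  refine ⟨?_, hq a ha, ?_⟩
  · show qs (dec (wv a) + dec (wv b)) + qs (dec (wv a)) + qs (dec (wv b)) = 0
    rw [hq a ha, hq b hb, ← dec_xor, q0 _ (Nat.xor_lt_two_pow (n := 12) (wv_lt a) (wv_lt b)) (key a ha b hb).1]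
    rfl
  · obtain ⟨hk, e⟩ := omV_wv ha
    show qs (dec (wv b) + omV (dec (wv a))) + qs (dec (wv b)) + qs (omV (dec (wv a))) = 0
    rw [qs_omV, hq a ha, hq b hb, omV_dec (wv_lt a), ← dec_xor, Nat.xor_comm,
      q0 _ (Nat.xor_lt_two_pow (n := 12) (omc_lt (wv_lt a)) (wv_lt b)) (key a ha b hb).2]
    rfl

theorem perp_all : (List.range 4096).all (fun n => wMask.testBit n ||
    (List.range 6).any fun i => (Qb (n ^^^ wv (2 ^ i)) != Qb n)) = true := by decide +kernel

theorem inW_of_perp {v : V6} (h : ∀ k, k < 64 → bs v (dec (wv k)) = 0) : InW v := by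
  by_contra hW
  have e := List.all_eq_true.1 perp_all (enc v) (List.mem_range.2 (enc_lt v))
  rw [Bool.or_eq_true, List.any_eq_true] at e
  obtain ⟨i, hi, hne⟩ := e.resolve_left hW
  have h2 : 2 ^ i < 64 := Nat.pow_lt_pow_right (by norm_num : 1 < 2) (List.mem_range.1 hi) |>.trans_eq (by norm_num)
  rw [bne_iff_ne] at hne
  refine hne (Bool.eq_iff_iff.2 ?_)
  have h0 := h _ h2
  have hq : qs (v + dec (wv (2 ^ i))) = qs v := by
    have : qs (v + dec (wv (2 ^ i))) + qs v + qs (dec (wv (2 ^ i))) = 0 := h0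
    rw [(bs_wv h2 h2).2.1, add_zero] at this
    exact CharTwo.add_eq_zero.1 this
  rw [show enc v ^^^ wv (2 ^ i) = enc (v + dec (wv (2 ^ i))) by rw [enc_add, enc_dec (wv_lt _)], Qb_iff, Qb_iff, hq]

end CfsgLib.Sporadic.LargeFischer.Hexa
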