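import Cfsg.Agent.Lib.Sporadic.LargeFischer.Hexa.Elements

/-!
# The elements lie in the model
-/

set_option autoImplicit false
set_option linter.unusedSectionVars false
set_option maxRecDepth 40000

namespace CfsgLib.Sporadic.LargeFischer.Hexa

open CfsgLib.Sporadic.LargeFischer

/-- The permutation of a table entry, as a function. -/
def gp (j : Fin 2) (i : Fin 6) : Fin 6 := ⟨((genList.getD j.1 ([], [], [], [])).1.getD i.1 0) % 6, Nat.mod_lt _ (by norm_num)⟩

theorem gp_bij : ∀ j : Fin 2, Function.Bijective (gp j) := by decide +kernel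

/-- The permutation. -/
def gpE (j : Fin 2) : Equiv.Perm (Fin 6) where
  toFun := gp j
  invFun := Fintype.bijInv (gp_bij j)
  left_inv := Fintype.leftInverse_bijInv _
  right_inv := Fintype.rightInverse_bijInv _

/-- The phases after the permutation. -/
def gphase (j : Fin 2) (i : Fin 6) : ZMod 3 := ((genList.getD j.1 ([], [], [], [])).2.1.getD i.1 0 : ℕ)

theorem gsign_one : ∀ j : Fin 2, Equiv.Perm.sign (gpE j) = 1 := by decide +kernel

theorem gsign (j : Fin 2) : ∃ p ∈ alternatingGroup (Fin 6), ∀ i, p i = gp j i :=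
  ⟨gpE j, gsign_one j, fun _ => rfl⟩

theorem gphase_sum : ∀ j : Fin 2, ∑ i, gphase j i = 0 := by decide +kernel

theorem gen_formula : ∀ j : Fin 2, ∀ k : Fin 12, ∀ i : Fin 6,
    dec (lm (gL j).1 (2 ^ k.1)) (gp j i) = omp (gphase j i) (dec (2 ^ k.1) i) := by decide +kernel

section

variable {K : Subgroup (V6 ≃ₗ[ZMod 2] V6)} (h : Explicit.Std K)
include h

theorem gen_mem (j : Fin 2) : gen j ∈ K := by
  obtain ⟨p, hp, hpi⟩ := gsign j
  obtain ⟨g, hg, hgv⟩ := h.model.perm p hp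
  obtain ⟨d, hd, hdv⟩ := h.model.diag (fun i => gphase j (p.symm i))
    (by rw [Equiv.sum_comp p.symm (gphase j)]; exact gphase_sum j)
  convert mul_mem hd hg using 1
  refine LinearEquiv.ext (ext12 _ _ (fun a b => (gen j).map_add a b) (fun a b => (d * g).map_add a b) fun k hk => ?_)
  have hp' : 2 ^ k < 4096 := Nat.pow_lt_pow_right (by norm_num : 1 < 2) hk |>.trans_eq (by norm_num)
  funext i
  obtain ⟨i, rfl⟩ := p.surjective i
  show _ = d (g (dec (2 ^ k))) (p i)
  rw [hdv, hgv, p.symm_apply_apply, gen_dec j hp', hpi]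
  exact gen_formula j ⟨k, hk⟩ i

theorem gen_lin (j : Fin 2) : ∀ v, gen j (omV v) = omV (gen j v) := by
  refine ext12 _ _ (fun a b => by rw [omV_add, map_add]) (fun a b => by rw [map_add, omV_add]) fun k hk => ?_
  have hp' : 2 ^ k < 4096 := Nat.pow_lt_pow_right (by norm_num : 1 < 2) hk |>.trans_eq (by norm_num)
  rw [omV_dec hp', gen_dec j (omc_lt hp'), gen_dec j hp', omV_dec (lm_lt (k := 12) _ _ (gL_lt j))]
  exact congrArg dec ((by decide +kernel : ∀ j : Fin 2, ∀ k : Fin 12,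
    lm (gL j).1 (omc (2 ^ k.1)) = omc (lm (gL j).1 (2 ^ k.1))) j ⟨k, hk⟩)

theorem pair_mem (i : Fin 6) : T 0 * T i ∈ K := h.tv_mul_mem (lines_ok 0).1 (lines_ok i).1

theorem Bel_mem (u : ℕ) : Bel u ∈ K := by
  have key : ∀ (b : Bool) (i : Fin 6), (if b then T 0 * T i else 1 : V6 ≃ₗ[ZMod 2] V6) ∈ K := fun b i => by
    cases b
    · exact one_mem _
    · exact pair_mem h i
  exact mul_mem (mul_mem (mul_mem (key _ 1) (key _ 2)) (key _ 3)) (key _ 4)

theorem Bel_lin (u : ℕ) : ∀ v, Bel u (omV v) = omV (Bel u v) := by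
  have key : ∀ (b : Bool) (i : Fin 6), Explicit.Lin (if b then T 0 * T i else 1 : V6 ≃ₗ[ZMod 2] V6) := fun b i => by
    cases b
    · exact Explicit.Lin.one
    · exact (Explicit.lin_tv _).mul (Explicit.lin_tv _)
  exact (((key _ 1).mul (key _ 2)).mul (key _ 3)).mul (key _ 4)

theorem le_SSub : K ≤ SSub := fun g hg => ⟨h.model.quad g hg, fun v => by
  rw [InO, InO, ← Explicit.inOb_spec, ← Explicit.inOb_spec, h.inOb_map hg], h.model.scal g hg⟩

variable (hs : ¬ ∀ g ∈ K, Explicit.Lin g)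
include hs

theorem T_not_mem (i : Fin 6) : T i ∉ K := fun e => by
  obtain ⟨g, hg, eg⟩ := h.exists_mem (lines_ok i).1
  refine h.tv_not_mem hs ?_
  have h1 : g * Explicit.tv c2 * g⁻¹ ∈ K := by rw [h.tv_eq_conj hg eg]; exact e
  simpa [mul_assoc] using mul_mem (mul_mem (inv_mem hg) h1) hg

/-- The chain bounding the pointwise stabiliser. -/
def wChain : List (ℕ × ℕ × List (ℕ × ℕ × ℕ)) := List.zipWith (fun b e => (b, e.1, e.2)) [1, 4, 16] wTests

omit h hs in
theorem wChain_ok : chainOK wBasis wChain [] = true ∧ (wChain.map fun e => e.2.1).prod = 32 ∧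
    ∀ i, i < 12 → lm (wBasis ++ dbl (wChain.map fun e => e.1).reverse) (wCoef.getD i 0) = 2 ^ i := by
  decide +kernel

omit h hs in
theorem wCoef_order : wBasis ++ dbl ([1, 4, 16] : List ℕ).reverse = wBasis ++ [1, omc 1, 4, omc 4, 16, omc 16] := by
  decide +kernel

/-- The pointwise stabiliser. -/
theorem stab_W {g : V6 ≃ₗ[ZMod 2] V6} (hg : g ∈ K) (hfix : ∀ k, k < 64 → g (dec (wv k)) = dec (wv k)) :
    ∃ u < 16, g = Bel u := by
  classical
  haveI := finite_equiv
  have hlin : ∀ v, g (omV v) = omV (g v) := by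
    refine (h.model.scal g hg).resolve_right fun e => ?_
    have e1 := e (dec (wv 1))
    obtain ⟨hk, ek⟩ := omV_wv (by norm_num : 1 < 64)
    rw [hfix 1 (by norm_num), ek, hfix _ hk, ← ek] at e1
    have e2 : dec (wv 1) = 0 := funext fun i => by
      have := congrFun e1 i
      change om _ = om (om _) at this
      show _ = (0 : D4)
      revert this
      generalize dec (wv 1) i = d
      revert d; decide
    exact absurd (congrArg enc e2) (by decide +kernel)
  set H : Subgroup (V6 ≃ₗ[ZMod 2] V6) :=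
    { carrier := {g | g ∈ LSub ∧ ∀ x ∈ wBasis, g (dec x) = dec x}
      one_mem' := ⟨one_mem _, fun _ _ => rfl⟩
      mul_mem' := fun {a b} ha hb => ⟨mul_mem ha.1 hb.1, fun x hx => by
        show a (b _) = _
        rw [hb.2 x hx, ha.2 x hx]⟩
      inv_mem' := fun {a} ha => ⟨inv_mem ha.1, fun x hx => by
        show a.symm _ = _
        rw [a.symm_apply_eq, ha.2 x hx]⟩ } with hH
  have hmem : ∀ {a : V6 ≃ₗ[ZMod 2] V6}, a ∈ H ↔ a ∈ LSub ∧ ∀ x ∈ wBasis, a (dec x) = dec x := Iff.rfl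
  have hwb : ∀ x ∈ wBasis, ∃ k < 64, x = wv k := by decide +kernel
  have hb := chain_bound H (fun a ha => ha.1) wBasis (fun a ha => ha.2) wChain [] (fun x hx => by simp at hx)
    wChain_ok.1
  rw [wChain_ok.2.1, List.append_nil] at hb
  have hHle : H ≤ LSub := fun c hc => (hmem.1 hc).1
  have hone : fixList H (wChain.map fun e => e.1).reverse = ⊥ := by
    rw [Subgroup.eq_bot_iff_forall]
    intro a ha
    refine eq_one_of_fix _ _ (fun x hx => ?_) wChain_ok.2.2
    rcases List.mem_append.1 hx with e | e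
    · exact (fixList_le H _ ha).2 x e
    · exact dbl_spec hHle (by decide +kernel) a ha x e
  rw [hone, Subgroup.card_bot, mul_one] at hb
  have hin : ∀ {a : V6 ≃ₗ[ZMod 2] V6}, a ∈ SSub → (∀ v, a (omV v) = omV (a v)) →
      (∀ k, k < 64 → a (dec (wv k)) = dec (wv k)) → a ∈ H := fun ha hl hf =>
    hmem.2 ⟨⟨ha, hl⟩, fun x hx => by obtain ⟨k, hk, rfl⟩ := hwb x hx; exact hf k hk⟩
  have hT : T 0 ∈ LSub := mem_AL_iff.1 (h.tv_mem _ (lines_ok 0).1)
  have hTfix : ∀ k, k < 64 → T 0 (dec (wv k)) = dec (wv k) := fun k hk => by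
    rw [T0_eq, lmV, enc_dec (wv_lt k),
      (by decide +kernel : ∀ k : Fin 64, lm t0L (wv k.1) = wv k.1) ⟨k, hk⟩]
  let f : Fin 16 × Bool → H := fun p =>
    if p.2 then ⟨Bel p.1.1 * T 0, mul_mem (hin (le_SSub h (Bel_mem h _)) (Bel_lin h _) fun k hk => Bel_fix p.1.2 hk)
      (hin hT.1 hT.2 hTfix)⟩
    else ⟨Bel p.1.1, hin (le_SSub h (Bel_mem h _)) (Bel_lin h _) fun k hk => Bel_fix p.1.2 hk⟩
  have hf : Function.Injective f := by
    rintro ⟨u, b⟩ ⟨u', b'⟩ e
    have e' := congrArg Subtype.val e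
    have hTK := T_not_mem h hs 0
    cases b <;> cases b' <;> simp only [f, if_true, Bool.false_eq_true, if_false] at e'
    · exact Prod.ext (Fin.ext (Bel_inj u.2 u'.2 e')) rfl
    · exact absurd (by simpa [e'] using mul_mem (inv_mem (Bel_mem h u'.1)) (Bel_mem h u.1) : T 0 ∈ K) hTK
    · exact absurd (by simpa [← e'] using mul_mem (inv_mem (Bel_mem h u.1)) (Bel_mem h u'.1) : T 0 ∈ K) hTK
    · exact Prod.ext (Fin.ext (Bel_inj u.2 u'.2 (mul_right_cancel e'))) rfl
  have hbij : Function.Bijective f := by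
    haveI : Finite H := inferInstance
    refine hf.bijective_of_nat_card_le ?_
    rw [Nat.card_eq_fintype_card (α := Fin 16 × Bool)]
    simpa [fixList] using hb
  obtain ⟨⟨u, b⟩, e⟩ := hbij.2 ⟨g, hin (le_SSub h hg) hlin hfix⟩
  have e' := congrArg Subtype.val e
  cases b <;> simp only [f, if_true, Bool.false_eq_true, if_false] at e'
  · exact ⟨u, u.2, e'.symm⟩
  · exact absurd (by simpa [← e'] using mul_mem (inv_mem (Bel_mem h u.1)) hg : T 0 ∈ K) (T_not_mem h hs 0)

end

/-- The two semilinear maps. -/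
def tauPair (b : Fin 2) : List ℕ × List ℕ := tauList.getD b.1 ([], [])

theorem tau_ok : ∀ b : Fin 2, okPair (tauPair b).1 (tauPair b).2 = true := by decide +kernel

/-- The semilinear maps. -/
def tau (b : Fin 2) : V6 ≃ₗ[ZMod 2] V6 := mkE _ _ (okPair_spec (tau_ok b))

/-- The action on the coefficients. -/
def tk (b : Fin 2) (k : ℕ) : ℕ := lm (tauK.getD b.1 []) k

theorem tau_dec (b : Fin 2) {n : ℕ} (hn : n < 4096) : tau b (dec n) = dec (lm (tauPair b).1 n) := mkE_dec _ _ _ hn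

theorem tau_facts : ∀ b : Fin 2, (∀ k : Fin 12, lm (tauPair b).1 (omc (2 ^ k.1)) = omc (omc (lm (tauPair b).1 (2 ^ k.1)))) ∧
    (∀ k : Fin 64, tk b k.1 < 64 ∧ lm (tauPair b).1 (wv k.1) = wv (tk b k.1)) := by decide +kernel

theorem tau_masks : (List.range 4096).all (fun n => Ob (lm (tauPair 0).1 n) == Ob n &&
    Qb (lm (tauPair 0).1 n) == Qb n) = true := by decide +kernel

theorem tau_one : ∀ i : Fin 12, lm (tauPair 1).1 (2 ^ i.1) = lm (tauPair 0).1 (lm t0L (2 ^ i.1)) := by decide +kernel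

theorem tau_anti (b : Fin 2) : ∀ v, tau b (omV v) = omV (omV (tau b v)) := by
  refine ext12 _ _ (fun a c => by rw [omV_add, map_add]) (fun a c => by rw [map_add, omV_add, omV_add]) fun k hk => ?_
  have hp' : 2 ^ k < 4096 := Nat.pow_lt_pow_right (by norm_num : 1 < 2) hk |>.trans_eq (by norm_num)
  have hl := lm_lt (k := 12) _ (2 ^ k) (okPair_spec (tau_ok b)).2.1
  rw [omV_dec hp', tau_dec b (omc_lt hp'), tau_dec b hp', omV_dec hl, omV_dec (omc_lt hl)]
  exact congrArg dec ((tau_facts b).1 ⟨k, hk⟩)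

section

variable {K : Subgroup (V6 ≃ₗ[ZMod 2] V6)} (h : Explicit.Std K) (hs : ¬ ∀ g ∈ K, Explicit.Lin g)
include h hs

set_option maxHeartbeats 1000000 in
/-- A semilinear element stabilising the hexacode. -/
theorem exists_tau : ∃ b : Fin 2, tau b ∈ K := by
  haveI := finite_equiv
  have hKS := le_SSub h
  have hidx : (K.subgroupOf SSub).index ≤ 2 := by
    have e := (K.subgroupOf SSub).card_mul_index
    rw [Nat.card_congr (Subgroup.subgroupOfEquivOfLe hKS).toEquiv, h.model.card] at e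
    have hS := card_SSub h
    generalize (K.subgroupOf SSub).index = i at e ⊢
    generalize Nat.card ↥SSub = n at e hS
    omega
  have h0 : InS (tau 0) := by
    have key : ∀ v, Ob (enc (tau 0 v)) = Ob (enc v) ∧ Qb (enc (tau 0 v)) = Qb (enc v) := fun v => by
      have := List.all_eq_true.1 tau_masks (enc v) (List.mem_range.2 (enc_lt v))
      rw [Bool.and_eq_true, beq_iff_eq, beq_iff_eq] at this
      rw [← dec_enc v, tau_dec 0 (enc_lt v), enc_dec (lm_lt (k := 12) _ _ (okPair_spec (tau_ok 0)).2.1), enc_dec (enc_lt v)]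
      exact this
    refine ⟨fun v => ?_, fun v => ?_, Or.inr (tau_anti 0)⟩
    · rcases (by decide : ∀ a b : ZMod 2, a = b ∨ (a = 1 ∧ b = 0) ∨ (a = 0 ∧ b = 1)) (qs (tau 0 v)) (qs v) with e | ⟨e, e'⟩ | ⟨e, e'⟩
      · exact e
      · rw [← Qb_iff, (key v).2, Qb_iff, e'] at e; exact absurd e (by decide)
      · rw [← Qb_iff, ← (key v).2, Qb_iff, e] at e'; exact absurd e' (by decide)
    · rw [← Ob_iff, ← Ob_iff, (key v).1]
  have hT : InS (T 0) := (mem_AL_iff.1 (h.tv_mem _ (lines_ok 0).1)).1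
  have e1 : tau 1 = tau 0 * T 0 := LinearEquiv.ext (ext12 _ _ (fun a c => (tau 1).map_add a c)
    (fun a c => (tau 0 * T 0).map_add a c) fun i hi => by
      have hp' : 2 ^ i < 4096 := Nat.pow_lt_pow_right (by norm_num : 1 < 2) hi |>.trans_eq (by norm_num)
      show tau 1 _ = tau 0 (T 0 _)
      rw [T0_eq, lmV, enc_dec hp', tau_dec 1 hp', tau_dec 0 (lm_lt (k := 12) _ _ (by decide +kernel))]
      exact congrArg dec (tau_one ⟨i, hi⟩))
  by_contra hc
  push Not at hc
  have hne : (K.subgroupOf SSub).index ≠ 1 := fun e => by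
    rw [Subgroup.index_eq_one, Subgroup.subgroupOf_eq_top] at e
    exact hc 0 (e (mem_SSub.2 h0))
  have h2 : (K.subgroupOf SSub).index = 2 := by
    have := Subgroup.index_ne_zero_of_finite (H := K.subgroupOf SSub)
    omega
  have hmul := Subgroup.mul_mem_iff_of_index_two h2 (a := (⟨tau 0, mem_SSub.2 h0⟩ : SSub)) (b := ⟨T 0, mem_SSub.2 hT⟩)
  have n0 : (⟨tau 0, mem_SSub.2 h0⟩ : SSub) ∉ K.subgroupOf SSub := fun e => hc 0 (Subgroup.mem_subgroupOf.1 e)
  have nT : (⟨T 0, mem_SSub.2 hT⟩ : SSub) ∉ K.subgroupOf SSub := fun e => T_not_mem h hs 0 (Subgroup.mem_subgroupOf.1 e)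
  have hin := Subgroup.mem_subgroupOf.1 (hmul.2 ⟨fun e => absurd e n0, fun e => absurd e nT⟩)
  refine hc 1 ?_
  rw [e1]
  exact hin

end

end CfsgLib.Sporadic.LargeFischer.Hexa
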