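import Cfsg.Agent.Lib.Sporadic.LargeFischer.Hexa.Model

/-!
# Which sign vectors are possible
-/

set_option autoImplicit false
set_option maxRecDepth 40000

namespace CfsgLib.Sporadic.LargeFischer.Hexa

/-- The positions of the free signs. -/
def freePos : List ℕ := [3, 5, 6, 7, 9, 10, 11, 12, 13, 14, 15]

/-- A sign vector from its bits. -/
def sT0 (t u : ℕ) : Bool := freePos.contains u && t.testBit (freePos.idxOf u)

/-- The central change forced on the basis. -/
def lsum (s : ℕ → Bool) (j : Fin 2) (u : ℕ) : Bool :=
  ((u.testBit 0 && s (gu j 1)) ^^ (u.testBit 1 && s (gu j 2))) ^^ ((u.testBit 2 && s (gu j 4)) ^^ (u.testBit 3 && s (gu j 8)))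

/-- The invariance equations. -/
def sEq (s : ℕ → Bool) : Bool :=
  (List.range 2).all fun j => (List.range 16).all fun u =>
    (s (gu (Fin.ofNat 2 j) u) ^^ s u) == lsum s (Fin.ofNat 2 j) u

/-- The bits of the candidates. -/
def sCands : List ℕ := (List.range 2048).filter fun t => sEq (sT0 t)

/-- The elements of the small class. -/
def dList (s : ℕ → Bool) : List ℕ := (List.range 2048).filter (inD s)

/-- The number of companions. -/
def nComp (s : ℕ → Bool) (n : ℕ) : ℕ := (dList s).countP fun m => inD s (n ^^^ m)

theorem signs_unique : sCands.all (fun t =>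
    (List.range 16).all (fun u => sT0 t u == sgnB u) || !(nComp (sT0 t) 1 == nComp (sT0 t) (wtSix * 32))) = true := by
  decide +kernel

theorem inD_facts : inD sgnB 1 = true ∧ inD sgnB (wtSix * 32) = true ∧
    (List.range 16).all (fun u => u == 0 || inD sgnB (u + 16 * (if sgnB u then 1 else 0))) = true ∧
    sgnB 0 = false := by decide +kernel

theorem inD_congr {s s' : ℕ → Bool} (h : ∀ u, u < 16 → s u = s' u) (n : ℕ) : inD s n = inD s' n := by
  unfold inD
  rw [h _ (Nat.mod_lt _ (by norm_num))]

theorem nComp_congr {s s' : ℕ → Bool} (h : ∀ u, u < 16 → s u = s' u) (n : ℕ) : nComp s n = nComp s' n := by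
  unfold nComp dList
  rw [funext (inD_congr h)]

end CfsgLib.Sporadic.LargeFischer.Hexa
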