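import Cfsg.Agent.Lib.Sporadic.LargeFischer.Hexa.Classes
import Cfsg.Agent.Lib.Sporadic.LargeFischer.Hexa.SignData

/-!
# Normalised lifts; the class of 276 involutions and the transitivity on it
-/

set_option autoImplicit false
set_option linter.style.haveILetI false
set_option linter.unusedSectionVars false
set_option maxRecDepth 40000

namespace CfsgLib.Sporadic.LargeFischer.Hexa

open CfsgLib.Sporadic.LargeFischer CfsgLib.ThreeTransp.Extraspecial

/-- The lifts and the small class in their standard form. -/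
structure Normal {G : Type*} [Group G] [Finite G] {z : G} {Q : Subgroup (Subgroup.centralizer ({z} : Set G))}
    {π : G → V6} {ψ : ↥(Subgroup.centralizer ({z} : Set G)) →* (V6 ≃ₗ[ZMod 2] V6)}
    {x : ↥(Subgroup.centralizer ({z} : Set G))} [Q.Normal] (F : Frame z Q π ψ x)
    {c : Fin 4 → ↥(Subgroup.centralizer ({z} : Set G))} (L : Lifts ψ x c) : Prop where
  small : ∀ n, n < 2048 → (¬ IsConj z (F.el L n) ↔ n = 0 ∨ inD sgnB n = true)
  trans : ∀ n m, n < 2048 → m < 2048 → inD sgnB n = true → inD sgnB m = true →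
    ∃ g ∈ Subgroup.normalizer (F.asub L : Set G), g * F.el L n * g⁻¹ = F.el L m

namespace Frame

variable {G : Type*} [Group G] [Finite G] {z : G} {Q : Subgroup (Subgroup.centralizer ({z} : Set G))} [Q.Normal]
  {π : G → V6} {ψ : ↥(Subgroup.centralizer ({z} : Set G)) →* (V6 ≃ₗ[ZMod 2] V6)}
  {x : ↥(Subgroup.centralizer ({z} : Set G))} (F : Frame z Q π ψ x)
  {c : Fin 4 → ↥(Subgroup.centralizer ({z} : Set G))} (L : Lifts ψ x c)
include F

omit F in
theorem cpr_single {M : Type*} [MulOneClass M] (c : Fin 4 → M) (i : Fin 4) : cpr c (2 ^ i.1) = c i := by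
  fin_cases i <;> simp [cpr, Nat.testBit]

omit F in
theorem two_pow_lt (i : Fin 4) : 2 ^ i.1 < 16 ∧ (2 : ℕ) ^ i.1 ≠ 0 := by fin_cases i <;> decide

include L

/-- The signs. -/
noncomputable def sg (u : ℕ) : Bool := if u = 0 then false else F.cl L (rep 0 u)

theorem cl_small (hU : UniqAb G) {u : ℕ} (hu : u < 16) (hu0 : u ≠ 0) :
    F.cl L (rep 0 u) = F.sg L u ∧ F.cl L (rep 1 u) = !F.sg L u ∧ F.cl L (rep 2 u) = true := by
  obtain ⟨h1, h2⟩ := F.counting L hU
  obtain ⟨hb, hs⟩ := F.const_all L hu hu0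
  rw [h1] at hs
  refine ⟨by rw [sg, if_neg hu0], ?_, hb.trans h2⟩
  rw [sg, if_neg hu0]
  unfold sig at hs
  cases e0 : F.cl L (rep 0 u) <;> cases e1 : F.cl L (rep 1 u) <;> simp_all

theorem cl_eq (hU : UniqAb G) {n : ℕ} (hn : n < 2048) :
    F.cl L n = (!(n == 0) && !inD (F.sg L) n) := by
  have e : n = n % 16 + 16 * (n / 16) := (Nat.mod_add_div n 16).symm
  by_cases hu : n % 16 = 0
  · have hn' : n = 16 * (n / 16) := by omega
    rw [inD, if_pos (beq_iff_eq.2 hu)]
    conv_lhs => rw [hn']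
    rw [F.cl_base L (by omega)]
    obtain ⟨f0, f1⟩ := count_base.2.2 ⟨n / 16, by omega⟩
    have h := List.all_eq_true.1 brows_ok (n / 16) (List.mem_range.2 (by omega))
    simp only [browOK, Bool.and_eq_true, decide_eq_true_eq] at h
    have h4 := h.1.1
    have hz : (n == 0) = decide (tyB (n / 16) = 0) := by
      rw [Bool.eq_iff_iff, beq_iff_eq, decide_eq_true_eq, show tyB (n / 16) = 0 ↔ n / 16 = 0 from f0]
      omega
    rw [hz]
    rcases (by omega : tyB (n / 16) = 0 ∨ tyB (n / 16) = 1 ∨ tyB (n / 16) = 2 ∨ tyB (n / 16) = 3) with e' | e' | e' | e' <;>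
      simp [e']
  · have hz : (n == 0) = false := beq_eq_false_iff_ne.2 fun h => hu (by rw [h])
    rw [inD, if_neg (by simpa using hu), hz, Bool.not_false, Bool.true_and]
    conv_lhs => rw [e]
    rw [F.cl_coset L (Nat.mod_lt _ (by norm_num)) hu (by omega)]
    obtain ⟨a0, a1, a2⟩ := F.cl_small L hU (Nat.mod_lt n (by norm_num)) hu
    rw [a0, a1, a2]
    have h3 : tyC (n % 16) (n / 16) < 3 := by
      have h := List.all_eq_true.1 crows_ok (n % 16) (List.mem_range.2 (Nat.mod_lt _ (by norm_num)))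
      simp only [Bool.or_eq_true, beq_iff_eq, hu, false_or, List.all_eq_true, List.mem_range] at h
      have h := h (n / 16) (by omega)
      simp only [crowOK, Bool.and_eq_true, decide_eq_true_eq] at h
      exact h.1.1.1
    rcases (by omega : tyC (n % 16) (n / 16) = 0 ∨ tyC (n % 16) (n / 16) = 1 ∨ tyC (n % 16) (n / 16) = 2) with e' | e' | e' <;>
      simp [e']

theorem mkc_small (hU : UniqAb G) {u : ℕ} (hu : u < 16) (hu0 : u ≠ 0) (b : Bool) :
    F.cl L (mkc u b 0) = (F.sg L u ^^ b) := by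
  obtain ⟨a0, a1, -⟩ := F.cl_small L hU hu hu0
  cases b
  · rw [Bool.xor_false, ← a0]; rfl
  · rw [Bool.xor_true, ← a1]; rfl

/-- The central change of a monomial lift is determined by the signs. -/
theorem gen_l (hU : UniqAb G) (j : Fin 2) :
    ∃ l : ℕ → Bool, (∀ (P : G → Prop), F.NInv L P → ∀ n, n < 2048 → (P (F.el L (sG j (l (cu n)) n)) ↔ P (F.el L n))) ∧
      (∀ u, u < 16 → (F.sg L (gu j u) ^^ F.sg L u) = l u) ∧
      ∀ u v, u < 16 → v < 16 → l (u ^^^ v) = (l u ^^ l v) := by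
  obtain ⟨l, hl0, hadd, hinv⟩ := F.gen_data L j
  have hbit : ∀ u, u < 16 → mkc u false 0 < 2048 ∧ cu (mkc u false 0) = u ∧
      (sG j (l u) (mkc u false 0)).testBit 4 = l u := by
    intro u hu
    obtain ⟨h1, h2, h3, h4⟩ := mkc_facts ⟨u, hu⟩ false 0
    simp only [Fin.val_zero] at h1 h2 h3 h4
    refine ⟨h1, h2, ?_⟩
    unfold sG
    rw [h2, h3, h4, (mkc_facts ⟨gu j u, gu_lt j hu⟩ (false ^^ l u) ⟨gk j 0, (gen_wv j (by norm_num)).1⟩).2.2.1,
      Bool.false_xor]
  refine ⟨l, hinv, fun u hu => ?_, fun u v hu hv => ?_⟩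
  · by_cases hu0 : u = 0
    · subst hu0
      simp [sg, hl0, (by decide +kernel : ∀ j, gu j 0 = 0) j]
    · obtain ⟨h1, h2, -⟩ := hbit u hu
      have h := hinv _ (F.inv_isConj L) _ h1
      rw [h2, ← cl_iff, ← cl_iff, ← Bool.eq_iff_iff] at h
      have e : sG j (l u) (mkc u false 0) = mkc (gu j u) (l u) 0 := by
        obtain ⟨-, g2, g3, g4⟩ := mkc_facts ⟨u, hu⟩ false 0
        simp only [Fin.val_zero] at g2 g3 g4
        unfold sG
        rw [g2, g3, g4, Bool.false_xor, show gk j 0 = 0 from lm_zero _]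
      rw [e, F.mkc_small L hU (gu_lt j hu) (gu_ne j ⟨u, hu⟩ hu0), F.mkc_small L hU hu hu0, Bool.xor_false] at h
      rw [← h]
      cases F.sg L (gu j u) <;> cases l u <;> rfl
  · obtain ⟨a1, a2, a3⟩ := hbit u hu
    obtain ⟨b1, b2, b3⟩ := hbit v hv
    have hx : mkc u false 0 ^^^ mkc v false 0 = mkc (u ^^^ v) false 0 := by
      simp [mkc]
    obtain ⟨-, c2, c3⟩ := hbit (u ^^^ v) (Nat.xor_lt_two_pow (n := 4) hu hv)
    have h := congrArg (fun n => n.testBit 4) (hadd _ _ a1 b1)
    simp only [hx, c2, a2, b2, Nat.testBit_xor, c3, a3, b3] at h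
    exact h

/-- The companions of an element of the small class among the small class. -/
theorem card_comp (hU : UniqAb G) (n : ℕ) (hn : n < 2048) :
    Nat.card {y : ↥(F.asub L) // ((y : G) ≠ 1 ∧ ¬ IsConj z (y : G)) ∧ F.el L n * (y : G) ≠ 1 ∧ ¬ IsConj z (F.el L n * (y : G))} =
      nComp (F.sg L) n := by
  classical
  have hin : ∀ m, m < 2048 → ((F.el L m ≠ 1 ∧ ¬ IsConj z (F.el L m)) ↔ inD (F.sg L) m = true) := by
    intro m hm
    rw [← cl_iff, F.cl_eq L hU hm]
    constructor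
    · rintro ⟨h1, h2⟩
      have hm0 : (m == 0) = false := beq_eq_false_iff_ne.2 fun e => h1 (e ▸ F.el_zero L)
      simpa [hm0] using h2
    · intro h
      have hm0 : m ≠ 0 := fun e => by
        subst e
        have : inD (F.sg L) 0 = false := by
          have ht : tyB 0 = 0 := (count_base.2.2 0).1.2 rfl
          simp [inD, ht]
        rw [this] at h; exact Bool.false_ne_true h
      exact ⟨fun e => hm0 (F.el_inj L hm (by norm_num) (e.trans (F.el_zero L).symm)), by simp [h]⟩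
  have hxor : ∀ {m}, m < 2048 → n ^^^ m < 2048 := fun h => Nat.xor_lt_two_pow (n := 11) hn h
  unfold nComp dList
  rw [List.countP_eq_length_filter, List.filter_filter,
    ← List.toFinset_card_of_nodup (List.nodup_range.filter _), ← Fintype.card_coe, ← Nat.card_eq_fintype_card]
  have key : ∀ m, m ∈ ((List.range 2048).filter fun m => inD (F.sg L) (n ^^^ m) && inD (F.sg L) m).toFinset ↔
      m < 2048 ∧ inD (F.sg L) (n ^^^ m) = true ∧ inD (F.sg L) m = true := fun m => by simp
  refine (Nat.card_eq_of_bijective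
    (fun m : ↥((List.range 2048).filter fun m => inD (F.sg L) (n ^^^ m) && inD (F.sg L) m).toFinset =>
      (⟨⟨F.el L m.1, m.1, ((key _).1 m.2).1, rfl⟩, by
        obtain ⟨h1, h2, h3⟩ := (key _).1 m.2
        show (F.el L m.1 ≠ 1 ∧ _) ∧ F.el L n * F.el L m.1 ≠ 1 ∧ _
        rw [← F.el_xor L hn h1]
        exact ⟨(hin _ h1).2 h3, (hin _ (hxor h1)).2 h2⟩⟩ :
      {y : ↥(F.asub L) // ((y : G) ≠ 1 ∧ ¬ IsConj z (y : G)) ∧ F.el L n * (y : G) ≠ 1 ∧ ¬ IsConj z (F.el L n * (y : G))})) ⟨?_, ?_⟩).symm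
  · rintro ⟨a, ha⟩ ⟨b, hb⟩ e
    exact Subtype.ext (F.el_inj L ((key _).1 ha).1 ((key _).1 hb).1 (congrArg (fun y => ((y.1 : ↥(F.asub L)) : G)) e))
  · rintro ⟨⟨a, m, hm, rfl⟩, hy⟩
    refine ⟨⟨m, (key _).2 ⟨hm, (hin _ (hxor hm)).1 ?_, (hin _ hm).1 hy.1⟩⟩, rfl⟩
    rw [F.el_xor L hn hm]; exact hy.2

set_option maxHeartbeats 1000000 in
theorem orbit_all (hU : UniqAb G) {n : ℕ} (hn : n < 2048) (hd : inD (F.sg L) n = true) :
    ∀ m, m < 2048 → inD (F.sg L) m = true →
      ∃ g ∈ Subgroup.normalizer (F.asub L : Set G), g * F.el L n * g⁻¹ = F.el L m := by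
  classical
  set A := F.asub L
  set M := Subgroup.normalizer (A : Set G)
  -- invariant predicates are constant on the two parts
  have hparts : ∀ (P : G → Prop), F.NInv L P → ∀ m, m < 2048 → inD (F.sg L) m = true →
      if m % 16 = 0 then (P (F.el L m) ↔ P (F.el L (baseRep 3)))
      else (P (F.el L m) ↔ P (F.el L (mkc 1 (F.sg L 1) 0))) := by
    intro P hP m hm hdm
    by_cases hu : m % 16 = 0
    · rw [if_pos hu]
      rw [inD, if_pos (beq_iff_eq.2 hu), beq_iff_eq] at hdm
      have h := F.p_base L hP (show m / 16 < 128 by omega)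
      rw [show 16 * (m / 16) = m by omega, hdm] at h
      exact h
    · rw [if_neg hu]
      rw [inD, if_neg (by simpa using hu), Bool.and_eq_true, decide_eq_true_eq, beq_iff_eq] at hdm
      have hu16 : m % 16 < 16 := Nat.mod_lt _ (by norm_num)
      have h := F.p_row L hP hu16 hu (show m / 16 < 128 by omega)
      rw [Nat.mod_add_div m 16] at h
      have hrep : rep (tyC (m % 16) (m / 16)) (m % 16) = mkc (m % 16) (F.sg L (m % 16)) 0 := by
        rcases (by omega : tyC (m % 16) (m / 16) = 0 ∨ tyC (m % 16) (m / 16) = 1) with e | e <;>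
          (rw [e] at hdm ⊢; unfold rep; rw [← hdm.2]; rfl)
      rw [hrep] at h
      refine h.trans ?_
      have hstep : ∀ i a, a < 16 ∧ a ≠ 0 →
          decide (P (F.el L (mkc (gu (Fin.ofNat 2 i) a) (F.sg L (gu (Fin.ofNat 2 i) a)) 0))) =
            decide (P (F.el L (mkc a (F.sg L a) 0))) := by
        intro i a ⟨ha, ha0⟩
        obtain ⟨l, hinv, hl, -⟩ := F.gen_l L hU (Fin.ofNat 2 i)
        obtain ⟨h1, h2, h3, h4⟩ := mkc_facts ⟨a, ha⟩ (F.sg L a) 0
        simp only [Fin.val_zero] at h1 h2 h3 h4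
        refine decide_eq_decide.2 ?_
        have := hinv P hP _ h1
        rw [show cu (mkc a (F.sg L a) 0) = a from h2] at this
        unfold sG at this
        rw [h2, h3, h4, show gk (Fin.ofNat 2 i) 0 = 0 from lm_zero _, ← hl a ha] at this
        rwa [show (F.sg L a ^^ (F.sg L (gu (Fin.ofNat 2 i) a) ^^ F.sg L a)) = F.sg L (gu (Fin.ofNat 2 i) a) by
          cases F.sg L a <;> cases F.sg L (gu (Fin.ofNat 2 i) a) <;> rfl] at this
      have := (walk_inv (fun i a => gu (Fin.ofNat 2 i) a) (fun a => a < 16 ∧ a ≠ 0)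
        (fun a => decide (P (F.el L (mkc a (F.sg L a) 0))))
        (fun i a ha => ⟨gu_lt _ ha.1, gu_ne _ ⟨a, ha.1⟩ ha.2⟩) hstep
        (guWord (m % 16)) 1 ⟨by norm_num, one_ne_zero⟩).2
      rw [(guWord_ok ⟨m % 16, hu16⟩ hu).2] at this
      exact decide_eq_decide.1 this
  -- the orbit
  let Orb : G → Prop := fun a => ∃ g ∈ M, g * F.el L n * g⁻¹ = a
  have hOrb : F.NInv L Orb := by
    intro g hg a
    constructor
    · rintro ⟨k, hk, e⟩
      exact ⟨g⁻¹ * k, mul_mem (inv_mem hg) hk, by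
        rw [show g⁻¹ * k * F.el L n * (g⁻¹ * k)⁻¹ = g⁻¹ * (k * F.el L n * k⁻¹) * g by group, e]; group⟩
    · rintro ⟨k, hk, e⟩
      exact ⟨g * k, mul_mem hg hk, by rw [← e]; group⟩
  have hself : Orb (F.el L n) := ⟨1, one_mem _, by group⟩
  by_contra hc
  push Not at hc
  obtain ⟨m₀, hm₀, hdm₀, hno⟩ := hc
  have hno' : ¬ Orb (F.el L m₀) := fun ⟨g, hg, e⟩ => hno g hg e
  -- the orbit is exactly one part
  have hnot1 : ∀ m, inD (F.sg L) m = true → m ≠ 0 := by
    intro m h e
    subst e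
    have ht : tyB 0 = 0 := (count_base.2.2 0).1.2 rfl
    have : inD (F.sg L) 0 = false := by simp [inD, ht]
    rw [this] at h; exact Bool.false_ne_true h
  have horbD : ∀ a, Orb a → ∃ m < 2048, inD (F.sg L) m = true ∧ a = F.el L m := by
    rintro a ⟨g, hg, rfl⟩
    obtain ⟨m, hm, em⟩ := (Subgroup.mem_normalizer_iff.1 hg (F.el L n)).1 ⟨n, hn, rfl⟩
    refine ⟨m, hm, ?_, em⟩
    have hcl : F.cl L m = F.cl L n := by
      rw [Bool.eq_iff_iff, cl_iff, cl_iff, ← em, isConj_conj_iff]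
    have hm0 : (m == 0) = false := beq_eq_false_iff_ne.2 fun e => by
      rw [e, F.el_zero L, conj_eq_one_iff] at em
      exact hnot1 n hd (F.el_inj L hn (by norm_num) (em.trans (F.el_zero L).symm))
    rw [F.cl_eq L hU hm, F.cl_eq L hU hn, hd, hm0] at hcl
    simpa using hcl
  have hiff : ∀ m, m < 2048 → inD (F.sg L) m = true → (Orb (F.el L m) ↔ (m % 16 = 0 ↔ n % 16 = 0)) := by
    intro m hm hdm
    have a := hparts Orb hOrb n hn hd
    have b := hparts Orb hOrb m hm hdm
    have c := hparts Orb hOrb m₀ hm₀ hdm₀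
    by_cases e1 : n % 16 = 0 <;> by_cases e2 : m % 16 = 0 <;> by_cases e3 : m₀ % 16 = 0 <;>
      simp only [e1, e2, e3, if_true, if_false, iff_true, iff_false, iff_self, not_true_eq_false,
        not_true_eq_false] at a b c ⊢ <;>
      first
        | exact absurd (c.2 (a.1 hself)) hno'
        | exact b.2 (a.1 hself)
        | exact fun h => hno' (c.2 (b.1 h))
  -- counting modulo 23
  obtain ⟨hsig, hbig⟩ := F.counting L hU
  have h23d : 23 ∣ (F.zset L).card := by
    rw [F.card_zset L, hsig, hbig]; decide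
  haveI : Fact (Nat.Prime 23) := ⟨by norm_num⟩
  obtain ⟨g, hg⟩ := exists_prime_orderOf_dvd_card' 23 (F.prime_dvd L hU h23d)
  have hgord : orderOf (g : G) = 23 := by rw [Subgroup.orderOf_coe, hg]
  obtain ⟨k, hk11, hkmod, hkcard⟩ := fixed_card (F.isElementaryAbelian_asub L) (F.card_asub L) (F.centralizer_asub L)
    (by norm_num : Nat.Prime 23) (by norm_num) g.2 hgord
  have hk0 : k = 0 := by
    interval_cases k <;> first | rfl | simp_all
  subst hk0
  set Z := Subgroup.zpowers (g : G)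
  let S : Set G := {a | Orb a}
  letI : MulAction ↥Z ↥S :=
    { smul := fun y a => ⟨(y : G) * a * (y : G)⁻¹, (hOrb _ (Subgroup.zpowers_le.2 g.2 y.2) a).2 a.2⟩
      one_smul := fun a => Subtype.ext (show ((1 : ↥Z) : G) * a * ((1 : ↥Z) : G)⁻¹ = a by simp)
      mul_smul := fun y y' a => Subtype.ext
        (show ((y * y' : ↥Z) : G) * a * ((y * y' : ↥Z) : G)⁻¹ = (y : G) * ((y' : G) * a * (y' : G)⁻¹) * (y : G)⁻¹ by
          push_cast; group) }
  have hmod := (IsPGroup.of_card (n := 1) (by rw [Nat.card_zpowers, hgord, pow_one]) : IsPGroup 23 ↥Z).card_modEq_card_fixedPoints ↥S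
  have hfix : Nat.card (MulAction.fixedPoints ↥Z ↥S) = 0 := by
    rw [Nat.card_eq_zero]
    refine Or.inl ⟨fun ⟨⟨a, ha⟩, hf⟩ => ?_⟩
    obtain ⟨m, hm, hdm, rfl⟩ := horbD a ha
    have h1 : (g : G) * F.el L m * (g : G)⁻¹ = F.el L m := congrArg Subtype.val (hf ⟨g, Subgroup.mem_zpowers _⟩)
    have hF1 : F.el L m ∈ A ⊓ Subgroup.centralizer ({(g : G)} : Set G) :=
      ⟨⟨m, hm, rfl⟩, Subgroup.mem_centralizer_singleton_iff.2 (mul_inv_eq_iff_eq_mul.1 h1).symm⟩
    rw [Subgroup.eq_bot_of_card_eq _ (hkcard.trans (pow_zero 2)), Subgroup.mem_bot] at hF1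
    exact hnot1 m hdm (F.el_inj L hm (by norm_num) (hF1.trans (F.el_zero L).symm))
  rw [hfix] at hmod
  -- the cardinality of the part
  have hSc : Nat.card ↥S = (Finset.univ.filter fun p : Fin 16 × Fin 128 =>
      inD (F.sg L) (p.1.1 + 16 * p.2.1) = true ∧ (p.1.1 = 0 ↔ n % 16 = 0)).card := by
    rw [← Fintype.card_coe, ← Nat.card_eq_fintype_card]
    refine (Nat.card_eq_of_bijective (fun p : ↥(Finset.univ.filter fun p : Fin 16 × Fin 128 =>
      inD (F.sg L) (p.1.1 + 16 * p.2.1) = true ∧ (p.1.1 = 0 ↔ n % 16 = 0)) =>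
      (⟨F.el L (p.1.1.1 + 16 * p.1.2.1), (hiff _ (by omega) (Finset.mem_filter.1 p.2).2.1).2 (by
        rw [show (p.1.1.1 + 16 * p.1.2.1) % 16 = p.1.1.1 by omega]
        exact (Finset.mem_filter.1 p.2).2.2)⟩ : ↥S)) ⟨?_, ?_⟩).symm
    · rintro ⟨⟨u, m⟩, _⟩ ⟨⟨u', m'⟩, _⟩ e
      have e1 := F.el_inj L (by omega) (by omega) (congrArg Subtype.val e)
      exact Subtype.ext (Prod.ext (Fin.ext (by dsimp only at e1 ⊢; omega)) (Fin.ext (by dsimp only at e1 ⊢; omega)))
    · rintro ⟨a, ha⟩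
      obtain ⟨m, hm, hdm, rfl⟩ := horbD a ha
      obtain ⟨p, rfl⟩ := split_code hm
      refine ⟨⟨p, Finset.mem_filter.2 ⟨Finset.mem_univ _, hdm, ?_⟩⟩, rfl⟩
      have := (hiff _ hm hdm).1 ha
      rwa [show (p.1.1 + 16 * p.2.1) % 16 = p.1.1 by omega] at this
  rw [hSc, Finset.card_filter, Fintype.sum_prod_type, Fin.sum_univ_succ] at hmod
  have hcount : ∀ p : ℕ → Bool, (∑ m : Fin 128, if p m.1 = true then 1 else 0) = (List.range 128).countP p := by
    intro p
    rw [← Finset.card_filter, List.countP_eq_length_filter, ← List.toFinset_card_of_nodup (List.nodup_range.filter _),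
      ← Finset.card_map Fin.valEmbedding]
    refine congrArg Finset.card (Finset.ext fun m => ?_)
    simp only [Finset.mem_map, Finset.mem_filter, Finset.mem_univ, true_and, Fin.valEmbedding_apply, List.mem_toFinset,
      List.mem_filter, List.mem_range]
    exact ⟨fun ⟨a, ha, e⟩ => e ▸ ⟨a.2, ha⟩, fun ⟨h1, h2⟩ => ⟨⟨m, h1⟩, h2, rfl⟩⟩
  have h0 : (∑ m : Fin 128, if inD (F.sg L) ((0 : Fin 16).1 + 16 * m.1) = true ∧ ((0 : Fin 16).1 = 0 ↔ n % 16 = 0) then 1 else 0) =
      if n % 16 = 0 then 36 else 0 := by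
    by_cases hu : n % 16 = 0
    · rw [if_pos hu, ← count_base.2.1, ← hcount (fun m => tyB m == 3)]
      refine Finset.sum_congr rfl fun m _ => ?_
      simp [hu, inD]
    · rw [if_neg hu]; simp [hu]
  have h1 : ∀ u : Fin 15, (∑ m : Fin 128, if inD (F.sg L) (u.succ.1 + 16 * m.1) = true ∧ (u.succ.1 = 0 ↔ n % 16 = 0) then 1 else 0) =
      if n % 16 = 0 then 0 else 16 := by
    intro u
    by_cases hu : n % 16 = 0
    · rw [if_pos hu]; simp [hu]
    · rw [if_neg hu]
      have hu0 : u.succ.1 ≠ 0 := by simp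
      have hc := hcount (fun m => if tyC u.succ.1 m = 0 then !F.sg L u.succ.1 else if tyC u.succ.1 m = 1 then F.sg L u.succ.1 else false)
      rw [count_coset _ _ _ u.succ hu0] at hc
      have e16 : (if (!F.sg L u.succ.1) = true then 16 else 0) + (if F.sg L u.succ.1 = true then 16 else 0) +
        (if (false : Bool) = true then 96 else 0) = (16 : ℕ) := by cases F.sg L u.succ.1 <;> rfl
      rw [← hc] at e16
      refine Eq.trans ?_ e16
      refine Finset.sum_congr rfl fun m _ => if_congr ?_ rfl rfl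
      have hmod16 : (u.succ.1 + 16 * m.1) % 16 = u.succ.1 := by omega
      have hdiv16 : (u.succ.1 + 16 * m.1) / 16 = m.1 := by omega
      rw [inD, hmod16, hdiv16, if_neg (by simpa using hu0)]
      simp only [hu0, hu, iff_self, and_true]
      have h := List.all_eq_true.1 crows_ok u.succ.1 (List.mem_range.2 u.succ.2)
      simp only [Bool.or_eq_true, beq_iff_eq, hu0, false_or, List.all_eq_true, List.mem_range] at h
      have h := h m.1 m.2
      simp only [crowOK, Bool.and_eq_true, decide_eq_true_eq] at h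
      rcases (by have := h.1.1.1; unfold tyC; omega : tyC u.succ.1 m.1 = 0 ∨ tyC u.succ.1 m.1 = 1 ∨ tyC u.succ.1 m.1 = 2) with e | e | e <;>
        cases F.sg L u.succ.1 <;> rw [e] <;> decide
  rw [h0, Finset.sum_congr rfl fun u _ => h1 u, Finset.sum_const, Finset.card_univ, Fintype.card_fin, smul_eq_mul] at hmod
  revert hmod
  split_ifs <;> decide

end Frame

namespace Frame

variable {G : Type*} [Group G] [Finite G] {z : G} {Q : Subgroup (Subgroup.centralizer ({z} : Set G))} [Q.Normal]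
  {π : G → V6} {ψ : ↥(Subgroup.centralizer ({z} : Set G)) →* (V6 ≃ₗ[ZMod 2] V6)}
  {x : ↥(Subgroup.centralizer ({z} : Set G))} (F : Frame z Q π ψ x)
include F

/-- Lifts in the standard form exist. -/
theorem exists_normal (hU : UniqAb G) :
    ∃ (c : Fin 4 → ↥(Subgroup.centralizer ({z} : Set G))) (L : Lifts ψ x c), Normal F L := by
  classical
  choose c₀ hc₀ he₀ using fun i : Fin 4 => F.exists_Bel_lift (2 ^ i.1)
  have L₀ : Lifts ψ x c₀ := ⟨hc₀, he₀⟩
  set zc : ↥(Subgroup.centralizer ({z} : Set G)) := ⟨z, F.lf.mem_cent F.lf.extra.z_mem⟩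
  have hzψ : ψ zc = 1 := (F.lf.ker _).2 F.lf.extra.z_mem
  have hzx : Commute zc x := Subtype.ext (F.z_comm' x).symm
  let c : Fin 4 → ↥(Subgroup.centralizer ({z} : Set G)) := fun i =>
    if F.cl L₀ (rep 0 (2 ^ i.1)) then c₀ i * zc else c₀ i
  have L : Lifts ψ x c := by
    refine ⟨fun i => ?_, fun i => ?_⟩ <;> simp only [c] <;> split
    · exact (hc₀ i).mul_left hzx
    · exact hc₀ i
    · rw [map_mul, he₀, hzψ, mul_one]
    · exact he₀ i
  have hbasis : ∀ i : Fin 4, F.sg L (2 ^ i.1) = false := by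
    intro i
    obtain ⟨hlt, hne⟩ := two_pow_lt i
    obtain ⟨a0, a1, -⟩ := F.cl_small L₀ hU hlt hne
    rw [sg, if_neg hne, Bool.eq_false_iff]
    intro h
    rw [cl_iff] at h
    have hel : ∀ (c' : Fin 4 → ↥(Subgroup.centralizer ({z} : Set G))) (L' : Lifts ψ x c') (b : Bool),
        F.el L' (mkc (2 ^ i.1) b 0) = (c' i : G) * zp z (bv b) := fun c' L' b => by
      rw [F.el_mkc L' hlt b (by norm_num), F.rho_zero, mul_one, cpr_single]
    rw [show rep 0 (2 ^ i.1) = mkc (2 ^ i.1) false 0 from rfl, hel] at h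
    simp only [c] at h
    cases e : F.cl L₀ (rep 0 (2 ^ i.1)) <;> simp only [e, if_true, Bool.false_eq_true, if_false] at h
    · have h' : F.cl L₀ (rep 0 (2 ^ i.1)) = true := by
        rw [cl_iff, show rep 0 (2 ^ i.1) = mkc (2 ^ i.1) false 0 from rfl, hel]; exact h
      rw [e] at h'; exact Bool.false_ne_true h'
    · have h' : F.cl L₀ (rep 1 (2 ^ i.1)) = true := by
        rw [cl_iff, show rep 1 (2 ^ i.1) = mkc (2 ^ i.1) true 0 from rfl, hel]
        simpa [bv, zp_one, zp_zero] using h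
      rw [a1, ← a0, e] at h'; exact Bool.false_ne_true h'
  -- the signs
  set s := F.sg L
  set t : ℕ := (if s 3 then 1 else 0) + (if s 5 then 2 else 0) + (if s 6 then 4 else 0) + (if s 7 then 8 else 0) +
    (if s 9 then 16 else 0) + (if s 10 then 32 else 0) + (if s 11 then 64 else 0) + (if s 12 then 128 else 0) +
    (if s 13 then 256 else 0) + (if s 14 then 512 else 0) + (if s 15 then 1024 else 0) with ht
  have ht2048 : t < 2048 := by
    have hb : ∀ (b : Bool) (k : ℕ), (if b then k else 0) ≤ k := fun b k => by cases b <;> simp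
    rw [ht]
    have := hb (s 3) 1; have := hb (s 5) 2; have := hb (s 6) 4; have := hb (s 7) 8
    have := hb (s 9) 16; have := hb (s 10) 32; have := hb (s 11) 64; have := hb (s 12) 128
    have := hb (s 13) 256; have := hb (s 14) 512; have := hb (s 15) 1024
    omega
  have hst : ∀ u, u < 16 → s u = sT0 t u := by
    have key : ∀ b : Fin 11 → Bool, ∀ i : Fin 11, sT0 ((if b 0 then 1 else 0) + (if b 1 then 2 else 0) + (if b 2 then 4 else 0) +
        (if b 3 then 8 else 0) + (if b 4 then 16 else 0) + (if b 5 then 32 else 0) + (if b 6 then 64 else 0) +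
        (if b 7 then 128 else 0) + (if b 8 then 256 else 0) + (if b 9 then 512 else 0) + (if b 10 then 1024 else 0))
        (freePos.getD i.1 0) = b i := by decide +kernel
    have hfix : ∀ u : Fin 16, freePos.contains u.1 = false → u.1 = 0 ∨ ∃ i : Fin 4, u.1 = 2 ^ i.1 := by decide +kernel
    have hidx : ∀ u : Fin 16, freePos.contains u.1 = true → freePos.idxOf u.1 < 11 ∧ freePos.getD (freePos.idxOf u.1) 0 = u.1 := by
      decide +kernel
    intro u hu
    cases hf : freePos.contains u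
    · rw [sT0, hf, Bool.false_and]
      rcases hfix ⟨u, hu⟩ hf with e | ⟨i, e⟩
      · simp only at e; rw [e]; exact if_pos rfl
      · simp only at e; rw [e]; exact hbasis i
    · obtain ⟨h1, h2⟩ := hidx ⟨u, hu⟩ hf
      have := key (fun i => s (freePos.getD i.1 0)) ⟨freePos.idxOf u, h1⟩
      simp only at h2
      rw [h2] at this
      exact this.symm
  have heq : sEq (sT0 t) = true := by
    simp only [sEq, List.all_eq_true, List.mem_range, beq_iff_eq]
    intro j _ u hu
    set jj := Fin.ofNat 2 j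
    obtain ⟨l, -, hl, hadd⟩ := F.gen_l L hU jj
    rw [← hst _ (gu_lt jj hu), ← hst u hu, hl u hu]
    have hl0 : l 0 = false := by
      have := hadd 0 0 (by norm_num) (by norm_num)
      cases e : l 0 <;> simp [e] at this ⊢
    have hb : ∀ i : Fin 4, l (2 ^ i.1) = sT0 t (gu jj (2 ^ i.1)) := by
      intro i
      rw [← hl _ (two_pow_lt i).1, show F.sg L (2 ^ i.1) = false from hbasis i, Bool.xor_false]
      exact hst _ (gu_lt jj (two_pow_lt i).1)
    have hpiece : ∀ (b : Bool) (i : Fin 4), l (if b then 2 ^ i.1 else 0) = (b && sT0 t (gu jj (2 ^ i.1))) := by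
      intro b i; cases b
      · simpa using hl0
      · simpa using hb i
    have hlt : ∀ (b : Bool) (i : Fin 4), (if b then 2 ^ i.1 else 0 : ℕ) < 16 := by
      intro b i; cases b
      · norm_num
      · simpa using (two_pow_lt i).1
    have hdec : u = (if u.testBit 0 then 2 ^ ((0 : Fin 4).1) else 0) ^^^ (if u.testBit 1 then 2 ^ ((1 : Fin 4).1) else 0) ^^^
        ((if u.testBit 2 then 2 ^ ((2 : Fin 4).1) else 0) ^^^ (if u.testBit 3 then 2 ^ ((3 : Fin 4).1) else 0)) :=
      (by decide +kernel : ∀ u : Fin 16, u.1 = (if u.1.testBit 0 then 2 ^ ((0 : Fin 4).1) else 0) ^^^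
        (if u.1.testBit 1 then 2 ^ ((1 : Fin 4).1) else 0) ^^^ ((if u.1.testBit 2 then 2 ^ ((2 : Fin 4).1) else 0) ^^^
          (if u.1.testBit 3 then 2 ^ ((3 : Fin 4).1) else 0))) ⟨u, hu⟩
    conv_lhs => rw [hdec]
    rw [hadd _ _ (Nat.xor_lt_two_pow (n := 4) (hlt _ _) (hlt _ _)) (Nat.xor_lt_two_pow (n := 4) (hlt _ _) (hlt _ _)),
      hadd _ _ (hlt _ _) (hlt _ _), hadd _ _ (hlt _ _) (hlt _ _), hpiece, hpiece, hpiece, hpiece]
    rfl
  have hone : inD s 1 = true ∧ inD s (wtSix * 32) = true := by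
    constructor
    · have e : inD s 1 = inD sgnB 1 := by
        have h1 : s 1 = sgnB 1 := (hbasis 0).trans ((by decide : false = sgnB 1))
        unfold inD
        simp only [show (1 : ℕ) % 16 = 1 from rfl, h1]
      rw [e]; exact inD_facts.1
    · have hu : wtSix * 32 % 16 = 0 := by omega
      have := inD_facts.2.1
      unfold inD at this ⊢
      rw [hu] at this ⊢
      exact this
  have hw6 : wtSix * 32 < 2048 := by have := base_weights.2.1; omega
  have hsgn : ∀ u, u < 16 → s u = sgnB u := by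
    have hmem : t ∈ sCands := List.mem_filter.2 ⟨List.mem_range.2 ht2048, heq⟩
    have h := List.all_eq_true.1 signs_unique t hmem
    rw [Bool.or_eq_true] at h
    rcases h with h | h
    · intro u hu
      rw [hst u hu]
      exact beq_iff_eq.1 (List.all_eq_true.1 h u (List.mem_range.2 hu))
    · exfalso
      obtain ⟨g, hg, eg⟩ := F.orbit_all L hU (by norm_num : 1 < 2048) hone.1 _ hw6 hone.2
      have e1 := F.card_comp L hU 1 (by norm_num)
      have e2 := F.card_comp L hU _ hw6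
      rw [nComp_congr hst] at e1 e2
      rw [Bool.not_eq_true', beq_eq_false_iff_ne, ← e1, ← e2] at h
      refine h (Nat.card_congr (Equiv.subtypeEquiv
        { toFun := fun y => ⟨g * y * g⁻¹, (Subgroup.mem_normalizer_iff.1 hg y).1 y.2⟩
          invFun := fun y => ⟨g⁻¹ * y * g, (Subgroup.mem_normalizer_iff.1 hg _).2 (by
            rw [show g * (g⁻¹ * (y : G) * g) * g⁻¹ = y by group]; exact y.2)⟩
          left_inv := fun y => Subtype.ext (by group)
          right_inv := fun y => Subtype.ext (by group) } fun y => ?_))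
      show _ ↔ ((g * (y : G) * g⁻¹ ≠ 1 ∧ ¬ IsConj z (g * (y : G) * g⁻¹)) ∧ F.el L (wtSix * 32) * (g * (y : G) * g⁻¹) ≠ 1 ∧
        ¬ IsConj z (F.el L (wtSix * 32) * (g * (y : G) * g⁻¹)))
      rw [← eg, show g * F.el L 1 * g⁻¹ * (g * (y : G) * g⁻¹) = g * (F.el L 1 * y) * g⁻¹ by group]
      simp only [ne_eq, conj_eq_one_iff, isConj_conj_iff]
  refine ⟨c, L, ⟨fun n hn => ?_, fun n m hn hm hd hd' => F.orbit_all L hU hn (by rwa [inD_congr hsgn]) m hm (by rwa [inD_congr hsgn])⟩⟩
  rw [← cl_iff, F.cl_eq L hU hn, inD_congr hsgn, Bool.and_eq_true, Bool.not_eq_true', Bool.not_eq_true', not_and_or,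
    Bool.not_eq_false, Bool.not_eq_false, beq_iff_eq]

end Frame

end CfsgLib.Sporadic.LargeFischer.Hexa
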