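import Cfsg.Agent.Lib.Sporadic.LargeFischer.Hexa.Code
import Cfsg.Agent.Lib.Sporadic.LargeFischer.Hexa.Data
import Cfsg.Agent.Lib.Sporadic.LargeFischer.Explicit.Shape

/-!
# The semilinear stabiliser of the orbit of size 378

It has order at most `39191040`, so a group `Model` preserving the orbit has index at most two in it; this
puts commutators with monomial maps into the group.
-/

set_option autoImplicit false
set_option linter.unusedSectionVars false
set_option maxRecDepth 40000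

namespace CfsgLib.Sporadic.LargeFischer.Hexa

open CfsgLib.Sporadic.LargeFischer

/-- Membership of the orbit, on codes. -/
def Ob (n : ℕ) : Bool := oMask.testBit n

/-- Non-singularity, on codes. -/
def Qb (n : ℕ) : Bool := qMask.testBit n

theorem qMask_ok : (List.range 4096).all (fun n => Qb n == (qs (dec n) == 1)) = true := by decide +kernel

theorem oMask_ok : (List.range 4096).all (fun n => Ob n == Explicit.inOb (dec n)) = true := by decide +kernel

/-- Membership of the orbit. -/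
def InO (v : V6) : Prop := wt v = 2 ∨ (wt v = 6 ∧ cls v = 0)

theorem Ob_iff (v : V6) : Ob (enc v) = true ↔ InO v := by
  have := beq_iff_eq.1 (List.all_eq_true.1 oMask_ok (enc v) (List.mem_range.2 (enc_lt v)))
  rw [this, dec_enc]
  exact Explicit.inOb_spec v

theorem Qb_iff (v : V6) : Qb (enc v) = true ↔ qs v = 1 := by
  have := beq_iff_eq.1 (List.all_eq_true.1 qMask_ok (enc v) (List.mem_range.2 (enc_lt v)))
  rw [this, dec_enc, beq_iff_eq]

/-- Membership of the stabiliser. -/
structure InS (g : V6 ≃ₗ[ZMod 2] V6) : Prop where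
  quad : ∀ v, qs (g v) = qs v
  pres : ∀ v, InO (g v) ↔ InO v
  scal : (∀ v, g (omV v) = omV (g v)) ∨ ∀ v, g (omV v) = omV (omV (g v))

theorem omV_three (v : V6) : omV (omV (omV v)) = v := funext fun i => (omV_om (v i)).2.1

/-- The semilinear stabiliser. -/
def SSub : Subgroup (V6 ≃ₗ[ZMod 2] V6) where
  carrier := {g | InS g}
  one_mem' := ⟨fun _ => rfl, fun _ => Iff.rfl, Or.inl fun _ => rfl⟩
  mul_mem' {a b} ha hb := by
    refine ⟨fun v => (ha.quad _).trans (hb.quad v), fun v => (ha.pres _).trans (hb.pres v), ?_⟩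
    rcases ha.scal with ea | ea <;> rcases hb.scal with eb | eb
    · exact Or.inl fun v => show a (b (omV v)) = omV (a (b v)) by rw [eb, ea]
    · exact Or.inr fun v => show a (b (omV v)) = omV (omV (a (b v))) by rw [eb, ea, ea]
    · exact Or.inr fun v => show a (b (omV v)) = omV (omV (a (b v))) by rw [eb, ea]
    · exact Or.inl fun v => show a (b (omV v)) = omV (a (b v)) by rw [eb, ea, ea, omV_three]
  inv_mem' {a} ha := by
    refine ⟨fun v => ?_, fun v => ?_, ?_⟩
    · have := ha.quad (a.symm v)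
      rw [a.apply_symm_apply] at this
      exact this.symm
    · have := ha.pres (a.symm v)
      rw [a.apply_symm_apply] at this
      exact this.symm
    · rcases ha.scal with e | e
      · refine Or.inl fun v => a.injective ?_
        show a (a.symm (omV v)) = a (omV (a.symm v))
        rw [e, a.apply_symm_apply, a.apply_symm_apply]
      · refine Or.inr fun v => a.injective ?_
        show a (a.symm (omV v)) = a (omV (omV (a.symm v)))
        rw [e, e, omV_three, a.apply_symm_apply, a.apply_symm_apply]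

theorem mem_SSub {g : V6 ≃ₗ[ZMod 2] V6} : g ∈ SSub ↔ InS g := Iff.rfl

/-- The linear part. -/
def LSub : Subgroup (V6 ≃ₗ[ZMod 2] V6) where
  carrier := {g | InS g ∧ ∀ v, g (omV v) = omV (g v)}
  one_mem' := ⟨SSub.one_mem, fun _ => rfl⟩
  mul_mem' {a b} ha hb := ⟨SSub.mul_mem ha.1 hb.1, fun v => show a (b (omV v)) = omV (a (b v)) by rw [hb.2, ha.2]⟩
  inv_mem' {a} ha := ⟨SSub.inv_mem ha.1, fun v => a.injective (by
    show a (a.symm (omV v)) = a (omV (a.symm v))
    rw [ha.2, a.apply_symm_apply, a.apply_symm_apply])⟩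

theorem mem_LSub {g : V6 ≃ₗ[ZMod 2] V6} : g ∈ LSub ↔ InS g ∧ ∀ v, g (omV v) = omV (g v) := Iff.rfl

/-- The multiples by the powers of the cube root of unity, on codes. -/
def mulc (c n : ℕ) : ℕ := if c = 1 then n else if c = 2 then omc n else n ^^^ omc n

theorem omc_lt {n : ℕ} (h : n < 4096) : omc n < 4096 := (omc_fin ⟨n, h⟩).1

theorem mulc_lt {c n : ℕ} (h : n < 4096) : mulc c n < 4096 := by
  unfold mulc
  split_ifs
  · exact h
  · exact omc_lt h
  · exact Nat.xor_lt_two_pow (n := 12) h (omc_lt h)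

theorem comm_mulc {g : V6 ≃ₗ[ZMod 2] V6} (hg : ∀ v, g (omV v) = omV (g v)) (c : ℕ) {n : ℕ} (hn : n < 4096) :
    g (dec (mulc c n)) = dec (mulc c (enc (g (dec n)))) := by
  have h1 : g (dec (omc n)) = dec (omc (enc (g (dec n)))) := by
    rw [← omV_dec hn, hg, ← omV_dec (enc_lt _), dec_enc]
  unfold mulc
  split_ifs
  · rw [dec_enc]
  · exact h1
  · rw [dec_xor, dec_xor, map_add, h1, dec_enc]

/-- The value of a test. -/
def tval (P : List ℕ) (t : ℕ × ℕ × ℕ) (w : ℕ) : Bool :=
  if t.1 = 0 then Ob (lm P t.2.1 ^^^ mulc t.2.2 w) else Qb (lm P t.2.1 ^^^ mulc t.2.2 w)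

/-- The possible images of a vector. -/
def cand (P : List ℕ) (b : ℕ) (ts : List (ℕ × ℕ × ℕ)) : List ℕ :=
  (List.range 4096).filter fun w => ts.all fun t => tval P t w == tval P t b

theorem fix_lm {g : V6 ≃ₗ[ZMod 2] V6} : ∀ (P : List ℕ), (∀ x ∈ P, g (dec x) = dec x) →
    ∀ k, g (dec (lm P k)) = dec (lm P k)
  | [], _, k => by simp [lm, dec_zero]
  | x :: P, hP, k => by
    simp only [lm, dec_xor, map_add]
    rw [fix_lm P (fun y hy => hP y (List.mem_cons_of_mem _ hy))]
    split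
    · rw [hP x List.mem_cons_self]
    · rw [dec_zero, map_zero]

theorem image_mem_cand {g : V6 ≃ₗ[ZMod 2] V6} (hg : g ∈ LSub) {P : List ℕ} (hP : ∀ x ∈ P, x < 4096)
    (hfix : ∀ x ∈ P, g (dec x) = dec x) {b : ℕ} (hb : b < 4096) (ts : List (ℕ × ℕ × ℕ)) :
    enc (g (dec b)) ∈ cand P b ts := by
  rw [cand, List.mem_filter, List.mem_range, List.all_eq_true]
  refine ⟨enc_lt _, fun t _ => beq_iff_eq.2 ?_⟩
  set s := lm P t.2.1 with hs
  have hlt : s ^^^ mulc t.2.2 b < 4096 :=
    Nat.xor_lt_two_pow (n := 12) (lm_lt (k := 12) P _ hP) (mulc_lt hb)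
  have hv : dec (s ^^^ mulc t.2.2 (enc (g (dec b)))) = g (dec (s ^^^ mulc t.2.2 b)) := by
    rw [dec_xor, dec_xor, map_add, comm_mulc hg.2 _ hb, hs, fix_lm P hfix]
  have he : s ^^^ mulc t.2.2 (enc (g (dec b))) = enc (g (dec (s ^^^ mulc t.2.2 b))) := by
    rw [← hv, enc_dec (Nat.xor_lt_two_pow (n := 12) (lm_lt (k := 12) P _ hP) (mulc_lt (enc_lt _)))]
  simp only [tval, ← hs, he]
  split
  · refine Bool.eq_iff_iff.2 ?_
    rw [Ob_iff, hg.1.pres, ← Ob_iff, enc_dec hlt]
  · refine Bool.eq_iff_iff.2 ?_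
    rw [Qb_iff, hg.1.quad, ← Qb_iff, enc_dec hlt]

/-- The maps fixing a vector. -/
def fixer (v : V6) : Subgroup (V6 ≃ₗ[ZMod 2] V6) := MulAction.stabilizer _ v

theorem mem_fixer {g : V6 ≃ₗ[ZMod 2] V6} {v : V6} : g ∈ fixer v ↔ g v = v := Iff.rfl

theorem card_step (H : Subgroup (V6 ≃ₗ[ZMod 2] V6)) (hH : H ≤ LSub) (P : List ℕ) (hP : ∀ x ∈ P, x < 4096)
    (hfix : ∀ g ∈ H, ∀ x ∈ P, g (dec x) = dec x) (b : ℕ) (hb : b < 4096) (ts : List (ℕ × ℕ × ℕ)) (n : ℕ)
    (hn : (cand P b ts).length ≤ n) : Nat.card H ≤ n * Nat.card ↥(H ⊓ fixer (dec b)) := by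
  classical
  haveI : Finite (V6 ≃ₗ[ZMod 2] V6) :=
    Finite.of_injective (fun g => (g : V6 → V6)) fun a b e => LinearEquiv.ext (congrFun e)
  have e := (MulAction.stabilizer H (dec b)).card_mul_index
  rw [MulAction.index_stabilizer] at e
  have h1 : Nat.card (MulAction.stabilizer H (dec b)) = Nat.card ↥(H ⊓ fixer (dec b)) :=
    Nat.card_congr
      { toFun := fun g => ⟨((g : H) : V6 ≃ₗ[ZMod 2] V6), (g : H).2, g.2⟩
        invFun := fun g => ⟨⟨g.1, g.2.1⟩, g.2.2⟩
        left_inv := fun g => rfl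
        right_inv := fun g => rfl }
  have h2 : (MulAction.orbit H (dec b)).ncard ≤ n := by
    refine le_trans ?_ ((List.toFinset_card_le _).trans hn)
    refine (Set.ncard_le_ncard ?_ (Set.toFinite _)).trans
      ((Finset.card_image_le (f := dec)).trans' (le_of_eq (Set.ncard_coe_finset _)))
    rintro _ ⟨g, rfl⟩
    rw [Finset.mem_coe, Finset.mem_image]
    exact ⟨_, List.mem_toFinset.2 (image_mem_cand (hH g.2) hP (hfix _ g.2) hb ts), dec_enc _⟩
  rw [← e, h1, mul_comm n]
  exact Nat.mul_le_mul le_rfl h2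

/-- The subgroup fixing the vectors with the given codes. -/
def fixList (H : Subgroup (V6 ≃ₗ[ZMod 2] V6)) : List ℕ → Subgroup (V6 ≃ₗ[ZMod 2] V6)
  | [] => H
  | b :: bs => fixList H bs ⊓ fixer (dec b)

theorem fixList_le (H : Subgroup (V6 ≃ₗ[ZMod 2] V6)) : ∀ l, fixList H l ≤ H
  | [] => le_rfl
  | _ :: bs => inf_le_left.trans (fixList_le H bs)

theorem fixList_fix {H : Subgroup (V6 ≃ₗ[ZMod 2] V6)} : ∀ {l : List ℕ} {g}, g ∈ fixList H l →
    ∀ x ∈ l, g (dec x) = dec x
  | b :: bs, g, hg, x, hx => by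
    rcases List.mem_cons.1 hx with rfl | h
    · exact hg.2
    · exact fixList_fix hg.1 x h

/-- The multiples of the listed vectors. -/
def dbl : List ℕ → List ℕ
  | [] => []
  | b :: bs => dbl bs ++ [b, omc b]

theorem dbl_spec {H : Subgroup (V6 ≃ₗ[ZMod 2] V6)} (hH : H ≤ LSub) : ∀ {l : List ℕ}, (∀ x ∈ l, x < 4096) →
    ∀ g ∈ fixList H l, ∀ x ∈ dbl l, g (dec x) = dec x
  | b :: bs, hl, g, hg, x, hx => by
    rcases List.mem_append.1 hx with h | h
    · exact dbl_spec hH (fun y hy => hl y (List.mem_cons_of_mem _ hy)) g hg.1 x h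
    · simp only [List.mem_cons, List.not_mem_nil, or_false] at h
      have hb := hl b List.mem_cons_self
      rcases h with rfl | rfl
      · exact hg.2
      · have hgo := (hH (fixList_le H _ hg)).2
        rw [← omV_dec hb, hgo, show g (dec b) = dec b from hg.2]

/-- The data of a chain are within range and give the bounds. -/
def chainOK (P₀ : List ℕ) : List (ℕ × ℕ × List (ℕ × ℕ × ℕ)) → List ℕ → Bool
  | [], _ => true
  | (b, n, ts) :: r, done => decide ((cand (P₀ ++ dbl done) b ts).length ≤ n) && decide (b < 4096) &&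
      (P₀ ++ dbl done).all (· < 4096) && chainOK P₀ r (b :: done)

theorem chain_bound (H : Subgroup (V6 ≃ₗ[ZMod 2] V6)) (hH : H ≤ LSub) (P₀ : List ℕ)
    (h0 : ∀ g ∈ H, ∀ x ∈ P₀, g (dec x) = dec x) :
    ∀ (ls : List (ℕ × ℕ × List (ℕ × ℕ × ℕ))) (done : List ℕ), (∀ x ∈ done, x < 4096) → chainOK P₀ ls done = true →
      Nat.card ↥(fixList H done) ≤
        (ls.map fun e => e.2.1).prod * Nat.card ↥(fixList H ((ls.map fun e => e.1).reverse ++ done))
  | [], done, _, _ => by simp
  | (b, n, ts) :: r, done, hd, hok => by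
    simp only [chainOK, Bool.and_eq_true, decide_eq_true_eq, List.all_eq_true] at hok
    obtain ⟨⟨⟨hn, hb⟩, hP⟩, hr⟩ := hok
    have h1 := card_step (fixList H done) ((fixList_le H done).trans hH) (P₀ ++ dbl done) hP
      (fun g hg x hx => (List.mem_append.1 hx).elim (h0 g (fixList_le H done hg) x)
        (dbl_spec hH hd g hg x)) b hb ts n hn
    have h2 := chain_bound H hH P₀ h0 r (b :: done)
      (fun x hx => (List.mem_cons.1 hx).elim (fun e => e ▸ hb) (hd x)) hr
    rw [List.map_cons, List.prod_cons, List.map_cons, List.reverse_cons, List.append_assoc, mul_assoc]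
    exact h1.trans (Nat.mul_le_mul le_rfl h2)

theorem eq_one_of_fix {g : V6 ≃ₗ[ZMod 2] V6} (P co : List ℕ) (hfix : ∀ x ∈ P, g (dec x) = dec x)
    (hco : ∀ i, i < 12 → lm P (co.getD i 0) = 2 ^ i) : g = 1 :=
  LinearEquiv.ext (ext12 g id (fun u v => g.map_add u v) (fun _ _ => rfl) fun i hi => by
    rw [← hco i hi]; exact fix_lm P hfix _)

theorem finite_equiv : Finite (V6 ≃ₗ[ZMod 2] V6) :=
  Finite.of_injective (fun g => (g : V6 → V6)) fun _ _ e => LinearEquiv.ext (congrFun e)

theorem mem_AL_iff {g : V6 ≃ₗ[ZMod 2] V6} : g ∈ Explicit.AL ↔ g ∈ LSub := by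
  constructor
  · rintro ⟨hl, hq, hO⟩
    exact ⟨⟨hq, fun v => by rw [InO, InO, ← Explicit.inOb_spec, ← Explicit.inOb_spec, hO], Or.inl hl⟩, hl⟩
  · rintro ⟨hs, hl⟩
    exact ⟨hl, hs.quad, fun v => Bool.eq_iff_iff.2 (by
      rw [Explicit.inOb_spec, Explicit.inOb_spec]; exact hs.pres v)⟩

theorem card_LSub {K : Subgroup (V6 ≃ₗ[ZMod 2] V6)} (h : Explicit.Std K) : Nat.card ↥LSub = 19595520 := by
  rw [show LSub = Explicit.AL from Subgroup.ext fun g => mem_AL_iff.symm, Explicit.card_AL h.tv_mem]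

theorem card_SSub {K : Subgroup (V6 ≃ₗ[ZMod 2] V6)} (h : Explicit.Std K) : Nat.card ↥SSub ≤ 39191040 := by
  classical
  haveI := finite_equiv
  by_cases hall : ∀ g ∈ SSub, g ∈ LSub
  · exact (Nat.le_trans (Nat.card_le_card_of_injective (fun g : SSub => (⟨g.1, hall _ g.2⟩ : LSub))
      fun a b e => Subtype.ext (congrArg Subtype.val e :)) (card_LSub h).le).trans (by norm_num)
  · push Not at hall
    obtain ⟨t, ht, htl⟩ := hall
    have hanti : ∀ g : SSub, (g : V6 ≃ₗ[ZMod 2] V6) ∉ LSub → (g : V6 ≃ₗ[ZMod 2] V6) * t ∈ LSub := by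
      intro g hg
      refine ⟨SSub.mul_mem g.2 ht, fun v => ?_⟩
      have eg := (g.2 : InS _).scal.resolve_left fun e => hg ⟨g.2, e⟩
      have et := (ht : InS _).scal.resolve_left fun e => htl ⟨ht, e⟩
      show (g : V6 ≃ₗ[ZMod 2] V6) (t (omV v)) = omV ((g : V6 ≃ₗ[ZMod 2] V6) (t v))
      rw [et, eg, eg, omV_three]
    let f : SSub → LSub ⊕ LSub := fun g =>
      if hg : (g : V6 ≃ₗ[ZMod 2] V6) ∈ LSub then Sum.inl ⟨g, hg⟩ else Sum.inr ⟨g * t, hanti g hg⟩
    have hf : Function.Injective f := by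
      intro a b e
      simp only [f] at e
      split at e <;> split at e
      · exact Subtype.ext (congrArg (Sum.elim Subtype.val Subtype.val) e)
      · exact absurd e (by simp)
      · exact absurd e (by simp)
      · exact Subtype.ext (mul_right_cancel (congrArg (Sum.elim Subtype.val Subtype.val) e))
    have := Nat.card_le_card_of_injective f hf
    rw [Nat.card_sum] at this
    have := card_LSub h
    omega

end CfsgLib.Sporadic.LargeFischer.Hexa
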