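import Cfsg.Agent.Lib.Sporadic.LargeFischer.Setup

/-!
# Sylow two-subgroups and elementary abelian subgroups of order `2¹¹`
-/

set_option autoImplicit false
set_option linter.style.haveILetI false
set_option linter.unusedSectionVars false

namespace CfsgLib.Sporadic.LargeFischer.Hexa

open CfsgLib.Sporadic.LargeFischer CfsgLib.ThreeTransp.Extraspecial

/-- The statement on the elementary abelian subgroups of a Sylow subgroup of the centraliser. -/
def MaxAb {G : Type*} [Group G] (z : G) : Prop :=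
  ∀ T : Sylow 2 ↥(Subgroup.centralizer ({z} : Set G)),
    ∃ A : Subgroup ↥(T : Subgroup (Subgroup.centralizer ({z} : Set G))),
      Cfsg.maxElementaryAbelianSubgroups 2 ↥(T : Subgroup (Subgroup.centralizer ({z} : Set G))) = {A} ∧ Nat.card A = 2 ^ 11

/-- Uniqueness and maximality in the whole group. -/
def UniqAb (G : Type*) [Group G] : Prop :=
  ∀ P : Subgroup G, IsPGroup 2 P → ∀ A B : Subgroup G, A ≤ P → B ≤ P → Cfsg.IsElementaryAbelian 2 A →
    Cfsg.IsElementaryAbelian 2 B → Nat.card A = 2 ^ 11 → Nat.card B ≤ 2 ^ 11 ∧ (Nat.card B = 2 ^ 11 → B = A)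

theorem isElementaryAbelian_comap {G H : Type*} [Group G] [Group H] {f : H →* G} (hf : Function.Injective f)
    {B : Subgroup G} (hB : Cfsg.IsElementaryAbelian 2 B) : Cfsg.IsElementaryAbelian 2 (B.comap f) := by
  refine ⟨⟨⟨fun a b => Subtype.ext (hf ?_)⟩⟩, fun a ha => hf ?_⟩
  · have h := hB.1.is_comm.comm (⟨f a, a.2⟩ : ↥B) ⟨f b, b.2⟩
    rw [Subgroup.coe_mul, Subgroup.coe_mul, map_mul, map_mul]
    exact congrArg Subtype.val h
  · rw [map_pow, map_one]
    exact hB.2 _ ha

theorem card_comap_of_le {G H : Type*} [Group G] [Group H] {f : H →* G} (hf : Function.Injective f)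
    {B : Subgroup G} (hB : B ≤ f.range) : Nat.card ↥(B.comap f) = Nat.card B := by
  rw [← Subgroup.card_map_of_injective hf, Subgroup.map_comap_eq_self hB]

variable {G : Type*} [Group G] [Finite G] {z : G} {Q : Subgroup (Subgroup.centralizer ({z} : Set G))} [Q.Normal]
  {π : G → V6} {ψ : ↥(Subgroup.centralizer ({z} : Set G)) →* (V6 ≃ₗ[ZMod 2] V6)} (h : LFBase z (qImg Q) π ψ)
include h

theorem exists_sylow : ∃ (S : Sylow 2 G) (T : Sylow 2 ↥(Subgroup.centralizer ({z} : Set G))),
    (S : Subgroup G) = (T : Subgroup _).map (Subgroup.centralizer ({z} : Set G)).subtype := by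
  haveI : Fact (Nat.Prime 2) := ⟨Nat.prime_two⟩
  obtain ⟨T⟩ : Nonempty (Sylow 2 ↥(Subgroup.centralizer ({z} : Set G))) := inferInstance
  set P := (T : Subgroup ↥(Subgroup.centralizer ({z} : Set G))).map (Subgroup.centralizer ({z} : Set G)).subtype with hP
  have hPG : IsPGroup 2 ↥P := T.isPGroup'.map _
  obtain ⟨S, hS⟩ := hPG.exists_le_sylow
  have hQ : IsPGroup 2 ↥Q := IsPGroup.of_card (n := 13) (by
    rw [Nat.card_congr (Subgroup.equivMapOfInjective Q (Subgroup.centralizer ({z} : Set G)).subtype (Subgroup.centralizer ({z} : Set G)).subtype_injective).toEquiv]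
    exact h.card_Q.trans (by norm_num))
  have hQT : Q ≤ (T : Subgroup ↥(Subgroup.centralizer ({z} : Set G))) := by
    obtain ⟨T', hT'⟩ := hQ.exists_le_sylow
    obtain ⟨g, hg⟩ := MulAction.exists_smul_eq (↥(Subgroup.centralizer ({z} : Set G))) T' T
    intro q hq
    rw [← hg, Sylow.coe_subgroup_smul, Subgroup.mem_pointwise_smul_iff_inv_smul_mem]
    exact hT' (by
      have := Subgroup.Normal.conj_mem' (inferInstance : Q.Normal) q hq g
      simpa [MulAut.conj] using this)
  have hQP : qImg Q ≤ P := Subgroup.map_mono hQT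
  -- the elements of `S` normalising `P` lie in the centraliser
  have key : ∀ g ∈ Subgroup.normalizer (P : Set G), g ∈ (Subgroup.centralizer ({z} : Set G)) := by
    intro g hg
    have hzP : g * z * g⁻¹ ∈ P := (Subgroup.mem_normalizer_iff.1 hg z).1 (hQP h.extra.z_mem)
    have hcomm : ∀ a ∈ qImg Q, g * z * g⁻¹ * a = a * (g * z * g⁻¹) := by
      intro a ha
      have h1 : g⁻¹ * a * g ∈ P := by
        rw [Subgroup.mem_normalizer_iff.1 hg]
        simpa [mul_assoc] using hQP ha
      have h2 : g⁻¹ * a * g * z = z * (g⁻¹ * a * g) := Subgroup.mem_centralizer_singleton_iff.1 (Subgroup.map_subtype_le _ h1)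
      calc g * z * g⁻¹ * a = g * (z * (g⁻¹ * a * g)) * g⁻¹ := by group
        _ = a * (g * z * g⁻¹) := by rw [← h2]; group
    have hmem := h.cent_le _ hcomm
    rcases h.extra.mem_center_cases hmem (fun q hq => (hcomm q hq)) with e | e
    · exact absurd (conj_eq_one_iff.1 e) h.extra.z_ne
    · exact Subgroup.mem_centralizer_singleton_iff.2 (mul_inv_eq_iff_eq_mul.1 e)
  refine ⟨S, T, (le_antisymm hS ?_).symm⟩
  by_contra hle
  -- the normaliser grows
  have hlt : P.subgroupOf (S : Subgroup G) < ⊤ := lt_top_iff_ne_top.2 fun e => hle (Subgroup.subgroupOf_eq_top.1 e)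
  haveI : Group.IsNilpotent ↥(S : Subgroup G) := S.isPGroup'.isNilpotent
  obtain ⟨g, hgn, hgP⟩ := SetLike.exists_of_lt (Group.normalizerCondition_of_isNilpotent _ hlt)
  have hgN : (g : G) ∈ Subgroup.normalizer (P : Set G) := by
    refine Subgroup.mem_normalizer_iff.2 fun a => ?_
    constructor
    · intro ha
      exact (Subgroup.mem_normalizer_iff.1 hgn ⟨a, hS ha⟩).1 ha
    · intro ha
      have haS : a ∈ (S : Subgroup G) := by
        have := mul_mem (mul_mem (inv_mem g.2) (hS ha)) g.2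
        simpa [mul_assoc] using this
      exact (Subgroup.mem_normalizer_iff.1 hgn ⟨a, haS⟩).2 ha
  have hgC := key _ hgN
  have hSC : IsPGroup 2 ↥((S : Subgroup G).subgroupOf (Subgroup.centralizer ({z} : Set G))) :=
    S.isPGroup'.comap_of_injective (Subgroup.centralizer ({z} : Set G)).subtype (Subgroup.centralizer ({z} : Set G)).subtype_injective
  have hTle : (T : Subgroup ↥(Subgroup.centralizer ({z} : Set G))) ≤ (S : Subgroup G).subgroupOf (Subgroup.centralizer ({z} : Set G)) := fun t ht => hS ⟨t, ht, rfl⟩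
  have := T.is_maximal' hSC hTle
  exact hgP (Subgroup.mem_subgroupOf.2 ⟨⟨g, hgC⟩, this ▸ (g.2 : (⟨(g : G), hgC⟩ : ↥(Subgroup.centralizer ({z} : Set G))) ∈ (S : Subgroup G).subgroupOf (Subgroup.centralizer ({z} : Set G))), rfl⟩)

theorem uniqAb (hJ : MaxAb z) : UniqAb G := by
  haveI : Fact (Nat.Prime 2) := ⟨Nat.prime_two⟩
  obtain ⟨S, T, hST⟩ := exists_sylow h
  intro P hP A B hAP hBP hA hB hAc
  obtain ⟨S', hS'⟩ := hP.exists_le_sylow
  obtain ⟨g, hg⟩ := MulAction.exists_smul_eq G S' S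
  set f : ↥(T : Subgroup ↥(Subgroup.centralizer ({z} : Set G))) →* G :=
    (MulAut.conj g⁻¹).toMonoidHom.comp ((Subgroup.centralizer ({z} : Set G)).subtype.comp (T : Subgroup ↥(Subgroup.centralizer ({z} : Set G))).subtype) with hf
  have hinj : Function.Injective f := fun a b e =>
    Subtype.ext (Subtype.ext ((MulAut.conj g⁻¹).injective e))
  have hrange : (S' : Subgroup G) ≤ f.range := by
    intro a ha
    have h1 : g * a * g⁻¹ ∈ (S : Subgroup G) := by
      rw [← hg, Sylow.coe_subgroup_smul, Subgroup.mem_pointwise_smul_iff_inv_smul_mem]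
      simpa [MulAut.conj, mul_assoc] using ha
    rw [hST] at h1
    obtain ⟨t, ht, et⟩ := h1
    refine ⟨⟨t, ht⟩, ?_⟩
    show g⁻¹ * (t : G) * g⁻¹⁻¹ = a
    rw [show (t : G) = g * a * g⁻¹ from et]; group
  obtain ⟨A₀, hA₀, hA₀c⟩ := hJ T
  have hmem : ∀ D : Subgroup G, D ≤ (S' : Subgroup G) → Cfsg.IsElementaryAbelian 2 D →
      Nat.card D ≤ 2 ^ 11 ∧ (Nat.card D = 2 ^ 11 → D.comap f = A₀) := by
    intro D hD hDe
    have hA₀m : A₀ ∈ Cfsg.maxElementaryAbelianSubgroups 2 ↥(T : Subgroup _) := hA₀ ▸ Set.mem_singleton _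
    have hc := card_comap_of_le hinj (hD.trans hrange)
    have he := isElementaryAbelian_comap hinj hDe
    refine ⟨by rw [← hc, ← hA₀c]; exact hA₀m.2 _ he, fun hD11 => ?_⟩
    have : D.comap f ∈ Cfsg.maxElementaryAbelianSubgroups 2 ↥(T : Subgroup _) :=
      ⟨he, fun B hB => (hA₀m.2 B hB).trans (le_of_eq (by rw [hc, hD11, hA₀c]))⟩
    rwa [hA₀] at this
  refine ⟨(hmem B (hBP.trans hS') hB).1, fun hBc => ?_⟩
  have e : B.comap f = A.comap f := ((hmem B (hBP.trans hS') hB).2 hBc).trans ((hmem A (hAP.trans hS') hA).2 hAc).symm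
  rw [← Subgroup.map_comap_eq_self ((hBP.trans hS').trans hrange), e,
    Subgroup.map_comap_eq_self ((hAP.trans hS').trans hrange)]

omit h in
/-- The Thompson subgroup of a Sylow subgroup. -/
theorem thompson_eq (hU : UniqAb G) {A₁ : Subgroup G} (hA : Cfsg.IsElementaryAbelian 2 A₁)
    (hc : Nat.card A₁ = 2 ^ 11) (T : Sylow 2 G) :
    ∃ g : G, Cfsg.thompsonSubgroupOf 2 (T : Subgroup G) = A₁.map (MulAut.conj g).toMonoidHom := by
  haveI : Fact (Nat.Prime 2) := ⟨Nat.prime_two⟩
  obtain ⟨S, hS⟩ := (IsPGroup.of_card hc : IsPGroup 2 ↥A₁).exists_le_sylow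
  obtain ⟨g, hg⟩ := MulAction.exists_smul_eq G S T
  set A := A₁.map (MulAut.conj g).toMonoidHom with hAdef
  have hinj : Function.Injective (MulAut.conj g).toMonoidHom := (MulAut.conj g).injective
  have hAT : A ≤ (T : Subgroup G) := by
    rw [← hg, Sylow.coe_subgroup_smul]
    exact Subgroup.map_mono hS
  have hAc : Nat.card A = 2 ^ 11 := by rw [hAdef, Subgroup.card_map_of_injective hinj, hc]
  have hAe : Cfsg.IsElementaryAbelian 2 A := by
    refine ⟨⟨⟨?_⟩⟩, ?_⟩
    · rintro ⟨_, a, ha, rfl⟩ ⟨_, b, hb, rfl⟩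
      have := congrArg Subtype.val (hA.1.is_comm.comm (⟨a, ha⟩ : ↥A₁) ⟨b, hb⟩)
      exact Subtype.ext ((map_mul _ _ _).symm.trans ((congrArg _ this).trans (map_mul _ _ _)))
    · rintro _ ⟨a, ha, rfl⟩
      rw [← map_pow, hA.2 a ha, map_one]
  refine ⟨g, ?_⟩
  have hsub : Function.Injective (T : Subgroup G).subtype := Subgroup.subtype_injective _
  have hmax : Cfsg.maxElementaryAbelianSubgroups 2 ↥(T : Subgroup G) = {A.comap (T : Subgroup G).subtype} := by
    have hAle : A ≤ (T : Subgroup G).subtype.range := by rw [Subgroup.range_subtype]; exact hAT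
    have hAm : Nat.card ↥(A.comap (T : Subgroup G).subtype) = 2 ^ 11 := by rw [card_comap_of_le hsub hAle, hAc]
    have key : ∀ B : Subgroup ↥(T : Subgroup G), Cfsg.IsElementaryAbelian 2 B →
        Nat.card B ≤ 2 ^ 11 ∧ (Nat.card B = 2 ^ 11 → B = A.comap (T : Subgroup G).subtype) := by
      intro B hB
      have hBe : Cfsg.IsElementaryAbelian 2 (B.map (T : Subgroup G).subtype) := by
        refine ⟨⟨⟨?_⟩⟩, ?_⟩
        · rintro ⟨_, a, ha, rfl⟩ ⟨_, b, hb, rfl⟩
          have := congrArg Subtype.val (hB.1.is_comm.comm (⟨a, ha⟩ : ↥B) ⟨b, hb⟩)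
          exact Subtype.ext ((map_mul _ _ _).symm.trans ((congrArg _ this).trans (map_mul _ _ _)))
        · rintro _ ⟨a, ha, rfl⟩
          rw [← map_pow, hB.2 a ha, map_one]
      obtain ⟨h1, h2⟩ := hU T T.isPGroup' A _ hAT (Subgroup.map_subtype_le B) hAe hBe hAc
      rw [Subgroup.card_map_of_injective hsub] at h1 h2
      exact ⟨h1, fun e => by rw [← h2 e, Subgroup.comap_map_eq_self_of_injective hsub]⟩
    ext B
    refine ⟨fun hB => (key B hB.1).2 (le_antisymm (key B hB.1).1 ?_), fun hB => ?_⟩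
    · rw [← hAm]; exact hB.2 _ (isElementaryAbelian_comap hsub hAe)
    · rw [Set.mem_singleton_iff] at hB
      subst hB
      exact ⟨isElementaryAbelian_comap hsub hAe, fun B' hB' => hAm ▸ (key B' hB').1⟩
  rw [Cfsg.thompsonSubgroupOf, Cfsg.thompsonSubgroup, hmax, sSup_singleton,
    Subgroup.map_comap_eq_self (by rw [Subgroup.range_subtype]; exact hAT)]

end CfsgLib.Sporadic.LargeFischer.Hexa
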